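import Cfsg.Agent.H35.D4Cover.Coords
import Cfsg.Agent.H35.D4Min.Orbit
import Cfsg.Agent.H52.TwistOrderD4

/-!
³D₄(q): the big cell `U·L·U⁻` contains more than half of the group.
-/

set_option autoImplicit false
set_option linter.unusedSectionVars false

open Cfsg.Lie
open scoped MatrixGroups

namespace H35.D4Cover

open D4Min (Frob tc Fx)

variable {K : Type*} [Field K]

/-- The radical of the parabolic. -/
def UP (K : Type*) [Field K] (q : ℕ) : Subgroup (GL chevD4.Idx K) :=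
  twistedD4 K q ⊓ H52.uniGroup lev K 1

/-- The opposite radical. -/
def UM (K : Type*) [Field K] (q : ℕ) : Subgroup (GL chevD4.Idx K) :=
  twistedD4 K q ⊓ H52.uniGroup levN K 1

/-- The Levi subgroup. -/
def LL (K : Type*) [Field K] (q : ℕ) : Subgroup (GL chevD4.Idx K) :=
  twistedD4 K q ⊓ H52.levelGroup lev K

theorem UP_tw {q : ℕ} {g : GL chevD4.Idx K} (h : g ∈ UP K q) : g ∈ twistedD4 K q := h.1

theorem UM_tw {q : ℕ} {g : GL chevD4.Idx K} (h : g ∈ UM K q) : g ∈ twistedD4 K q := h.1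

theorem LL_tw {q : ℕ} {g : GL chevD4.Idx K} (h : g ∈ LL K q) : g ∈ twistedD4 K q := h.1

theorem UP_uni_mem {q : ℕ} {g : GL chevD4.Idx K} (h : g ∈ UP K q) : g ∈ H52.uniGroup lev K 1 := h.2

theorem UM_uni_mem {q : ℕ} {g : GL chevD4.Idx K} (h : g ∈ UM K q) : g ∈ H52.uniGroup levN K 1 := h.2

theorem LL_level_mem {q : ℕ} {g : GL chevD4.Idx K} (h : g ∈ LL K q) : g ∈ H52.levelGroup lev K := h.2

theorem level_flip {g : GL chevD4.Idx K} (hg : g ∈ H52.levelGroup lev K) : g ∈ H52.levelGroup levN K := by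
  have h : ∀ y z : chevD4.Idx, levN y ≠ levN z → lev y ≠ lev z := by
    intro y z h
    have := dg_bound y
    have := dg_bound z
    simp only [lev, levN] at *
    omega
  exact ⟨fun y z hyz => hg.1 y z (h y z hyz), fun y z hyz => hg.2 y z (h y z hyz)⟩

theorem UP_conj {q : ℕ} {l u : GL chevD4.Idx K} (hl : l ∈ LL K q) (hu : u ∈ UP K q) :
    l * u * l⁻¹ ∈ UP K q :=
  Subgroup.mem_inf.2 ⟨mul_mem (mul_mem (LL_tw hl) (UP_tw hu)) (inv_mem (LL_tw hl)), level_lev hl.2 hu.2⟩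

theorem UM_conj {q : ℕ} {l u : GL chevD4.Idx K} (hl : l ∈ LL K q) (hu : u ∈ UM K q) :
    l * u * l⁻¹ ∈ UM K q :=
  Subgroup.mem_inf.2 ⟨mul_mem (mul_mem (LL_tw hl) (UM_tw hu)) (inv_mem (LL_tw hl)), level_levN hl.2 hu.2⟩

theorem cell_inj {q : ℕ} {u u' l l' w w' : GL chevD4.Idx K} (hu : u ∈ UP K q) (hu' : u' ∈ UP K q)
    (hl : l ∈ LL K q) (hl' : l' ∈ LL K q) (hw : w ∈ UM K q) (hw' : w' ∈ UM K q)
    (h : u * l * w = u' * l' * w') : u = u' ∧ l = l' ∧ w = w' := by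
  have e : u'⁻¹ * u = (l' * l⁻¹) * (l * (w' * w⁻¹) * l⁻¹) := by
    rw [show u = u' * l' * w' * (w⁻¹ * l⁻¹) by rw [← h]; group]
    group
  have h1 := cell_unique (mul_mem (inv_mem (UP_uni_mem hu')) (UP_uni_mem hu)) (mul_mem (LL_level_mem hl') (inv_mem (LL_level_mem hl)))
    (level_levN hl.2 (mul_mem (UM_uni_mem hw') (inv_mem (UM_uni_mem hw)))) e
  have eu : u = u' := (inv_mul_eq_one.1 h1).symm
  subst eu
  have e2 : l * w = l' * w' := by simpa only [mul_assoc, mul_right_inj] using h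
  have e3 : w * w'⁻¹ = l⁻¹ * l' := by
    rw [show w = l⁻¹ * (l' * w') by rw [← e2]; group]; group
  have h3 : w * w'⁻¹ ∈ (⊥ : Subgroup (GL chevD4.Idx K)) := by
    rw [← H52.uniGroup_inf_levelGroup levN]
    exact Subgroup.mem_inf.2 ⟨mul_mem (UM_uni_mem hw) (inv_mem (UM_uni_mem hw')), by rw [e3]; exact level_flip (mul_mem (inv_mem (LL_level_mem hl)) (LL_level_mem hl'))⟩
  rw [Subgroup.mem_bot] at h3
  rw [h3, eq_comm, inv_mul_eq_one] at e3
  exact ⟨rfl, e3, mul_inv_eq_one.1 h3⟩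

variable [Fintype K] {q : ℕ} {f : K ≃+* K} (hf : Frob q f) (hq : IsPrimePow q)
  (hK : Fintype.card K = q ^ 3)
include hf hq hK

theorem card_params : Nat.card (K × K × K × ↥(Fx f) × ↥(Fx f)) = q ^ 11 := by
  simp only [Nat.card_prod, D4Min.card_Fx hf hq hK, Nat.card_eq_fintype_card (α := K), hK]
  ring

/-- The parametrisation of the radical. -/
noncomputable def upF (p : K × K × K × ↥(Fx f) × ↥(Fx f)) : GL chevD4.Idx K :=
  up f p.1 p.2.1 p.2.2.1 p.2.2.2.1 p.2.2.2.2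

theorem upF_inj : Function.Injective (upF (f := f)) := by
  intro p p' h
  obtain ⟨h1, h2, h3, h4, h5⟩ := up_inj hf h
  exact Prod.ext h1 (Prod.ext h2 (Prod.ext h3 (Prod.ext (Subtype.ext h4) (Subtype.ext h5))))

theorem upF_UP (p : K × K × K × ↥(Fx f) × ↥(Fx f)) : upF (f := f) p ∈ UP K q :=
  have h := up_UU hf p.1 p.2.1 p.2.2.1 p.2.2.2.1.2 p.2.2.2.2.2
  ⟨UU_twisted hf h, UU_uni hf h⟩

theorem w0_up_UM (p : K × K × K × ↥(Fx f) × ↥(Fx f)) :
    w0 K * upF (f := f) p * (w0 K)⁻¹ ∈ UM K q := by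
  refine Subgroup.mem_inf.2 ⟨mul_mem (mul_mem (w0_mem hf) (UP_tw (upF_UP hf hq hK p))) (inv_mem (w0_mem hf)), ?_⟩
  have hr : ∀ r ∈ [18, 13, 12, 19, 16, 15, 17, 20, 21, 22, 23],
      r < 24 ∧ ((1 : ℕ) : ℤ) ≤ -deg (23 - r) := by decide +kernel
  refine up_mem_of (f := f) (H := (H52.uniGroup levN K 1).comap (MulAut.conj (w0 K)).toMonoidHom)
    p.1 p.2.1 p.2.2.1 p.2.2.2.1 p.2.2.2.2 fun r h t => ?_
  obtain ⟨e, -, he⟩ := mv_w0 (K := K) (hr r h).1
  show w0 K * H52.rt chevD4 r t * (w0 K)⁻¹ ∈ H52.uniGroup levN K 1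
  rw [he]
  exact x_mem_uniN (by omega) (hr r h).2 _

/-- Parameters for elements of the Levi subgroup. -/
abbrev LPar (f : K ≃+* K) : Type _ :=
  Kˣ × ({p : ↥(Fx f) // p ≠ 0} × ↥(Fx f) ⊕ {r : ↥(Fx f) // r ≠ 0} × ↥(Fx f) × ↥(Fx f))

theorem card_LPar : Nat.card (LPar f) = (q ^ 3 - 1) * (q * (q ^ 2 - 1)) := by
  classical
  have h0 : Nat.card {p : ↥(Fx f) // p ≠ 0} = q - 1 := by
    rw [Nat.card_eq_fintype_card, Fintype.card_subtype_compl, Fintype.card_subtype_eq,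
      ← Nat.card_eq_fintype_card, D4Min.card_Fx hf hq hK]
  rw [Nat.card_prod, Nat.card_sum, Nat.card_prod, Nat.card_prod, Nat.card_prod, h0, D4Min.card_Fx hf hq hK,
    Nat.card_units, Nat.card_eq_fintype_card, hK]
  congr 1
  have h2 := hq.two_le
  obtain ⟨n, rfl⟩ : ∃ n, q = n + 1 := ⟨q - 1, by omega⟩
  simp only [Nat.add_sub_cancel, show (n + 1) ^ 2 - 1 = n * n + 2 * n by ring_nf; omega]
  ring

omit hK hq in
/-- The matrix of a parameter. -/
noncomputable def lMat (p : {p : ↥(Fx f) // p ≠ 0} × ↥(Fx f) ⊕ {r : ↥(Fx f) // r ≠ 0} × ↥(Fx f) × ↥(Fx f)) :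
    Matrix.SpecialLinearGroup (Fin 2) K :=
  match p with
  | Sum.inl p => ⟨!![(p.1.1 : K), p.2; 0, (p.1.1 : K)⁻¹], by
      have : (p.1.1 : K) ≠ 0 := fun h => p.1.2 (Subtype.ext h)
      rw [Matrix.det_fin_two_of, mul_inv_cancel₀ this, mul_zero, sub_zero]⟩
  | Sum.inr p => ⟨!![(p.2.1 : K), ((p.2.1 : K) * p.2.2 - 1) / p.1.1; (p.1.1 : K), p.2.2], by
      have : (p.1.1 : K) ≠ 0 := fun h => p.1.2 (Subtype.ext h)
      rw [Matrix.det_fin_two_of]; field_simp; ring⟩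

omit hK hq in
theorem lMat_inj : Function.Injective (lMat (f := f)) := by
  intro p p' h
  have e : ∀ i j, (lMat (f := f) p).1 i j = (lMat (f := f) p').1 i j := fun i j => by rw [h]
  rcases p with ⟨⟨a, ha⟩, b⟩ | ⟨⟨r, hr⟩, a, t⟩ <;> rcases p' with ⟨⟨a', ha'⟩, b'⟩ | ⟨⟨r', hr'⟩, a', t'⟩
  · have e0 := e 0 0
    have e1 := e 0 1
    simp [lMat] at e0 e1
    subst e0 e1; rfl
  · have e0 := e 1 0
    simp [lMat] at e0
    exact absurd (Subtype.ext e0.symm) hr'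
  · have e0 := e 1 0
    simp [lMat] at e0
    exact absurd e0 hr
  · have e0 := e 1 0
    have e1 := e 0 0
    have e2 := e 1 1
    simp [lMat] at e0 e1 e2
    subst e0 e1 e2; rfl

omit hK hq in
theorem lMat_fix (p : {p : ↥(Fx f) // p ≠ 0} × ↥(Fx f) ⊕ {r : ↥(Fx f) // r ≠ 0} × ↥(Fx f) × ↥(Fx f)) (i j : Fin 2) :
    f ((lMat (f := f) p).1 i j) = (lMat (f := f) p).1 i j := by
  have h : ∀ a : ↥(Fx f), f (a : K) = a := fun a => a.2
  rcases p with ⟨a, b⟩ | ⟨r, a, t⟩ <;> fin_cases i <;> fin_cases j <;>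
    simp [lMat, h, map_inv₀, map_div₀]

omit hK hq in
/-- The element of a parameter. -/
noncomputable def lPar (p : LPar f) : GL chevD4.Idx K :=
  lv f (p.1, nG f p.1 * Matrix.SpecialLinearGroup.toGL (lMat (f := f) p.2))

omit hK hq in
theorem nG_fix (c : Kˣ) (i j : Fin 2) : f ((nG f c).1 i j) = (nG f c).1 i j := by
  fin_cases i <;> fin_cases j <;> simp [nG, D4Torus.dGL, hf.three, mul_comm, mul_left_comm]

omit hK hq in
theorem lPar_LL (p : LPar f) : lPar (f := f) p ∈ LL K q := by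
  refine ⟨lv_mem hf fun i j => ?_, lv_level f _⟩
  show f (((nG f p.1).1 * (lMat (f := f) p.2).1) i j) = ((nG f p.1).1 * (lMat (f := f) p.2).1) i j
  simp only [Matrix.mul_apply, Fin.sum_univ_two, map_add, map_mul, nG_fix hf, lMat_fix hf]

omit hK hq in
theorem lv_eq_one {c : Kˣ} {A : GL (Fin 2) K} (hA : ∀ i j, f (A.1 i j) = A.1 i j) (h : lv f (c, A) = 1) :
    f (c : K) = c ∧ A = D4Torus.sGL c := by
  refine D4Torus.levi_inj hf hA ?_
  rw [lv_apply] at h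
  calc _ = mE K * ((mE K)⁻¹ * (H52.torus chevD4 (tc f c 1) * D4Torus.gl2 K A) * mE K) * (mE K)⁻¹ := by group
    _ = 1 := by rw [h]; group

omit hK hq in
theorem lPar_inj : Function.Injective (lPar (f := f)) := by
  rintro ⟨c, p⟩ ⟨c', p'⟩ h
  set X := (nG f c * Matrix.SpecialLinearGroup.toGL (lMat (f := f) p))⁻¹ *
    (nG f c' * Matrix.SpecialLinearGroup.toGL (lMat (f := f) p'))
  have h1 : lv f (c⁻¹ * c', X) = 1 := by
    rw [show ((c⁻¹ * c', X) : Kˣ × GL (Fin 2) K) = (c, nG f c * Matrix.SpecialLinearGroup.toGL (lMat (f := f) p))⁻¹ *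
      (c', nG f c' * Matrix.SpecialLinearGroup.toGL (lMat (f := f) p')) from rfl, map_mul, map_inv]
    rw [show lv f (c, nG f c * _) = lPar (f := f) (c, p) from rfl, h]
    exact inv_mul_cancel _
  have hX : ∀ i j, f (X.1 i j) = X.1 i j := by
    intro i j
    have hm : X ∈ MonoidHom.eqLocus (Matrix.GeneralLinearGroup.map (n := Fin 2) f.toRingHom)
        (MonoidHom.id (GL (Fin 2) K)) := by
      have hg : ∀ (M : GL (Fin 2) K), (∀ i j, f (M.1 i j) = M.1 i j) →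
          M ∈ MonoidHom.eqLocus (Matrix.GeneralLinearGroup.map (n := Fin 2) f.toRingHom)
            (MonoidHom.id (GL (Fin 2) K)) := fun M hM => Units.ext (Matrix.ext fun i j => hM i j)
      exact mul_mem (inv_mem (mul_mem (hg _ (nG_fix hf c)) (hg _ (lMat_fix hf p))))
        (mul_mem (hg _ (nG_fix hf c')) (hg _ (lMat_fix hf p')))
    exact congrArg (fun M : GL (Fin 2) K => M.1 i j) hm
  obtain ⟨he, hs⟩ := lv_eq_one hf hX h1
  set e := c⁻¹ * c'
  have hd := congrArg Matrix.GeneralLinearGroup.det hs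
  have hdet : ∀ (c : Kˣ) p, Matrix.GeneralLinearGroup.det (nG f c * Matrix.SpecialLinearGroup.toGL (lMat (f := f) p)) =
      c * Units.map f.toMonoidHom c * Units.map f.toMonoidHom (Units.map f.toMonoidHom c) := fun c p => by
    apply Units.ext
    show ((nG f c).1 * (lMat (f := f) p).1).det = _
    rw [Matrix.det_mul, (lMat (f := f) p).2, mul_one]
    simp [nG, D4Torus.dGL, Matrix.det_fin_two_of]
  simp only [X, map_mul, map_inv] at hd
  rw [← map_mul, hdet, ← map_mul, hdet] at hd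
  have hd' := congrArg Units.val hd
  have he' : f (f (e : K)) = e := by rw [he, he]
  have h3 : (e : K) * f e * f (f e) = (e : K) * e := by
    have : (c : K) ≠ 0 := c.ne_zero
    have : f (c : K) ≠ 0 := (map_ne_zero f).2 c.ne_zero
    have : f (f (c : K)) ≠ 0 := (map_ne_zero f).2 ((map_ne_zero f).2 c.ne_zero)
    simp [e, D4Torus.sGL, Matrix.det_fin_two_of] at hd' ⊢
    field_simp at hd' ⊢
    linear_combination hd'
  rw [he', he] at h3
  have e1 : (e : K) = 1 := by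
    have := e.ne_zero
    exact mul_left_cancel₀ (mul_ne_zero this this) (by rw [mul_one]; exact h3)
  have ec : c = c' := inv_mul_eq_one.1 (Units.ext e1 : e = 1)
  subst ec
  have es : D4Torus.sGL e = 1 := by
    apply Units.ext; ext i j; fin_cases i <;> fin_cases j <;> simp [D4Torus.sGL, e1]
  rw [es, inv_mul_eq_one, mul_right_inj] at hs
  exact Prod.ext rfl (lMat_inj hf (Subtype.ext (congrArg Units.val hs)))

theorem card_lt : Nat.card ↥(twistedD4 K q) < 2 * ((q ^ 11) * ((q ^ 3 - 1) * (q * (q ^ 2 - 1))) * q ^ 11) := by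
  rw [H52.d4t_card hq hK]
  have h2 := hq.two_le
  have e6 : q ^ 6 - 1 = (q ^ 3 - 1) * (q ^ 3 + 1) := by
    rw [Nat.mul_comm, ← Nat.sq_sub_sq, one_pow, ← pow_mul]
  have hlt : (q ^ 3 + 1) * (q ^ 8 + q ^ 4 + 1) < 2 * q ^ 11 := by
    have h3 : q ^ 8 * 8 ≤ q ^ 8 * q ^ 3 := Nat.mul_le_mul le_rfl (Nat.pow_le_pow_left h2 3)
    have h1 : ∀ i ≤ 8, q ^ i ≤ q ^ 8 := fun i hi => Nat.pow_le_pow_right (by omega) hi
    have := h1 7 (by norm_num); have := h1 4 (by norm_num); have := h1 3 (by norm_num)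
    have h0 : 1 ≤ q ^ 8 := Nat.one_le_pow _ _ (by omega)
    rw [← pow_add] at h3
    have e : (q ^ 3 + 1) * (q ^ 8 + q ^ 4 + 1) = q ^ 11 + q ^ 8 + q ^ 7 + q ^ 4 + q ^ 3 + 1 := by ring
    norm_num at h3
    omega
  have hpos : 0 < q ^ 12 * (q ^ 2 - 1) * (q ^ 3 - 1) := by
    have : 2 ≤ q ^ 2 := le_trans h2 (Nat.le_self_pow (by norm_num) q)
    have : 2 ≤ q ^ 3 := le_trans h2 (Nat.le_self_pow (by norm_num) q)
    exact Nat.mul_pos (Nat.mul_pos (pow_pos (by omega) _) (by omega)) (by omega)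
  rw [e6]
  calc q ^ 12 * (q ^ 2 - 1) * ((q ^ 3 - 1) * (q ^ 3 + 1)) * (q ^ 8 + q ^ 4 + 1)
      = q ^ 12 * (q ^ 2 - 1) * (q ^ 3 - 1) * ((q ^ 3 + 1) * (q ^ 8 + q ^ 4 + 1)) := by ring
    _ < q ^ 12 * (q ^ 2 - 1) * (q ^ 3 - 1) * (2 * q ^ 11) := Nat.mul_lt_mul_of_pos_left hlt hpos
    _ = _ := by ring

/-- The parametrised piece of the big cell. -/
noncomputable def cellMap (p : (K × K × K × ↥(Fx f) × ↥(Fx f)) × LPar f × (K × K × K × ↥(Fx f) × ↥(Fx f))) :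
    ↥(twistedD4 K q) :=
  ⟨upF (f := f) p.1 * lPar (f := f) p.2.1 * (w0 K * upF (f := f) p.2.2 * (w0 K)⁻¹),
    mul_mem (mul_mem (upF_UP hf hq hK _).1 (lPar_LL hf _).1) (w0_up_UM hf hq hK _).1⟩

theorem cellMap_inj : Function.Injective (cellMap hf hq hK) := by
  intro p p' h
  obtain ⟨h1, h2, h3⟩ := cell_inj (upF_UP hf hq hK _) (upF_UP hf hq hK _) (lPar_LL hf _) (lPar_LL hf _)
    (w0_up_UM hf hq hK _) (w0_up_UM hf hq hK _) (congrArg Subtype.val h)
  exact Prod.ext (upF_inj hf hq hK h1)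
    (Prod.ext (lPar_inj hf h2) (upF_inj hf hq hK (mul_left_cancel (mul_right_cancel h3))))

/-- Two translates of the big cell meet. -/
theorem cell_meet (a b : ↥(twistedD4 K q)) (c d : ↥(twistedD4 K q)) :
    ∃ p p', a * cellMap hf hq hK p * b = c * cellMap hf hq hK p' * d := by
  classical
  by_contra hne
  push Not at hne
  let φ : _ ⊕ _ → ↥(twistedD4 K q) := Sum.elim (fun p => a * cellMap hf hq hK p * b) (fun p => c * cellMap hf hq hK p * d)
  have hφ : Function.Injective φ := by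
    rintro (p | p) (p' | p') h
    · exact congrArg Sum.inl (cellMap_inj hf hq hK (mul_left_cancel (mul_right_cancel h)))
    · exact absurd h (hne p p')
    · exact absurd h.symm (hne p' p)
    · exact congrArg Sum.inr (cellMap_inj hf hq hK (mul_left_cancel (mul_right_cancel h)))
  have hle := Nat.card_le_card_of_injective φ hφ
  simp only [Nat.card_sum, Nat.card_prod (K × K × K × ↥(Fx f) × ↥(Fx f)), Nat.card_prod (LPar f),
    card_params hf hq hK, card_LPar hf hq hK] at hle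
  have := card_lt hf hq hK
  rw [mul_assoc (q ^ 11)] at this
  omega

theorem mem_UP {g : GL chevD4.Idx K} (hg : g ∈ UP K q) :
    ∃ a B W S E, f S = S ∧ f E = E ∧ g = up f a B W S E := by
  by_contra hne
  obtain ⟨⟨p, l, w⟩, ⟨p', l', w'⟩, h⟩ := cell_meet hf hq hK ⟨g, hg.1⟩ 1 1 1
  have h' := congrArg Subtype.val h
  simp only [Subgroup.coe_mul, Subgroup.coe_one, one_mul, mul_one, cellMap, ← mul_assoc g] at h'
  obtain ⟨h1, -, -⟩ := cell_inj (mul_mem hg (upF_UP hf hq hK p)) (upF_UP hf hq hK p') (lPar_LL hf _)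
    (lPar_LL hf _) (w0_up_UM hf hq hK _) (w0_up_UM hf hq hK _) h'
  refine hne ((mem_UU hf).1 ?_)
  rw [eq_mul_inv_of_mul_eq h1]
  exact mul_mem (up_UU hf _ _ _ p'.2.2.2.1.2 p'.2.2.2.2.2)
    (inv_mem (up_UU hf _ _ _ p.2.2.2.1.2 p.2.2.2.2.2))

theorem mem_UM {w : GL chevD4.Idx K} (hw : w ∈ UM K q) : (w0 K)⁻¹ * w * w0 K ∈ UP K q := by
  obtain ⟨⟨p, l, p2⟩, ⟨p', l', p2'⟩, h⟩ := cell_meet hf hq hK 1 ⟨w, hw.1⟩ 1 1
  have h' := congrArg Subtype.val h
  simp only [Subgroup.coe_mul, Subgroup.coe_one, one_mul, mul_one, cellMap, mul_assoc _ _ w] at h'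
  obtain ⟨-, -, h3⟩ := cell_inj (upF_UP hf hq hK p) (upF_UP hf hq hK p') (lPar_LL hf _)
    (lPar_LL hf _) (mul_mem (w0_up_UM hf hq hK p2) hw) (w0_up_UM hf hq hK _) (l := lPar (f := f) l) (l' := lPar (f := f) l') (by rw [← h']; group)
  rw [eq_inv_mul_of_mul_eq h3]
  convert mul_mem (inv_mem (upF_UP hf hq hK p2)) (upF_UP hf hq hK p2') using 1
  group

theorem UP_to_UM {u : GL chevD4.Idx K} (hu : u ∈ UP K q) : w0 K * u * (w0 K)⁻¹ ∈ UM K q := by
  obtain ⟨a, B, W, S, E, hS, hE, rfl⟩ := mem_UP hf hq hK hu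
  exact w0_up_UM hf hq hK (a, B, W, ⟨S, hS⟩, ⟨E, hE⟩)

/-- Every element has a conjugate in the big cell. -/
theorem conj_cell (g : ↥(twistedD4 K q)) :
    ∃ z : GL chevD4.Idx K, z ∈ twistedD4 K q ∧ ∃ u ∈ UP K q, ∃ l ∈ LL K q, ∃ w ∈ UM K q,
      z * (g : GL chevD4.Idx K) * z⁻¹ = u * l * w := by
  obtain ⟨⟨p, l, p2⟩, ⟨p', l', p2'⟩, h⟩ := cell_meet hf hq hK g 1 1 1
  have h' := congrArg Subtype.val h
  simp only [Subgroup.coe_mul, Subgroup.coe_one, one_mul, mul_one, cellMap] at h'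
  set u := upF (f := f) p
  set u' := upF (f := f) p'
  set w := w0 K * upF (f := f) p2 * (w0 K)⁻¹
  set w' := w0 K * upF (f := f) p2' * (w0 K)⁻¹
  refine ⟨u⁻¹, inv_mem (UP_tw (upF_UP hf hq hK p)), u⁻¹ * u', mul_mem (inv_mem (upF_UP hf hq hK p)) (upF_UP hf hq hK p'),
    lPar (f := f) l' * (lPar (f := f) l)⁻¹, mul_mem (lPar_LL hf _) (inv_mem (lPar_LL hf _)),
    lPar (f := f) l * (w' * w⁻¹) * (lPar (f := f) l)⁻¹,
    UM_conj (lPar_LL hf _) (mul_mem (w0_up_UM hf hq hK _) (inv_mem (w0_up_UM hf hq hK _))), ?_⟩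
  rw [inv_inv, eq_mul_inv_of_mul_eq h']
  group

end H35.D4Cover
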