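import Cfsg.Agent.H35.D4Cover.Frame

/-!
³D₄: coordinates on the unipotent radical and the conjugation formulas.
-/

set_option autoImplicit false
set_option linter.unusedSectionVars false

open Cfsg.Lie
open scoped MatrixGroups

namespace H35.D4Cover

open D4Min (Frob tc nb na Nm Tr raw c18 c13 c12 Vec)

variable {K : Type*} [Field K]

local notation "x" => H52.rt chevD4

/-- Twisted coordinate vectors. -/
def tvec (f : K ≃+* K) (k B W S E : K) : Vec K := ⟨k, B, f B, f (f B), W, f W, f (f W), S, E⟩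

/-- The positive short root elements. -/
noncomputable def tA (f : K ≃+* K) (t : K) : GL chevD4.Idx K := x 18 t * x 13 (f t) * x 12 (f (f t))

/-- The negative short root elements. -/
noncomputable def tB (f : K ≃+* K) (t : K) : GL chevD4.Idx K := x 5 t * x 10 (f t) * x 11 (f (f t))

/-- The elements of the radical. -/
noncomputable def up (f : K ≃+* K) (a B W S E : K) : GL chevD4.Idx K :=
  tA f a * raw (tvec f 0 B W S E)

/-- The quadratic form in the `14`-coordinate after moving. -/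
def loK (f : K ≃+* K) (t k B W S : K) : K := k + Tr f (t * B) + Tr f (f t * f (f t) * W) + Nm f t * S

/-- The first layer after moving. -/
def loB (f : K ≃+* K) (t B W S : K) : K :=
  B + f (f t) * f W + f t * f (f W) + f t * f (f t) * S

/-- The central coordinate after moving. -/
def loE (f : K ≃+* K) (t k B W S E : K) : K :=
  E - k * S + Tr f (B * W)
    - (Tr f (f (f (-t)) * (-W) * f (-W)) + S * Tr f (f (-t) * f (f (-t)) * (-W)) + S * S * Nm f (-t))
    + S * loK f t k B W S - Tr f (loB f t B W S * (W + t * S))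

variable {q : ℕ} {f : K ≃+* K}

theorem tA_comm (t u : K) : tA f t * tA f u = tA f (t + u) := by
  have c : ∀ {a b : ℕ}, a ∈ [18, 13, 12] → b ∈ [18, 13, 12] → ∀ y z : K,
      Commute (x a y) (x b z) := by
    intro a b ha hb y z
    have hc : D4Min.commCheck a b = true := by
      simp only [List.mem_cons, List.not_mem_nil, or_false] at ha hb
      rcases ha with rfl | rfl | rfl <;> rcases hb with rfl | rfl | rfl <;> decide +kernel
    exact D4Min.x_comm hc y z
  simp only [tA]
  rw [show x 18 t * x 13 (f t) * x 12 (f (f t)) * (x 18 u * x 13 (f u) * x 12 (f (f u))) =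
    x 18 t * (x 13 (f t) * (x 12 (f (f t)) * x 18 u) * x 13 (f u)) * x 12 (f (f u)) by group,
    (c (a := 12) (b := 18) (by decide) (by decide) _ _).eq,
    show x 18 t * (x 13 (f t) * (x 18 u * x 12 (f (f t))) * x 13 (f u)) * x 12 (f (f u)) =
    x 18 t * ((x 13 (f t) * x 18 u) * (x 12 (f (f t)) * x 13 (f u))) * x 12 (f (f u)) by group,
    (c (a := 13) (b := 18) (by decide) (by decide) _ _).eq,
    (c (a := 12) (b := 13) (by decide) (by decide) _ _).eq, map_add, map_add, ← D4Min.x_mul,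
    ← D4Min.x_mul, ← D4Min.x_mul]
  group

theorem tA_zero : tA f (0 : K) = 1 := by simp [tA, D4Min.x_zero]

theorem tA_inv (t : K) : (tA f t)⁻¹ = tA f (-t) :=
  inv_eq_of_mul_eq_one_right (by rw [tA_comm, add_neg_cancel, tA_zero])

theorem tB_eq (t : K) : tB f t = na K * tA f (-t) * (na K)⁻¹ := by
  rw [tA, show ∀ a b c : GL chevD4.Idx K, na K * (a * b * c) * (na K)⁻¹ =
      (na K * a * (na K)⁻¹) * (na K * b * (na K)⁻¹) * (na K * c * (na K)⁻¹) from fun a b c => by group,
    D4Min.na_conj (r := 18) (s := 5) (-1) (by norm_num) (by decide +kernel) (by decide +kernel) (by decide +kernel),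
    D4Min.na_conj (r := 13) (s := 10) (-1) (by norm_num) (by decide +kernel) (by decide +kernel) (by decide +kernel),
    D4Min.na_conj (r := 12) (s := 11) (-1) (by norm_num) (by decide +kernel) (by decide +kernel) (by decide +kernel)]
  simp [tB]

theorem tB_inv (t : K) : (tB f t)⁻¹ = tB f (-t) := by
  rw [tB_eq, tB_eq, show ∀ a g : GL chevD4.Idx K, (g * a * g⁻¹)⁻¹ = g * a⁻¹ * g⁻¹ from fun a g => by group,
    tA_inv]

theorem tvec_mul (k B W S E k' B' W' S' E' : K) :
    raw (tvec f k B W S E) * raw (tvec f k' B' W' S' E') =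
      raw (tvec f (k + k') (B + B') (W + W') (S + S') (E + E' + (S * k' - Tr f (W * B')))) := by
  rw [D4Min.raw_mul]
  congr 1
  ext <;> simp [Vec.add', D4Min.coc, tvec, Tr]

theorem tvec_inv (k B W S E : K) :
    (raw (tvec f k B W S E))⁻¹ = raw (tvec f (-k) (-B) (-W) (-S) (-E + (S * k - Tr f (W * B)))) := by
  rw [D4Min.raw_inv]
  congr 1
  ext <;> simp [Vec.neg', D4Min.coc, tvec, Tr]

theorem tvec_k (k B W S E : K) :
    raw (tvec f k B W S E) = raw (tvec f 0 B W S (E - S * k)) * x 14 k := by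
  rw [D4Min.raw_mul_k]
  congr 1
  ext <;> simp [tvec]

theorem x14_tvec (k : K) : x 14 k = raw (tvec f k 0 0 0 0) := by
  simp [raw, tvec, D4Min.x_zero]

section

variable (hf : Frob q f)
include hf

theorem tA_mem (t : K) : tA f t ∈ twistedD4 K q := D4Min.tA_mem hf t

theorem tB_mem (t : K) : tB f t ∈ twistedD4 K q := by
  rw [tB_eq]; exact mul_mem (mul_mem (D4Min.na_mem hf) (tA_mem hf _)) (inv_mem (D4Min.na_mem hf))

theorem cA_tvec (t : K) {k : K} (hk : f k = k) (B W S E : K) :
    tA f t * raw (tvec f k B W S E) * (tA f t)⁻¹ =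
      raw (tvec f k (B + t * k) (W + f (f t) * f B + f t * f (f B) + f t * f (f t) * k)
        (S + Tr f (t * W) + Tr f (f t * f (f t) * B) + Nm f t * k)
        (E - (Tr f (f (f t) * B * f B) + k * Tr f (f t * f (f t) * B) + k * k * Nm f t))) := by
  have hh : ∀ v : Vec K, tA f t * raw v * (tA f t)⁻¹ = raw (c18 t (c13 (f t) (c12 (f (f t)) v))) := by
    intro v
    rw [← D4Min.conj18, ← D4Min.conj13, ← D4Min.conj12, tA]
    group
  rw [hh]
  congr 1
  ext <;> simp [c18, c13, c12, tvec, Tr, Nm, hf.three, hk] <;> ring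

theorem na_tvec (k B W S E : K) :
    na K * raw (tvec f k B W S E) * (na K)⁻¹ = raw (tvec f (-S) W (-B) k (E - S * k + Tr f (W * B))) := by
  rw [D4Min.na_raw]
  congr 1
  ext <;> simp [tvec, Tr]

/-- Moving a negative short root element past the radical of the other parabolic. -/
theorem lo_tvec (t : K) {k S : K} (hS : f S = S) (B W E : K) :
    tB f t * raw (tvec f k B W S E) * (tB f t)⁻¹ =
      raw (tvec f (loK f t k B W S) (loB f t B W S) (W + t * S) S (loE f t k B W S E)) := by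
  have e : raw (tvec f k B W S E) = na K * raw (tvec f S (-W) B (-k) (E - k * S + Tr f (B * W))) * (na K)⁻¹ := by
    rw [na_tvec hf]
    congr 1
    ext <;> simp [tvec, Tr] <;> ring
  rw [e, tB_eq, show ∀ a g v : GL chevD4.Idx K, g * a * g⁻¹ * (g * v * g⁻¹) * (g * a * g⁻¹)⁻¹ =
      g * (a * v * a⁻¹) * g⁻¹ from fun a g v => by group, cA_tvec hf _ hS, na_tvec hf]
  congr 1
  ext <;> simp [tvec, loK, loB, loE, Tr, Nm, hf.three, hS, map_add, map_neg, map_mul] <;> ring

theorem up_mem (a B W : K) {S E : K} (hS : f S = S) (hE : f E = E) : up f a B W S E ∈ twistedD4 K q := by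
  refine mul_mem (tA_mem hf a) ?_
  exact D4Min.tv_mem hf (⟨0, zero_mem _⟩, B, W, ⟨S, hS⟩) hE

theorem Tr_fix (t : K) : f (Tr f t) = Tr f t := D4Min.Tr_mem hf t

theorem Nm_fix (t : K) : f (Nm f t) = Nm f t := D4Min.Nm_mem hf t

theorem loK_fix (t B W : K) {k S : K} (hk : f k = k) (hS : f S = S) : f (loK f t k B W S) = loK f t k B W S := by
  simp only [loK, map_add, map_mul, Tr_fix hf, Nm_fix hf, hk, hS]

/-- The unipotent radical. -/
def UU : Subgroup (GL chevD4.Idx K) where
  carrier := {g | ∃ a B W S E, f S = S ∧ f E = E ∧ g = up f a B W S E}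
  one_mem' := ⟨0, 0, 0, 0, 0, map_zero f, map_zero f, by
    rw [up, tA_zero, one_mul, ← D4Min.x_zero (K := K) 14, x14_tvec]⟩
  mul_mem' := by
    rintro _ _ ⟨a, B, W, S, E, hS, hE, rfl⟩ ⟨a', B', W', S', E', hS', hE', rfl⟩
    refine ⟨a + a', ?_⟩
    have h := cA_tvec hf (-a') (k := 0) (map_zero f) B W S E
    rw [← tA_inv, inv_inv] at h
    have e : up f a B W S E * up f a' B' W' S' E' =
        tA f (a + a') * (((tA f a')⁻¹ * raw (tvec f 0 B W S E) * tA f a') * raw (tvec f 0 B' W' S' E')) := by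
      rw [← tA_comm]; simp only [up]; group
    rw [h, tvec_mul, add_zero] at e
    refine ⟨_, _, _, _, ?_, ?_, e⟩
    · simp only [map_add, map_mul, Tr_fix hf, Nm_fix hf, hS, hS', map_zero]
    · simp only [map_add, map_sub, map_mul, Tr_fix hf, Nm_fix hf, hS, hE, hE', map_zero]
  inv_mem' := by
    rintro _ ⟨a, B, W, S, E, hS, hE, rfl⟩
    refine ⟨-a, ?_⟩
    have h := cA_tvec hf a (k := -0) (by simp) (-B) (-W) (-S) (-E + (S * 0 - Tr f (W * B)))
    rw [← tvec_inv, neg_zero] at h
    have e : (up f a B W S E)⁻¹ = tA f (-a) * (tA f a * (raw (tvec f 0 B W S E))⁻¹ * (tA f a)⁻¹) := by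
      rw [← tA_inv]; simp only [up]; group
    rw [h] at e
    refine ⟨_, _, _, _, ?_, ?_, e⟩
    · simp only [map_add, map_mul, map_neg, Tr_fix hf, Nm_fix hf, hS, map_zero]
    · simp only [map_add, map_sub, map_mul, map_neg, Tr_fix hf, Nm_fix hf, hS, hE, map_zero]

theorem mem_UU {g : GL chevD4.Idx K} :
    g ∈ UU hf ↔ ∃ a B W S E, f S = S ∧ f E = E ∧ g = up f a B W S E := Iff.rfl

theorem up_UU (a B W : K) {S E : K} (hS : f S = S) (hE : f E = E) : up f a B W S E ∈ UU hf :=
  ⟨a, B, W, S, E, hS, hE, rfl⟩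

theorem UU_twisted {g : GL chevD4.Idx K} (h : g ∈ UU hf) : g ∈ twistedD4 K q := by
  obtain ⟨a, B, W, S, E, hS, hE, rfl⟩ := h
  exact up_mem hf a B W hS hE

omit hf in
theorem up_mem_of {H : Subgroup (GL chevD4.Idx K)} (a B W S E : K)
    (h : ∀ r ∈ [18, 13, 12, 19, 16, 15, 17, 20, 21, 22, 23], ∀ t : K, x r t ∈ H) :
    up f a B W S E ∈ H := by
  simp only [up, tA, raw, tvec, D4Min.x_zero, one_mul]
  refine mul_mem (mul_mem (mul_mem ?_ ?_) ?_)
    (mul_mem (mul_mem (mul_mem (mul_mem (mul_mem (mul_mem (mul_mem ?_ ?_) ?_) ?_) ?_) ?_) ?_) ?_) <;>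
    exact h _ (by decide) _

theorem UU_uni {g : GL chevD4.Idx K} (h : g ∈ UU hf) : g ∈ H52.uniGroup lev K 1 := by
  obtain ⟨a, B, W, S, E, -, -, rfl⟩ := h
  have hr : ∀ r ∈ [18, 13, 12, 19, 16, 15, 17, 20, 21, 22, 23], r < 24 ∧ ((1 : ℕ) : ℤ) ≤ deg r := by
    decide +kernel
  exact up_mem_of a B W S E fun r h t => x_mem_uni (hr r h).1 (hr r h).2 t

omit hf in
theorem raw_eq_one {B W S E : K} (h : raw (tvec f 0 B W S E) = 1) :
    B = 0 ∧ W = 0 ∧ S = 0 ∧ E = 0 := by
  have hu : ∀ {k r : ℕ} (t : K), k ≤ r → r < 24 → x r t ∈ H52.upper chevD4 K k :=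
    fun t h1 h2 => H52.Checked.rt_mem_upper h1 h2 t
  have hz : ∀ {k : ℕ} {t : K}, 12 ≤ k → k < 24 → x k t ∈ H52.upper chevD4 K (k + 1) → t = 0 :=
    fun h1 h2 => H52.checkedD4.rt_mem_upper_succ h1 h2
  simp only [raw, tvec, D4Min.x_zero, one_mul] at h
  rw [show x 19 (-B) * x 16 (f B) * x 15 (f (f B)) = x 15 (f (f B)) * x 19 (-B) * x 16 (f B) by
    rw [mul_assoc, D4Min.x_comm (r := 16) (s := 15) (by decide +kernel), ← mul_assoc,
      D4Min.x_comm (r := 19) (s := 15) (by decide +kernel)]] at h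
  have hB : f (f B) = 0 := hz (k := 15) (by norm_num) (by norm_num) <| by
    rw [show x 15 (f (f B)) = ((x 19 (-B) * x 16 (f B) * x 17 W * x 20 (-f W) * x 21 (-f (f W)) *
      x 22 (-S) * x 23 E))⁻¹ from eq_inv_of_mul_eq_one_left (by simpa only [mul_assoc] using h)]
    refine inv_mem (mul_mem (mul_mem (mul_mem (mul_mem (mul_mem (mul_mem ?_ ?_) ?_) ?_) ?_) ?_) ?_) <;>
      exact hu _ (by norm_num) (by norm_num)
  have hB0 : B = 0 := f.injective (f.injective (by rw [hB, map_zero, map_zero]))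
  subst hB0
  simp only [map_zero, neg_zero, D4Min.x_zero, one_mul] at h
  have hW : W = 0 := hz (k := 17) (by norm_num) (by norm_num) <| by
    rw [show x 17 W = ((x 20 (-f W) * x 21 (-f (f W)) * x 22 (-S) * x 23 E))⁻¹ from
      eq_inv_of_mul_eq_one_left (by simpa only [mul_assoc] using h)]
    refine inv_mem (mul_mem (mul_mem (mul_mem ?_ ?_) ?_) ?_) <;> exact hu _ (by norm_num) (by norm_num)
  subst hW
  simp only [map_zero, neg_zero, D4Min.x_zero, one_mul] at h
  have hS : S = 0 := neg_eq_zero.1 <| hz (k := 22) (by norm_num) (by norm_num) <| by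
    rw [eq_inv_of_mul_eq_one_left h]; exact inv_mem (hu _ (by norm_num) (by norm_num))
  subst hS
  simp only [neg_zero, D4Min.x_zero, one_mul] at h
  exact ⟨rfl, rfl, rfl, H52.checkedD4.rt_injective (r := 23) (by decide) (h.trans (D4Min.x_zero 23).symm)⟩

omit hf in
theorem up_eq_one {a B W S E : K} (h : up f a B W S E = 1) :
    a = 0 ∧ B = 0 ∧ W = 0 ∧ S = 0 ∧ E = 0 := by
  have ha : a = 0 := by
    refine f.injective (f.injective ?_)
    rw [map_zero, map_zero]
    refine H52.checkedD4.rt_mem_upper_succ (k := 12) (by decide) (by decide) ?_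
    have e : x 12 (f (f a)) = (x 18 a * x 13 (f a))⁻¹ * (raw (tvec f 0 B W S E))⁻¹ := by
      rw [← eq_inv_of_mul_eq_one_left h, tA]; group
    rw [e]
    refine mul_mem (inv_mem (mul_mem (H52.Checked.rt_mem_upper (by norm_num) (by decide) _)
      (H52.Checked.rt_mem_upper (by norm_num) (by decide) _))) (inv_mem ?_)
    simp only [raw, tvec, D4Min.x_zero, one_mul]
    refine mul_mem (mul_mem (mul_mem (mul_mem (mul_mem (mul_mem (mul_mem ?_ ?_) ?_) ?_) ?_) ?_) ?_) ?_ <;>
      exact H52.Checked.rt_mem_upper (by norm_num) (by decide) _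
  subst ha
  rw [up, tA_zero, one_mul] at h
  exact ⟨rfl, raw_eq_one h⟩

theorem up_inj {a B W S E a' B' W' S' E' : K}
    (h : up f a B W S E = up f a' B' W' S' E') :
    a = a' ∧ B = B' ∧ W = W' ∧ S = S' ∧ E = E' := by
  simp only [up] at h
  have h1 : tA f (a - a') * (raw (tvec f 0 B W S E) * (raw (tvec f 0 B' W' S' E'))⁻¹) = 1 := by
    rw [sub_eq_neg_add, ← tA_comm, ← tA_inv,
      show tA f a = tA f a' * raw (tvec f 0 B' W' S' E') * (raw (tvec f 0 B W S E))⁻¹ by rw [← h]; group]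
    group
  rw [tvec_inv, tvec_mul, show (0 : K) + -0 = 0 by simp] at h1
  obtain ⟨h2, h3, h4, h5, h6⟩ := up_eq_one (f := f) h1
  have eB : B = B' := by linear_combination h3
  have eW : W = W' := by linear_combination h4
  have eS : S = S' := by linear_combination h5
  subst eB eW eS
  refine ⟨sub_eq_zero.1 h2, rfl, rfl, rfl, ?_⟩
  simp only [neg_zero, mul_zero, mul_neg, map_neg, Tr] at h6
  linear_combination h6

end

end H35.D4Cover
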