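import Mathlib.FieldTheory.Finite.Basic
import Mathlib.LinearAlgebra.Matrix.GeneralLinearGroup.Defs
import Mathlib.LinearAlgebra.Matrix.GeneralLinearGroup.Basic

/-!
`GL₂` over a finite field: products of two conjugates of an element with irreducible
characteristic polynomial and nonzero trace.
-/

set_option autoImplicit false
set_option linter.unusedSectionVars false

open scoped MatrixGroups

namespace H35.D4Cover.Mat

variable {F : Type*} [Field F]

/-- Companion matrix. -/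
noncomputable def comp (τ D : F) (hD : D ≠ 0) : GL (Fin 2) F :=
  Matrix.GeneralLinearGroup.mkOfDetNeZero !![0, -D; 1, τ] (by simp [Matrix.det_fin_two_of, hD])

theorem comp_val (τ D : F) (hD : D ≠ 0) : (comp τ D hD).1 = !![0, -D; 1, τ] := rfl

/-- A nonscalar matrix is conjugate to its companion matrix. -/
theorem conj_comp (M : GL (Fin 2) F) {τ D : F} (hD : D ≠ 0) (hτ : M.1 0 0 + M.1 1 1 = τ)
    (hdet : M.1.det = D) (hns : ¬ (M.1 0 1 = 0 ∧ M.1 1 0 = 0 ∧ M.1 0 0 = M.1 1 1)) :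
    ∃ Q : GL (Fin 2) F, M = Q * comp τ D hD * Q⁻¹ := by
  rw [Matrix.det_fin_two] at hdet
  obtain ⟨v0, v1, hv⟩ : ∃ v0 v1 : F,
      v0 * (M.1 1 0 * v0 + M.1 1 1 * v1) - (M.1 0 0 * v0 + M.1 0 1 * v1) * v1 ≠ 0 := by
    by_cases h10 : M.1 1 0 = 0
    · by_cases h01 : M.1 0 1 = 0
      · refine ⟨1, 1, ?_⟩
        have : M.1 0 0 ≠ M.1 1 1 := fun e => hns ⟨h01, h10, e⟩
        rw [h10, h01]
        intro e
        exact this (by linear_combination -e)
      · exact ⟨0, 1, fun e => h01 (by linear_combination -e)⟩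
    · exact ⟨1, 0, fun e => h10 (by linear_combination e)⟩
  refine ⟨Matrix.GeneralLinearGroup.mkOfDetNeZero
    !![v0, M.1 0 0 * v0 + M.1 0 1 * v1; v1, M.1 1 0 * v0 + M.1 1 1 * v1]
    (by rw [Matrix.det_fin_two_of]; exact hv), ?_⟩
  rw [eq_mul_inv_iff_mul_eq]
  apply Units.ext
  rw [Units.val_mul, Units.val_mul, comp_val]
  show M.1 * !![v0, M.1 0 0 * v0 + M.1 0 1 * v1; v1, M.1 1 0 * v0 + M.1 1 1 * v1] =
    !![v0, M.1 0 0 * v0 + M.1 0 1 * v1; v1, M.1 1 0 * v0 + M.1 1 1 * v1] * !![0, -D; 1, τ]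
  subst hτ hdet
  ext i j
  fin_cases i <;> fin_cases j <;> simp [Matrix.mul_apply, Fin.sum_univ_two] <;> ring

variable [Fintype F]

theorem exists_norm {τ D c : F} (h : ∀ r : F, r * r - τ * r + D ≠ 0) :
    ∃ a b : F, a * a + τ * a * b + D * (b * b) = c := by
  classical
  by_cases h2 : ringChar F = 2
  · obtain ⟨s, hs⟩ := FiniteField.isSquare_of_char_two h2 c
    exact ⟨s, 0, by rw [hs]; ring⟩
  · have h2' : (2 : F) ≠ 0 := by
      exact Ring.two_ne_zero h2
    set e := D - τ * τ / 4 with he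
    have h4 : (4 : F) ≠ 0 := by
      rw [show (4 : F) = 2 * 2 by norm_num]; exact mul_ne_zero h2' h2'
    have hedeg : e ≠ 0 := fun e0 => h (τ / 2) (by
      rw [he] at e0; field_simp at e0 ⊢; linear_combination e0)
    have hodd : Fintype.card F % 2 = 1 := FiniteField.odd_card_of_char_ne_two h2
    obtain ⟨u, v, huv⟩ := FiniteField.exists_root_sum_quadratic
      (f := Polynomial.X ^ 2) (g := Polynomial.C e * Polynomial.X ^ 2 + Polynomial.C (-c))
      (Polynomial.degree_X_pow 2) (by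
        rw [Polynomial.degree_add_C (by rw [Polynomial.degree_C_mul_X_pow 2 hedeg]; decide),
          Polynomial.degree_C_mul_X_pow 2 hedeg]; rfl) hodd
    simp only [Polynomial.eval_pow, Polynomial.eval_X, Polynomial.eval_add, Polynomial.eval_mul,
      Polynomial.eval_C] at huv
    refine ⟨u - τ / 2 * v, v, ?_⟩
    rw [he] at huv
    field_simp at huv ⊢
    linear_combination huv

/-- Products of two conjugates. -/
theorem exists_prod {τ D : F} (hτ : τ ≠ 0) (hD : D ≠ 0) (h : ∀ r : F, r * r - τ * r + D ≠ 0)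
    (M : GL (Fin 2) F) (hdet : M.1.det = D ^ 2)
    (hgood : M.1 = !![D, 0; 0, D] ∨
      (¬ (M.1 0 1 = 0 ∧ M.1 1 0 = 0 ∧ M.1 0 0 = M.1 1 1) ∧ M.1 0 0 + M.1 1 1 ≠ 2 * D)) :
    ∃ P Q : GL (Fin 2) F, M = (P * comp τ D hD * P⁻¹) * (Q * comp τ D hD * Q⁻¹) := by
  set A := comp τ D hD
  have hA : A.1 = !![0, -D; 1, τ] := rfl
  -- a conjugate with given lower row
  have mk : ∀ a b r : F, r ≠ 0 → a * (τ - a) - b * r = D →
      ∃ Q : GL (Fin 2) F, (Q * A * Q⁻¹).1 = !![a, b; r, τ - a] := by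
    intro a b r hr hd
    let B := Matrix.GeneralLinearGroup.mkOfDetNeZero !![a, b; r, τ - a]
      (by rw [Matrix.det_fin_two_of, hd]; exact hD)
    have hB : B.1 = !![a, b; r, τ - a] := rfl
    obtain ⟨Q, hQ⟩ := conj_comp B (τ := τ) hD (by rw [hB]; simp) (by rw [hB, Matrix.det_fin_two_of, hd])
      (by rw [hB]; simp [hr])
    exact ⟨Q, by rw [← hQ, hB]⟩
  rcases hgood with hM | ⟨hns, hT⟩
  · obtain ⟨Q, hQ⟩ := mk τ D (-1) (neg_ne_zero.2 one_ne_zero) (by ring)
    refine ⟨1, Q, Units.ext ?_⟩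
    rw [Units.val_mul, hQ, one_mul, inv_one, mul_one, hA, hM]
    ext i j; fin_cases i <;> fin_cases j <;> simp [Matrix.mul_apply, Fin.sum_univ_two]
  · set T := M.1 0 0 + M.1 1 1 with hTdef
    set Δ := 4 * D - τ * τ with hΔ
    have hΔ0 : Δ ≠ 0 := by
      intro e
      by_cases h2 : (2 : F) = 0
      · exact mul_ne_zero hτ hτ (by rw [hΔ] at e; linear_combination -e + 2 * D * h2)
      · exact h (τ / 2) (by rw [hΔ] at e; field_simp; linear_combination e)
    let a0 := (2 * D * τ - τ * (τ ^ 2 - T)) / Δ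
    let r0 := (2 * (τ ^ 2 - T) - τ * τ) / Δ
    have e1 : 2 * a0 + τ * r0 = τ := by simp only [a0, r0]; field_simp; rw [hΔ]; ring
    have e2 : τ * a0 + 2 * D * r0 = τ ^ 2 - T := by simp only [a0, r0]; field_simp; rw [hΔ]; ring
    obtain ⟨u, v, huv⟩ := exists_norm (c := -(a0 * a0 + τ * r0 * a0 + D * r0 * r0 - τ * a0 + (T - τ ^ 2) * r0 + D)) h
    set a := a0 + u
    set r := r0 + v
    have hF : a * a + τ * r * a + D * r * r - τ * a + (T - τ ^ 2) * r + D = 0 := by
      simp only [a, r]; linear_combination huv + u * e1 + v * e2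
    have hr : r ≠ 0 := fun e => h a (by rw [e] at hF; linear_combination hF)
    obtain ⟨Q, hQ⟩ := mk a ((a * (τ - a) - D) / r) r hr (by field_simp; ring)
    set N := A * (Q * A * Q⁻¹) with hN
    have hNv : N.1 = !![0, -D; 1, τ] * !![a, (a * (τ - a) - D) / r; r, τ - a] := by
      rw [hN, Units.val_mul, hQ, hA]
    have hNt : N.1 0 0 + N.1 1 1 = T := by
      rw [hNv]; simp [Matrix.mul_apply, Fin.sum_univ_two]
      field_simp
      linear_combination -hF
    have hNd : N.1.det = D ^ 2 := by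
      rw [hNv, Matrix.det_mul, Matrix.det_fin_two_of, Matrix.det_fin_two_of]; field_simp; ring
    have hNns : ¬ (N.1 0 1 = 0 ∧ N.1 1 0 = 0 ∧ N.1 0 0 = N.1 1 1) := by
      rintro ⟨n01, n10, n00⟩
      rw [hNv] at n01 n10
      simp [Matrix.mul_apply, Fin.sum_univ_two, hD] at n01 n10
      have ea : a = τ := by linear_combination -n01
      have er : r = -1 := by
        have : τ * (r + 1) = 0 := by linear_combination n10 - ea
        linear_combination (mul_eq_zero.1 this).resolve_left hτ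
      rw [ea, er] at hF
      exact hT (by linear_combination -hF)
    obtain ⟨Q1, hQ1⟩ := conj_comp M (pow_ne_zero 2 hD) hTdef.symm hdet hns
    obtain ⟨Q2, hQ2⟩ := conj_comp N (pow_ne_zero 2 hD) hNt hNd hNns
    refine ⟨Q1 * Q2⁻¹, Q1 * Q2⁻¹ * Q, ?_⟩
    have e : M = (Q1 * Q2⁻¹) * N * (Q1 * Q2⁻¹)⁻¹ := by rw [hQ1, hQ2]; group
    rw [e, hN]
    group

/-- Existence of an irreducible polynomial `X² - X + D`. -/
theorem exists_D : ∃ D : F, ∀ r : F, r * r - 1 * r + D ≠ 0 := by
  by_contra hc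
  push Not at hc
  have hs : Function.Surjective fun r : F => r * r - r := fun y => by
    obtain ⟨r, hr⟩ := hc (-y); exact ⟨r, by linear_combination hr⟩
  have h01 := (Finite.injective_iff_surjective.2 hs) (show (fun r : F => r * r - r) 0 = (fun r : F => r * r - r) 1 by simp)
  exact zero_ne_one h01

end H35.D4Cover.Mat
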