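import Cfsg.Agent.H35.D4Cover.Start
import Cfsg.Agent.H35.D4Cover.Mat

/-!
³D₄(q): the element of the class and the elements of the Levi subgroup which are products of two
conjugates.
-/

set_option autoImplicit false
set_option linter.unusedSectionVars false

open Cfsg.Lie
open scoped MatrixGroups

namespace H35.D4Cover

open D4Min (Frob tc nb na Nm Tr raw Fx)

variable {K : Type*} [Field K]

local notation "x" => H52.rt chevD4

/-- The fixed field. -/
def fixF (f : K ≃+* K) : Subfield K where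
  carrier := {t | f t = t}
  mul_mem' {a b} ha hb := by simp only [Set.mem_setOf_eq] at *; rw [map_mul, ha, hb]
  one_mem' := map_one f
  add_mem' {a b} ha hb := by simp only [Set.mem_setOf_eq] at *; rw [map_add, ha, hb]
  zero_mem' := map_zero f
  neg_mem' {a} ha := by simp only [Set.mem_setOf_eq] at *; rw [map_neg, ha]
  inv_mem' a ha := by simp only [Set.mem_setOf_eq] at *; rw [map_inv₀, ha]

/-- The parameters of the element. -/
structure Par (f : K ≃+* K) where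
  c : Kˣ
  τ : fixF f
  D : fixF f
  τne : τ ≠ 0
  Dne : D ≠ 0
  irr : ∀ r : fixF f, r * r - τ * r + D ≠ 0

/-- Matrices over the fixed field inside `GL₂(K)`. -/
noncomputable def emb2 (f : K ≃+* K) : GL (Fin 2) (fixF f) →* GL (Fin 2) K :=
  Matrix.GeneralLinearGroup.map (fixF f).subtype

theorem emb2_FX (f : K ≃+* K) (A : GL (Fin 2) (fixF f)) : emb2 f A ∈ FX f :=
  mem_FX.2 fun i j => (A.1 i j).2

theorem exists_emb2 {f : K ≃+* K} {A : GL (Fin 2) K} (hA : A ∈ FX f) :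
    ∃ A0 : GL (Fin 2) (fixF f), emb2 f A0 = A ∧ ∀ i j, ((A0.1 i j : fixF f) : K) = A.1 i j := by
  let A' : Matrix (Fin 2) (Fin 2) (fixF f) := fun i j => ⟨A.1 i j, mem_FX.1 hA i j⟩
  have hdet : IsUnit A'.det := by
    rw [isUnit_iff_ne_zero]
    intro h0
    have h1 : (A'.map (fixF f).subtype).det = 0 := by
      rw [← RingHom.mapMatrix_apply, ← RingHom.map_det, h0, map_zero]
    exact ((Matrix.isUnit_iff_isUnit_det A.1).1 A.isUnit).ne_zero h1
  exact ⟨((Matrix.isUnit_iff_isUnit_det A').2 hdet).unit, Units.ext rfl, fun i j => rfl⟩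

namespace Par

variable {f : K ≃+* K} (P : Par f)

/-- The companion matrix over the fixed field. -/
noncomputable def A0 : GL (Fin 2) (fixF f) := Mat.comp P.τ P.D P.Dne

/-- The companion matrix. -/
noncomputable def A : GL (Fin 2) K := emb2 f P.A0

/-- The element. -/
noncomputable def el : GL chevD4.Idx K := lv f (P.c, P.A)

theorem A_det : P.A.1.det = (P.D : K) := by
  show (P.A0.1.map (fixF f).subtype).det = _
  rw [← RingHom.mapMatrix_apply, ← RingHom.map_det, A0, Mat.comp_val, Matrix.det_fin_two_of]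
  simp

/-- Conjugates of the element. -/
def InX (q : ℕ) (g : GL chevD4.Idx K) : Prop := CT K q P.el g

/-- Products of two conjugates. -/
def Cov (q : ℕ) (g : GL chevD4.Idx K) : Prop := ∃ y z, P.InX q y ∧ P.InX q z ∧ g = y * z

/-- No radical element commutes with the element. -/
def Reg (q : ℕ) (y : GL chevD4.Idx K) : Prop :=
  (∀ u ∈ UP K q, u * y = y * u → u = 1) ∧ ∀ w ∈ UM K q, w * y = y * w → w = 1

/-- Products of two conjugates inside the Levi subgroup. -/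
def CovL (q : ℕ) (l : GL chevD4.Idx K) : Prop :=
  ∃ y z, y ∈ LL K q ∧ z ∈ LL K q ∧ P.InX q y ∧ P.InX q z ∧ Reg q y ∧ Reg q z ∧ l = y * z

variable {q : ℕ}

theorem InX.conj {g : GL chevD4.Idx K} (h : P.InX q g) {z : GL chevD4.Idx K} (hz : z ∈ twistedD4 K q) :
    P.InX q (z * g * z⁻¹) := CT.trans h ⟨z, hz, rfl⟩

theorem Cov.conj {g h : GL chevD4.Idx K} (hc : CT K q g h) (hh : P.Cov q h) : P.Cov q g := by
  obtain ⟨z, hz, rfl⟩ := hc
  obtain ⟨y, y', hy, hy', e⟩ := hh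
  refine ⟨z⁻¹ * y * z⁻¹⁻¹, z⁻¹ * y' * z⁻¹⁻¹, InX.conj P hy (inv_mem hz), InX.conj P hy' (inv_mem hz), ?_⟩
  rw [inv_inv, show g = z⁻¹ * (z * g * z⁻¹) * z by group, e]
  group

theorem Reg.conj {y : GL chevD4.Idx K} (h : Reg q y) {z : GL chevD4.Idx K} (hz : z ∈ LL K q) :
    Reg q (z * y * z⁻¹) := by
  refine ⟨fun u hu e => ?_, fun u hu e => ?_⟩
  · have := h.1 (z⁻¹ * u * z⁻¹⁻¹) (UP_conj (inv_mem hz) hu) (by
      rw [inv_inv, show z⁻¹ * u * z * y = z⁻¹ * (u * (z * y * z⁻¹)) * z by group, e]; group)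
    rwa [conj_eq_one_iff] at this
  · have := h.2 (z⁻¹ * u * z⁻¹⁻¹) (UM_conj (inv_mem hz) hu) (by
      rw [inv_inv, show z⁻¹ * u * z * y = z⁻¹ * (u * (z * y * z⁻¹)) * z by group, e]; group)
    rwa [conj_eq_one_iff] at this

theorem Reg.inv {y : GL chevD4.Idx K} (h : Reg q y) : Reg q y⁻¹ := by
  refine ⟨fun u hu e => h.1 u hu ?_, fun u hu e => h.2 u hu ?_⟩
  all_goals
    calc u * y = y * (y⁻¹ * u) * y := by group
      _ = y * (u * y⁻¹) * y := by rw [e]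
      _ = y * u := by group

variable [Fintype K]

theorem left_mul {y : GL chevD4.Idx K} (hy : P.InX q y) (hl : y ∈ LL K q) (hr : Reg q y) {u : GL chevD4.Idx K}
    (hu : u ∈ UP K q) : P.InX q (u * y) := by
  let φ : ↥(UP K q) → ↥(UP K q) := fun v =>
    ⟨(v : GL chevD4.Idx K) * (y * ((v : GL chevD4.Idx K))⁻¹ * y⁻¹), mul_mem v.2 (UP_conj hl (inv_mem v.2))⟩
  have hinj : Function.Injective φ := by
    intro v v' h
    have h' : (v : GL chevD4.Idx K) * (y * (v : GL chevD4.Idx K)⁻¹ * y⁻¹) =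
        (v' : GL chevD4.Idx K) * (y * (v' : GL chevD4.Idx K)⁻¹ * y⁻¹) := congrArg Subtype.val h
    have := hr.1 ((v' : GL chevD4.Idx K)⁻¹ * v) (mul_mem (inv_mem v'.2) v.2) (by
      calc ((v' : GL chevD4.Idx K)⁻¹ * v) * y
          = (v' : GL chevD4.Idx K)⁻¹ * ((v : GL chevD4.Idx K) * (y * (v : GL chevD4.Idx K)⁻¹ * y⁻¹)) * y * v := by group
        _ = _ := by rw [h']; group)
    exact Subtype.ext (inv_mul_eq_one.1 this).symm
  obtain ⟨v, hv⟩ := Finite.injective_iff_surjective.1 hinj ⟨u, hu⟩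
  have hv' : (v : GL chevD4.Idx K) * (y * (v : GL chevD4.Idx K)⁻¹ * y⁻¹) = u := congrArg Subtype.val hv
  refine CT.trans hy ⟨v, UP_tw v.2, ?_⟩
  rw [← hv']; group

theorem right_mul {y : GL chevD4.Idx K} (hy : P.InX q y) (hl : y ∈ LL K q) (hr : Reg q y) {w : GL chevD4.Idx K}
    (hw : w ∈ UM K q) : P.InX q (y * w) := by
  let φ : ↥(UM K q) → ↥(UM K q) := fun v =>
    ⟨(y⁻¹ * (v : GL chevD4.Idx K) * y⁻¹⁻¹) * ((v : GL chevD4.Idx K))⁻¹,
      mul_mem (UM_conj (inv_mem hl) v.2) (inv_mem v.2)⟩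
  have hinj : Function.Injective φ := by
    intro v v' h
    have h' : (y⁻¹ * (v : GL chevD4.Idx K) * y⁻¹⁻¹) * (v : GL chevD4.Idx K)⁻¹ =
        (y⁻¹ * (v' : GL chevD4.Idx K) * y⁻¹⁻¹) * (v' : GL chevD4.Idx K)⁻¹ := congrArg Subtype.val h
    have := hr.2 ((v' : GL chevD4.Idx K)⁻¹ * v) (mul_mem (inv_mem v'.2) v.2) (by
      calc ((v' : GL chevD4.Idx K)⁻¹ * v) * y
          = (v' : GL chevD4.Idx K)⁻¹ * y * ((y⁻¹ * (v : GL chevD4.Idx K) * y⁻¹⁻¹) * (v : GL chevD4.Idx K)⁻¹) * v := by group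
        _ = _ := by rw [h']; group)
    exact Subtype.ext (inv_mul_eq_one.1 this).symm
  obtain ⟨v, hv⟩ := Finite.injective_iff_surjective.1 hinj ⟨w, hw⟩
  have hv' : (y⁻¹ * (v : GL chevD4.Idx K) * y⁻¹⁻¹) * (v : GL chevD4.Idx K)⁻¹ = w := congrArg Subtype.val hv
  refine CT.trans hy ⟨v, UM_tw v.2, ?_⟩
  rw [← hv']; group

theorem cov_cell {l u w : GL chevD4.Idx K} (h : P.CovL q l) (hu : u ∈ UP K q) (hw : w ∈ UM K q) :
    P.Cov q (u * l * w) := by
  obtain ⟨y, z, hy, hz, iy, iz, ry, rz, rfl⟩ := h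
  exact ⟨u * y, z * w, left_mul P iy hy ry hu, right_mul P iz hz rz hw, by group⟩

variable (hf : Frob q f)
include hf

theorem el_LL : P.el ∈ LL K q := lv_LL hf (emb2_FX f _)

theorem na_gl2 (A : GL (Fin 2) K) :
    na K * D4Torus.gl2 K A * (na K)⁻¹ =
      D4Torus.gl2 K (D4Torus.sGL (Matrix.GeneralLinearGroup.det A)⁻¹ * A) := by
  have hj : ∀ S, na K * D4Torus.j K S * (na K)⁻¹ = D4Torus.j K S := by
    intro S
    refine DFunLike.congr_fun (D4Torus.hom_ext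
      (φ := (MulAut.conj (na K)).toMonoidHom.comp (D4Torus.j K)) (ψ := D4Torus.j K) (fun t => ?_) fun t => ?_) S
    · simp only [MonoidHom.comp_apply, MulEquiv.coe_toMonoidHom, MulAut.conj_apply, D4Torus.j_u]
      rw [D4Min.na_conj (r := 23) (s := 23) 1 (by norm_num) (by decide +kernel) (by decide +kernel) (by decide +kernel),
        Int.cast_one, one_mul]
    · simp only [MonoidHom.comp_apply, MulEquiv.coe_toMonoidHom, MulAut.conj_apply, D4Torus.j_l]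
      rw [D4Min.na_conj (r := 0) (s := 0) 1 (by norm_num) (by decide +kernel) (by decide +kernel) (by decide +kernel),
        Int.cast_one, one_mul]
  set d := Matrix.GeneralLinearGroup.det A with hd
  have hnu : na K * D4Torus.nu K d * (na K)⁻¹ = D4Torus.gl2 K (D4Torus.sGL d⁻¹ * D4Torus.dGL d) := by
    have e14 : D4Torus.nu K d = H52.hElt chevD4 14 (d : K) := by
      rw [H52.checkedD4.hElt_eq_torus (by decide)]
      show H52.torus chevD4 (D4Torus.nuC d) = _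
      congr 1
      funext i
      fin_cases i <;> simp [D4Torus.nuC, show H52.crt chevD4 14 0 = 0 by decide +kernel,
        show H52.crt chevD4 14 1 = 1 by decide +kernel, show H52.crt chevD4 14 2 = 0 by decide +kernel,
        show H52.crt chevD4 14 3 = 0 by decide +kernel]
    rw [e14, (mv_na (K := K) (r := 14) (by norm_num)).2, show ia 14 = 22 by decide +kernel, map_mul,
      D4Torus.gl2_sGL, D4Torus.gl2_dGL, H52.checkedD4.hElt_eq_torus (by decide), inv_inv]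
    show _ = _ * H52.torus chevD4 (D4Torus.nuC d)
    rw [← map_mul]
    congr 1
    funext i
    fin_cases i <;> simp [D4Torus.nuC, D4Torus.outC, show H52.crt chevD4 22 0 = 1 by decide +kernel,
      show H52.crt chevD4 22 1 = 1 by decide +kernel, show H52.crt chevD4 22 2 = 1 by decide +kernel,
      show H52.crt chevD4 22 3 = 1 by decide +kernel]
  rw [D4Torus.gl2_apply, show ∀ a b : GL chevD4.Idx K, na K * (a * b) * (na K)⁻¹ =
    (na K * a * (na K)⁻¹) * (na K * b * (na K)⁻¹) from fun a b => by group, hj, ← hd, hnu,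
    ← D4Torus.gl2_sl, ← map_mul]
  congr 1
  apply Units.ext
  have hne : A.1.det ≠ 0 := ((Matrix.isUnit_iff_isUnit_det A.1).1 A.isUnit).ne_zero
  have hdK : (d : K) = A.1.det := rfl
  show (D4Torus.slPart A).1 * ((D4Torus.sGL d⁻¹).1 * (D4Torus.dGL d).1) = (D4Torus.sGL d⁻¹).1 * A.1
  simp only [D4Torus.slPart, D4Torus.sGL, D4Torus.dGL, Units.val_inv_eq_inv_val, hdK]
  ext i j
  fin_cases i <;> fin_cases j <;> simp [Matrix.mul_apply, Fin.sum_univ_two] <;> field_simp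

theorem A_val : P.A.1 = !![0, -(P.D : K); 1, (P.τ : K)] := by
  show (P.A0.1.map (fixF f).subtype) = _
  rw [A0, Mat.comp_val]
  ext i j; fin_cases i <;> fin_cases j <;> simp

/-- The inverse of the matrix is conjugate to a scalar multiple. -/
theorem inv_conj : ∃ Q ∈ FX f,
    D4Torus.sGL (Matrix.GeneralLinearGroup.det P.A)⁻¹ * P.A = Q * P.A⁻¹ * Q⁻¹ := by
  let J := Matrix.GeneralLinearGroup.mkOfDetNeZero !![P.τ, P.D; -1, (0 : fixF f)]
    (by rw [Matrix.det_fin_two_of]; simpa using P.Dne)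
  have hJ : J.1 = !![P.τ, P.D; -1, (0 : fixF f)] := rfl
  obtain ⟨Q, hQ⟩ := Mat.conj_comp J (τ := P.τ) P.Dne (by rw [hJ]; simp)
    (by rw [hJ, Matrix.det_fin_two_of]; simp) (by rw [hJ]; simp [P.Dne])
  have hQA : emb2 f J = emb2 f Q * P.A * (emb2 f Q)⁻¹ := by
    rw [hQ, map_mul, map_mul, map_inv]; rfl
  have hDK : (P.D : K) ≠ 0 := fun h => P.Dne (Subtype.ext h)
  have hJK : (emb2 f J).1 = !![(P.τ : K), (P.D : K); -1, 0] := by
    show (J.1.map (fixF f).subtype) = _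
    rw [hJ]
    ext i j; fin_cases i <;> fin_cases j <;> simp
  have hd : ((Matrix.GeneralLinearGroup.det P.A : Kˣ) : K) = P.D := P.A_det
  have hAinv : P.A⁻¹ = D4Torus.sGL (Matrix.GeneralLinearGroup.det P.A)⁻¹ * emb2 f J := by
    apply inv_eq_of_mul_eq_one_right
    apply Units.ext
    rw [Units.val_mul, Units.val_mul, hJK, A_val P hf, Units.val_one]
    simp only [D4Torus.sGL, Units.val_inv_eq_inv_val, hd]
    ext i j
    fin_cases i <;> fin_cases j <;> simp [Matrix.mul_apply, Fin.sum_univ_two] <;> field_simp <;> ring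
  refine ⟨(emb2 f Q)⁻¹, inv_mem (emb2_FX f Q), ?_⟩
  have hc : Commute (emb2 f Q)⁻¹ (D4Torus.sGL (Matrix.GeneralLinearGroup.det P.A)⁻¹) := by
    apply Units.ext
    rw [Units.val_mul, Units.val_mul]
    ext i j
    fin_cases i <;> fin_cases j <;> simp [D4Torus.sGL, Matrix.mul_apply, Fin.sum_univ_two, mul_comm]
  rw [hAinv, ← mul_assoc, hc.eq, hQA]
  group

theorem na_el : ((mE K)⁻¹ * na K * mE K) * P.el * ((mE K)⁻¹ * na K * mE K)⁻¹ =
    lv f (P.c⁻¹, D4Torus.sGL (Matrix.GeneralLinearGroup.det P.A)⁻¹ * P.A) := by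
  have h18 := (mv_na (K := K) (r := 18) (by norm_num)).2 P.c
  have h13 := (mv_na (K := K) (r := 13) (by norm_num)).2 (Units.map f.toMonoidHom P.c)
  have h12 := (mv_na (K := K) (r := 12) (by norm_num)).2 (Units.map f.toMonoidHom (Units.map f.toMonoidHom P.c))
  rw [show ia 18 = 5 by decide +kernel] at h18
  rw [show ia 13 = 10 by decide +kernel] at h13
  rw [show ia 12 = 11 by decide +kernel] at h12
  have hneg : ∀ (r s : ℕ) (c : Kˣ), r < 24 → s < 24 → (∀ i : Fin 4, H52.crt chevD4 s i.val = -H52.crt chevD4 r i.val) →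
      H52.hElt chevD4 s (c : K) = H52.hElt chevD4 r ((c⁻¹ : Kˣ) : K) := by
    intro r s c hr hs h
    rw [H52.checkedD4.hElt_eq_torus hs, H52.checkedD4.hElt_eq_torus hr]
    congr 1
    funext i
    rw [h i, inv_zpow, zpow_neg]
  rw [hneg 18 5 _ (by norm_num) (by norm_num) (by decide +kernel)] at h18
  rw [hneg 13 10 _ (by norm_num) (by norm_num) (by decide +kernel)] at h13
  rw [hneg 12 11 _ (by norm_num) (by norm_num) (by decide +kernel)] at h12
  rw [← map_inv (Units.map f.toMonoidHom)] at h13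
  rw [← map_inv (Units.map f.toMonoidHom), ← map_inv (Units.map f.toMonoidHom)] at h12
  have ht : H52.torus chevD4 (tc f P.c⁻¹ 1) = na K * H52.torus chevD4 (tc f P.c 1) * (na K)⁻¹ := by
    rw [tc_prod hf, tc_prod hf]
    calc _ = (na K * H52.hElt chevD4 18 (P.c : K) * (na K)⁻¹) *
          ((na K * H52.hElt chevD4 13 ((Units.map f.toMonoidHom P.c : Kˣ) : K) * (na K)⁻¹) *
          (na K * H52.hElt chevD4 12 ((Units.map f.toMonoidHom (Units.map f.toMonoidHom P.c) : Kˣ) : K) * (na K)⁻¹)) := by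
          rw [h18, h13, h12]; rfl
      _ = _ := by
          show _ = na K * (H52.hElt chevD4 18 (P.c : K) * (H52.hElt chevD4 13 ((Units.map f.toMonoidHom P.c : Kˣ) : K) *
            H52.hElt chevD4 12 ((Units.map f.toMonoidHom (Units.map f.toMonoidHom P.c) : Kˣ) : K))) * (na K)⁻¹
          group
  rw [el, lv_apply, lv_apply, ← na_gl2 hf, ht]
  group

theorem inX_inv : P.InX q P.el⁻¹ := by
  obtain ⟨Q, hQ, e⟩ := inv_conj P hf
  have hn : (mE K)⁻¹ * na K * mE K ∈ twistedD4 K q :=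
    mul_mem (mul_mem (inv_mem (mE_mem hf)) (D4Min.na_mem hf)) (mE_mem hf)
  refine ⟨(lv f (1, Q))⁻¹ * ((mE K)⁻¹ * na K * mE K),
    mul_mem (inv_mem (LL_tw (lv_LL hf hQ))) hn, ?_⟩
  rw [show ∀ a b : GL chevD4.Idx K, a⁻¹ * b * P.el * (a⁻¹ * b)⁻¹ = a⁻¹ * (b * P.el * b⁻¹) * a from
    fun a b => by group, na_el P hf, e, el, ← map_inv, ← map_inv, ← map_mul, ← map_mul]
  congr 1
  refine Prod.ext ?_ ?_
  · show 1⁻¹ * P.c⁻¹ * 1 = P.c⁻¹; simp
  · show Q⁻¹ * (Q * P.A⁻¹ * Q⁻¹) * Q = P.A⁻¹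
    group

theorem el_conj {Q : GL (Fin 2) K} (hQ : Q ∈ FX f) (hreg : Reg q P.el) :
    lv f (P.c, Q * P.A * Q⁻¹) ∈ LL K q ∧ P.InX q (lv f (P.c, Q * P.A * Q⁻¹)) ∧
      Reg q (lv f (P.c, Q * P.A * Q⁻¹)) ∧
    lv f (P.c⁻¹, Q * P.A⁻¹ * Q⁻¹) ∈ LL K q ∧ P.InX q (lv f (P.c⁻¹, Q * P.A⁻¹ * Q⁻¹)) ∧
      Reg q (lv f (P.c⁻¹, Q * P.A⁻¹ * Q⁻¹)) := by
  have h1 : lv f (P.c, Q * P.A * Q⁻¹) = lv f (1, Q) * P.el * (lv f (1, Q))⁻¹ := by
    rw [el, ← map_inv, ← map_mul, ← map_mul]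
    congr 1
    exact Prod.ext (show P.c = 1 * P.c * 1⁻¹ by simp) rfl
  have h2 : lv f (P.c⁻¹, Q * P.A⁻¹ * Q⁻¹) = lv f (1, Q) * P.el⁻¹ * (lv f (1, Q))⁻¹ := by
    rw [el, ← map_inv, ← map_inv, ← map_mul, ← map_mul]
    congr 1
    exact Prod.ext (show P.c⁻¹ = 1 * P.c⁻¹ * 1⁻¹ by simp) rfl
  have hQL := lv_LL hf (c := 1) hQ
  have hA : P.A ∈ FX f := emb2_FX f _
  refine ⟨lv_LL hf (mul_mem (mul_mem hQ hA) (inv_mem hQ)), ?_, ?_,
    lv_LL hf (mul_mem (mul_mem hQ (inv_mem hA)) (inv_mem hQ)), ?_, ?_⟩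
  · rw [h1]; exact ⟨_, LL_tw hQL, rfl⟩
  · rw [h1]; exact Reg.conj hreg hQL
  · rw [h2]; exact InX.conj P (inX_inv P hf) (LL_tw hQL)
  · rw [h2]; exact Reg.conj hreg.inv hQL

theorem split_one {M : GL (Fin 2) K} (hM : M ∈ FX f) (hd : M.1.det = (P.D : K) ^ 2)
    (hgood : M.1 = !![(P.D : K), 0; 0, (P.D : K)] ∨
      (¬ (M.1 0 1 = 0 ∧ M.1 1 0 = 0 ∧ M.1 0 0 = M.1 1 1) ∧ M.1 0 0 + M.1 1 1 ≠ 2 * (P.D : K))) :
    ∃ Q ∈ FX f, ∃ R ∈ FX f, M = (Q * P.A * Q⁻¹) * (R * P.A * R⁻¹) := by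
  classical
  obtain ⟨M0, hM0, hval⟩ := exists_emb2 hM
  have : Fintype (fixF f) := Fintype.ofFinite _
  have hd0 : M0.1.det = P.D ^ 2 := by
    apply Subtype.ext
    show (fixF f).subtype M0.1.det = (fixF f).subtype (P.D ^ 2)
    rw [RingHom.map_det, map_pow]
    show (M0.1.map (fixF f).subtype).det = _
    rw [show M0.1.map (fixF f).subtype = M.1 from Matrix.ext hval]
    exact hd
  have hg0 : M0.1 = !![P.D, 0; 0, P.D] ∨
      (¬ (M0.1 0 1 = 0 ∧ M0.1 1 0 = 0 ∧ M0.1 0 0 = M0.1 1 1) ∧ M0.1 0 0 + M0.1 1 1 ≠ 2 * P.D) := by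
    rcases hgood with h | ⟨h1, h2⟩
    · left
      refine Matrix.ext fun i j => (fixF f).subtype_injective ?_
      show ((M0.1 i j : fixF f) : K) = _
      rw [hval, h]
      fin_cases i <;> fin_cases j <;> simp
    · refine Or.inr ⟨fun ⟨a, b, c⟩ => h1 ⟨?_, ?_, ?_⟩, fun e => h2 ?_⟩
      · rw [← hval, a]; rfl
      · rw [← hval, b]; rfl
      · rw [← hval, ← hval, c]
      · have := congrArg (fixF f).subtype e
        simp only [map_add, map_mul, map_ofNat] at this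
        rw [← hval, ← hval]; exact this
  obtain ⟨Q, R, hQR⟩ := Mat.exists_prod P.τne P.Dne P.irr M0 hd0 hg0
  refine ⟨emb2 f Q, emb2_FX f Q, emb2 f R, emb2_FX f R, ?_⟩
  rw [← hM0, hQR]
  simp only [map_mul, map_inv]
  rfl

variable (hreg : Reg q P.el)
include hreg

/-- The first target. -/
theorem covL_one {M : GL (Fin 2) K} (hM : M ∈ FX f) (hd : M.1.det = (P.D : K) ^ 2)
    (hgood : M.1 = !![(P.D : K), 0; 0, (P.D : K)] ∨
      (¬ (M.1 0 1 = 0 ∧ M.1 1 0 = 0 ∧ M.1 0 0 = M.1 1 1) ∧ M.1 0 0 + M.1 1 1 ≠ 2 * (P.D : K))) :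
    P.CovL q (lv f (P.c * P.c, M)) := by
  obtain ⟨Q, hQ, R, hR, rfl⟩ := split_one P hf hM hd hgood
  obtain ⟨y1, y2, y3, -, -, -⟩ := el_conj P hf hQ hreg
  obtain ⟨z1, z2, z3, -, -, -⟩ := el_conj P hf hR hreg
  exact ⟨_, _, y1, z1, y2, z2, y3, z3, by rw [← map_mul]; rfl⟩

/-- The second target. -/
theorem covL_zero {M : GL (Fin 2) K} (hM : M ∈ FX f) (hd : M.1.det = 1)
    (hgood : M.1 = 1 ∨ (¬ (M.1 0 1 = 0 ∧ M.1 1 0 = 0 ∧ M.1 0 0 = M.1 1 1) ∧ M.1 0 0 + M.1 1 1 ≠ 2)) :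
    P.CovL q (lv f (1, M)) := by
  have hDK : (P.D : K) ≠ 0 := fun h => P.Dne (Subtype.ext h)
  have hdu : Matrix.GeneralLinearGroup.det P.A = Units.mk0 (P.D : K) hDK := Units.ext P.A_det
  set d := Units.mk0 (P.D : K) hDK
  have hs : D4Torus.sGL d ∈ FX f := sGL_FX hf (c := d) P.D.2
  set s := D4Torus.sGL d with hsdef
  have e : ∀ i j, (M * s).1 i j = (P.D : K) * M.1 i j := by
    intro i j
    fin_cases i <;> fin_cases j <;> simp [hsdef, d, D4Torus.sGL, Matrix.mul_apply, Fin.sum_univ_two, mul_comm]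
  obtain ⟨Q, hQ, R, hR, hQR⟩ := split_one P hf (M := M * s) (mul_mem hM hs)
    (by simp only [Matrix.det_fin_two, e] at hd ⊢; linear_combination (P.D : K) ^ 2 * hd) (by
    rcases hgood with h | ⟨h1, h2⟩
    · left
      ext i j
      rw [e, h]
      fin_cases i <;> fin_cases j <;> simp
    · right
      simp only [e, mul_eq_zero, hDK, false_or, mul_right_inj' hDK]
      exact ⟨h1, fun h => h2 (mul_left_cancel₀ hDK (by linear_combination h))⟩)
  obtain ⟨Q0, hQ0, hinv⟩ := inv_conj P hf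
  rw [hdu] at hinv
  have hsi : D4Torus.sGL d⁻¹ = s⁻¹ := by
    apply eq_inv_of_mul_eq_one_left
    apply Units.ext
    rw [Units.val_mul, Units.val_one]
    ext i j
    fin_cases i <;> fin_cases j <;>
      simp [hsdef, d, D4Torus.sGL, Matrix.mul_apply, Fin.sum_univ_two, hDK]
  have hc : ∀ g : GL (Fin 2) K, Commute g s⁻¹ := fun g => Commute.inv_right <| by
    apply Units.ext
    rw [Units.val_mul, Units.val_mul]
    ext i j
    fin_cases i <;> fin_cases j <;> simp [hsdef, D4Torus.sGL, Matrix.mul_apply, Fin.sum_univ_two, mul_comm]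
  obtain ⟨y1, y2, y3, -, -, -⟩ := el_conj P hf hQ hreg
  obtain ⟨-, -, -, z1, z2, z3⟩ := el_conj P hf (mul_mem hR hQ0) hreg
  refine ⟨_, _, y1, z1, y2, z2, y3, z3, ?_⟩
  rw [← map_mul]
  congr 1
  refine Prod.ext (show 1 = P.c * P.c⁻¹ by simp) ?_
  show M = (Q * P.A * Q⁻¹) * (R * Q0 * P.A⁻¹ * (R * Q0)⁻¹)
  rw [show R * Q0 * P.A⁻¹ * (R * Q0)⁻¹ = R * (Q0 * P.A⁻¹ * Q0⁻¹) * R⁻¹ by group, ← hinv, hsi,
    ← mul_assoc R s⁻¹, (hc R).eq]
  calc M = (M * s) * s⁻¹ := by group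
    _ = (Q * P.A * Q⁻¹) * ((R * P.A * R⁻¹) * s⁻¹) := by rw [hQR]; group
    _ = _ := by rw [(hc (R * P.A * R⁻¹)).eq]; group

end Par

end H35.D4Cover
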