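import Cfsg.Agent.H35.D4Torus.Levi
import Cfsg.Agent.H52.Parabolic
import Cfsg.Agent.H52.Borel

/-!
³D₄: the grading of the parabolic subgroup on the long simple root, and its Levi subgroup.
-/

set_option autoImplicit false
set_option linter.unusedSectionVars false

open Cfsg.Lie
open scoped MatrixGroups

namespace H35.D4Cover

open D4Min (Frob tc nb na Nm Tr)
open D4Torus (gl2 uS lS)

variable {K : Type*} [Field K]

local notation "x" => H52.rt chevD4

/-- The degree of a root: the sum of the outer coefficients. -/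
def deg (r : ℕ) : ℤ := H52.tablesD4.co r 0 + H52.tablesD4.co r 2 + H52.tablesD4.co r 3

/-- The degree of a coordinate. -/
def dg (y : chevD4.Idx) : ℤ :=
  H52.wt chevD4 H52.tablesD4 y 0 + H52.wt chevD4 H52.tablesD4 y 2 + H52.wt chevD4 H52.tablesD4 y 3

theorem deg_bound : ∀ r < 24, -3 ≤ deg r ∧ deg r ≤ 3 := by decide +kernel

theorem dg_bound (y : chevD4.Idx) : -3 ≤ dg y ∧ dg y ≤ 3 := by
  rcases y with m | s
  · simp [dg, H52.wt]
  · exact deg_bound s.val s.isLt

/-- The level of a coordinate. -/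
def lev (y : chevD4.Idx) : ℕ := (dg y + 3).toNat

/-- The opposite level. -/
def levN (y : chevD4.Idx) : ℕ := (3 - dg y).toNat

theorem x_entry {r : ℕ} (hr : r < 24) (t : K) (y z : chevD4.Idx)
    (h : ∀ k : ℕ, 1 ≤ k → dg y ≠ dg z + (k : ℤ) * deg r) :
    (x r t : Matrix chevD4.Idx chevD4.Idx K) y z = (1 : Matrix chevD4.Idx chevD4.Idx K) y z := by
  rw [H52.checkedD4.coe_rt, H52.checkedD4.x_apply_wt hr t y z, Matrix.one_apply]
  intro k hk hall
  refine h k hk ?_
  simp only [dg, deg]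
  have h0 := hall 0 (by decide)
  have h2 := hall 2 (by decide)
  have h3 := hall 3 (by decide)
  linear_combination h0 + h2 + h3

theorem x_mem_uni {r k : ℕ} (hr : r < 24) (hd : (k : ℤ) ≤ deg r) (t : K) :
    x r t ∈ H52.uniGroup lev K k := by
  have key : ∀ t : K, H52.Raises lev k ((x r t : Matrix chevD4.Idx chevD4.Idx K) - 1) := by
    intro t y z hyz
    rw [Matrix.sub_apply, x_entry hr t y z ?_, sub_self]
    intro n hn e
    have := dg_bound y
    have := dg_bound z
    simp only [lev] at hyz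
    have h2 : (k : ℤ) ≤ (n : ℤ) * deg r := by nlinarith
    omega
  exact ⟨key t, by rw [D4Min.x_inv]; exact key (-t)⟩

theorem x_mem_uniN {r k : ℕ} (hr : r < 24) (hd : (k : ℤ) ≤ -deg r) (t : K) :
    x r t ∈ H52.uniGroup levN K k := by
  have key : ∀ t : K, H52.Raises levN k ((x r t : Matrix chevD4.Idx chevD4.Idx K) - 1) := by
    intro t y z hyz
    rw [Matrix.sub_apply, x_entry hr t y z ?_, sub_self]
    intro n hn e
    have := dg_bound y
    have := dg_bound z
    simp only [levN] at hyz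
    have h2 : (k : ℤ) ≤ (n : ℤ) * -deg r := by nlinarith
    rw [mul_neg] at h2
    omega
  exact ⟨key t, by rw [D4Min.x_inv]; exact key (-t)⟩

theorem x_mem_level {r : ℕ} (hr : r < 24) (hd : deg r = 0) (t : K) :
    x r t ∈ H52.levelGroup lev K := by
  have key : ∀ t : K, ∀ y z, lev y ≠ lev z → (x r t : Matrix chevD4.Idx chevD4.Idx K) y z = 0 := by
    intro t y z hyz
    have hne : dg y ≠ dg z := fun e => hyz (by simp [lev, e])
    rw [x_entry hr t y z (fun k _ => by rw [hd, mul_zero, add_zero]; exact hne), Matrix.one_apply_ne]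
    rintro rfl; exact hyz rfl
  exact ⟨key t, by rw [D4Min.x_inv]; exact key (-t)⟩

theorem torus_mem_level (c : Fin chevD4.rank → Kˣ) : H52.torus chevD4 c ∈ H52.levelGroup lev K := by
  have key : ∀ c : Fin chevD4.rank → Kˣ, ∀ y z, lev y ≠ lev z →
      (H52.torus chevD4 c : Matrix chevD4.Idx chevD4.Idx K) y z = 0 := by
    intro c y z hyz
    rw [H52.torus_apply, H52.coe_dgR, Matrix.diagonal_apply_ne]
    rintro rfl; exact hyz rfl
  exact ⟨key c, by rw [← map_inv]; exact key c⁻¹⟩

/-- An element of the level group normalises each unitriangular group. -/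
theorem level_conj {L : chevD4.Idx → ℕ} {g u : GL chevD4.Idx K} {k : ℕ}
    (hg : ∀ y z, L y < L z → ((g : Matrix chevD4.Idx chevD4.Idx K) y z = 0 ∧
      ((g⁻¹ : GL chevD4.Idx K) : Matrix chevD4.Idx chevD4.Idx K) y z = 0))
    (hu : u ∈ H52.uniGroup L K k) : g * u * g⁻¹ ∈ H52.uniGroup L K k := by
  have h0 : H52.Raises L 0 (g : Matrix chevD4.Idx chevD4.Idx K) := fun y z h => (hg y z (by omega)).1
  have h1 : H52.Raises L 0 ((g⁻¹ : GL chevD4.Idx K) : Matrix chevD4.Idx chevD4.Idx K) :=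
    fun y z h => (hg y z (by omega)).2
  have key : ∀ U : Matrix chevD4.Idx chevD4.Idx K, H52.Raises L k (U - 1) →
      H52.Raises L k ((g : Matrix chevD4.Idx chevD4.Idx K) * U *
        ((g⁻¹ : GL chevD4.Idx K) : Matrix chevD4.Idx chevD4.Idx K) - 1) := by
    intro U hU
    have := (h0.mul hU).mul h1
    rw [Nat.zero_add, Nat.add_zero, mul_sub, mul_one, sub_mul] at this
    rw [← Units.val_mul g g⁻¹, mul_inv_cancel, Units.val_one] at this
    exact this
  refine ⟨?_, ?_⟩
  · rw [Units.val_mul, Units.val_mul]; exact key _ hu.1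
  · rw [mul_inv_rev, mul_inv_rev, inv_inv, ← mul_assoc, Units.val_mul, Units.val_mul]; exact key _ hu.2

theorem level_lev {g u : GL chevD4.Idx K} {k : ℕ} (hg : g ∈ H52.levelGroup lev K)
    (hu : u ∈ H52.uniGroup lev K k) : g * u * g⁻¹ ∈ H52.uniGroup lev K k :=
  level_conj (fun y z h => ⟨hg.1 y z (by omega), hg.2 y z (by omega)⟩) hu

theorem level_levN {g u : GL chevD4.Idx K} {k : ℕ} (hg : g ∈ H52.levelGroup lev K)
    (hu : u ∈ H52.uniGroup levN K k) : g * u * g⁻¹ ∈ H52.uniGroup levN K k := by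
  have hh : ∀ y z : chevD4.Idx, levN y < levN z → lev y ≠ lev z := by
    intro y z h
    have := dg_bound y
    have := dg_bound z
    simp only [lev, levN] at *
    omega
  exact level_conj (fun y z h => ⟨hg.1 y z (hh y z h), hg.2 y z (hh y z h)⟩) hu

/-- The product of an element of the Levi with one of the opposite radical is lower triangular. -/
theorem cell_unique {u l w : GL chevD4.Idx K} (hu : u ∈ H52.uniGroup lev K 1)
    (hl : l ∈ H52.levelGroup lev K) (hw : w ∈ H52.uniGroup levN K 1) (h : u = l * w) : u = 1 := by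
  apply Units.ext
  ext y z
  rw [Units.val_one]
  by_cases hyz : lev y ≤ lev z
  · rw [H52.uniGroup_apply hu hyz, Matrix.one_apply]
  · rw [Matrix.one_apply_ne (by rintro rfl; omega), h, Units.val_mul, Matrix.mul_apply]
    refine Finset.sum_eq_zero fun v _ => ?_
    by_cases hv : lev y = lev v
    · have := dg_bound v
      have := dg_bound z
      rw [H52.uniGroup_apply hw (show levN v ≤ levN z by simp only [lev, levN] at *; omega),
        if_neg (by rintro rfl; simp only [lev] at *; omega), mul_zero]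
    · rw [hl.1 y v hv, zero_mul]

/-- `g` sends `X_r` to `X_s`. -/
def Mv (g : GL chevD4.Idx K) (r s : ℕ) : Prop :=
  ∃ e : K, e ≠ 0 ∧ ∀ t, g * x r t * g⁻¹ = x s (e * t)

/-- `g` sends `h_r` to `h_s`. -/
def MvH (g : GL chevD4.Idx K) (r s : ℕ) : Prop :=
  ∀ c : Kˣ, g * H52.hElt chevD4 r (c : K) * g⁻¹ = H52.hElt chevD4 s (c : K)

theorem Mv.comp {g h : GL chevD4.Idx K} {r s u : ℕ} (h1 : Mv h r s) (h2 : Mv g s u) :
    Mv (g * h) r u := by
  obtain ⟨e, he, h1⟩ := h1
  obtain ⟨e', he', h2⟩ := h2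
  refine ⟨e' * e, mul_ne_zero he' he, fun t => ?_⟩
  rw [show g * h * x r t * (g * h)⁻¹ = g * (h * x r t * h⁻¹) * g⁻¹ by group, h1, h2, mul_assoc]

theorem MvH.comp {g h : GL chevD4.Idx K} {r s u : ℕ} (h1 : MvH h r s) (h2 : MvH g s u) :
    MvH (g * h) r u := fun c => by
  rw [show g * h * H52.hElt chevD4 r (c : K) * (g * h)⁻¹ =
    g * (h * H52.hElt chevD4 r (c : K) * h⁻¹) * g⁻¹ by group, h1, h2]

theorem mv_simple {i r : ℕ} (hi : i < 4) (hr : r < 24) :
    Mv (H52.nElt chevD4 (chevD4.simple i) (1 : K)) r (chevD4.reflectRoot i r) ∧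
      MvH (H52.nElt chevD4 (chevD4.simple i) (1 : K)) r (chevD4.reflectRoot i r) :=
  ⟨⟨(H52.tablesD4.eps i r : K),
    by rcases H52.Checked.eps_eq_or (T := H52.tablesD4) i r with h | h <;> simp [h],
    fun t => D4Min.nconj hi hr t⟩, fun c => H52.checkedD4.sig_conj_hElt hi hr c⟩

/-- The image of a root under `nb`. -/
def ib (r : ℕ) : ℕ := chevD4.reflectRoot 1 r

/-- The image of a root under `na`. -/
def ia (r : ℕ) : ℕ := chevD4.reflectRoot 0 (chevD4.reflectRoot 2 (chevD4.reflectRoot 3 r))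

theorem mv_nb {r : ℕ} (hr : r < 24) : Mv (nb K) r (ib r) ∧ MvH (nb K) r (ib r) := by
  have h := mv_simple (K := K) (i := 1) (by norm_num) hr
  rwa [show chevD4.simple 1 = 14 by decide +kernel] at h

theorem mv_na {r : ℕ} (hr : r < 24) : Mv (na K) r (ia r) ∧ MvH (na K) r (ia r) := by
  have hlt : ∀ r < 24, chevD4.reflectRoot 3 r < 24 ∧
      chevD4.reflectRoot 2 (chevD4.reflectRoot 3 r) < 24 := by decide +kernel
  have h3 := mv_simple (K := K) (i := 3) (by norm_num) hr
  have h2 := mv_simple (K := K) (i := 2) (by norm_num) (hlt r hr).1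
  have h0 := mv_simple (K := K) (i := 0) (by norm_num) (hlt r hr).2
  rw [show chevD4.simple 3 = 12 by decide +kernel] at h3
  rw [show chevD4.simple 2 = 13 by decide +kernel] at h2
  rw [show chevD4.simple 0 = 18 by decide +kernel] at h0
  rw [na, mul_assoc]
  exact ⟨(h3.1.comp h2.1).comp h0.1, (h3.2.comp h2.2).comp h0.2⟩

/-- The element moving the Levi subgroup to the one on the highest root. -/
noncomputable def mE (K : Type*) [Field K] : GL chevD4.Idx K := nb K * na K

theorem mv_mE {r : ℕ} (hr : r < 24) : Mv (mE K) r (ib (ia r)) ∧ MvH (mE K) r (ib (ia r)) := by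
  have hlt : ∀ r < 24, ia r < 24 := by decide +kernel
  exact ⟨(mv_na hr).1.comp (mv_nb (hlt r hr)).1, (mv_na hr).2.comp (mv_nb (hlt r hr)).2⟩

/-- A representative of `-1` in the Weyl group. -/
noncomputable def w0 (K : Type*) [Field K] : GL chevD4.Idx K := mE K * (mE K * mE K)

theorem w0_table : ∀ r < 24, ib (ia r) < 24 ∧
    ib (ia (ib (ia (ib (ia r))))) = 23 - r ∧ deg (23 - r) = -deg r := by decide +kernel

theorem mv_w0 {r : ℕ} (hr : r < 24) : Mv (w0 K) r (23 - r) := by
  have h1 := (w0_table r hr).1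
  have h2 := (w0_table _ h1).1
  have := ((mv_mE (K := K) hr).1.comp (mv_mE h1).1).comp (mv_mE h2).1
  rwa [(w0_table r hr).2.1] at this

theorem mE_x14 (t : K) : mE K * x 14 t * (mE K)⁻¹ = x 23 (-t) := by
  rw [mE, show nb K * na K * x 14 t * (nb K * na K)⁻¹ = nb K * (na K * x 14 t * (na K)⁻¹) * (nb K)⁻¹ by group,
    D4Min.na_conj (r := 14) (s := 22) (-1) (by norm_num) (by decide +kernel) (by decide +kernel) (by decide +kernel),
    D4Min.nb_conj (r := 22) (s := 23) 1 (by norm_num) (by decide +kernel)]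
  simp

theorem mE_x9 (t : K) : mE K * x 9 t * (mE K)⁻¹ = x 0 (-t) := by
  rw [mE, show nb K * na K * x 9 t * (nb K * na K)⁻¹ = nb K * (na K * x 9 t * (na K)⁻¹) * (nb K)⁻¹ by group,
    D4Min.na_conj (r := 9) (s := 1) (-1) (by norm_num) (by decide +kernel) (by decide +kernel) (by decide +kernel),
    D4Min.nb_conj (r := 1) (s := 0) 1 (by norm_num) (by decide +kernel)]
  simp

/-- The Levi subgroup on `±14` as an image of `Kˣ × GL₂`. -/
noncomputable def lv (f : K ≃+* K) : Kˣ × GL (Fin 2) K →* GL chevD4.Idx K :=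
  MonoidHom.mk' (fun p => (mE K)⁻¹ * (H52.torus chevD4 (tc f p.1 1) * gl2 K p.2) * mE K) fun a b => by
    have e : tc f (a * b).1 1 = tc f a.1 1 * tc f b.1 1 := by
      funext i; fin_cases i <;> simp [tc]
    rw [e, Prod.snd_mul, map_mul, map_mul,
      show ∀ p r s u g : GL chevD4.Idx K, g⁻¹ * (p * r) * g * (g⁻¹ * (s * u) * g) = g⁻¹ * (p * (r * s) * u) * g
        from fun p r s u g => by group,
      show gl2 K a.2 * H52.torus chevD4 (tc f b.1 1) = H52.torus chevD4 (tc f b.1 1) * gl2 K a.2 from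
        ((D4Torus.out_comm_gl2 b.1 (Units.map f.toMonoidHom b.1) (Units.map f.toMonoidHom (Units.map f.toMonoidHom b.1)) a.2).eq).symm, show ∀ p r s u g : GL chevD4.Idx K,
        g⁻¹ * (p * (r * s) * u) * g = g⁻¹ * (p * r * (s * u)) * g from fun p r s u g => by group]

theorem lv_apply (f : K ≃+* K) (c : Kˣ) (A : GL (Fin 2) K) :
    lv f (c, A) = (mE K)⁻¹ * (H52.torus chevD4 (tc f c 1) * gl2 K A) * mE K := rfl

/-- Upper transvection in `GL₂`. -/
noncomputable def uG (t : K) : GL (Fin 2) K := Matrix.SpecialLinearGroup.toGL (uS t)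

/-- Lower transvection in `GL₂`. -/
noncomputable def lG (t : K) : GL (Fin 2) K := Matrix.SpecialLinearGroup.toGL (lS t)

theorem tc_one_one (f : K ≃+* K) : H52.torus chevD4 (tc f 1 1) = 1 := by
  rw [show tc f 1 1 = 1 from ?_, map_one]
  funext i; fin_cases i <;> simp [tc]

theorem x14_eq (f : K ≃+* K) (t : K) : x 14 t = lv f (1, uG (-t)) := by
  rw [lv_apply, tc_one_one, one_mul, uG, D4Torus.gl2_sl, D4Torus.j_u, ← mE_x14]
  group

theorem x9_eq (f : K ≃+* K) (t : K) : x 9 t = lv f (1, lG (-t)) := by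
  rw [lv_apply, tc_one_one, one_mul, lG, D4Torus.gl2_sl, D4Torus.j_l, ← mE_x9]
  group

theorem j_conj_level (S : Matrix.SpecialLinearGroup (Fin 2) K) :
    (mE K)⁻¹ * D4Torus.j K S * mE K ∈ H52.levelGroup lev K := by
  have hu : ∀ t, (mE K)⁻¹ * D4Torus.j K (uS t) * mE K ∈ H52.levelGroup lev K := fun t => by
    rw [D4Torus.j_u, show x 23 t = x 23 (-(-t)) by rw [neg_neg], ← mE_x14]
    convert x_mem_level (K := K) (r := 14) (by norm_num) (by decide +kernel) (-t) using 1
    group
  have hl : ∀ t, (mE K)⁻¹ * D4Torus.j K (lS t) * mE K ∈ H52.levelGroup lev K := fun t => by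
    rw [D4Torus.j_l, show x 0 t = x 0 (-(-t)) by rw [neg_neg], ← mE_x9]
    convert x_mem_level (K := K) (r := 9) (by norm_num) (by decide +kernel) (-t) using 1
    group
  obtain ⟨a, b, c, h | h⟩ := D4Torus.sl2_decomp' S
  · rw [h, map_mul, map_mul]
    convert mul_mem (mul_mem (hu a) (hl b)) (hu c) using 1
    group
  · rw [eq_mul_inv_of_mul_eq h, map_mul, map_inv, map_mul, map_mul]
    convert mul_mem (mul_mem (mul_mem (hu a) (hl b)) (hu c)) (inv_mem (hl 1)) using 1
    group

theorem torus_conj_level (c : Fin chevD4.rank → Kˣ) :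
    (mE K)⁻¹ * H52.torus chevD4 c * mE K ∈ H52.levelGroup lev K := by
  have hn : mE K ∈ chevD4.monomialSubgroup K := by
    refine mul_mem (H52.checkedD4.nElt_mem (by decide)) ?_
    exact mul_mem (mul_mem (H52.checkedD4.nElt_mem (by decide)) (H52.checkedD4.nElt_mem (by decide)))
      (H52.checkedD4.nElt_mem (by decide))
  have h := (Subgroup.mem_normalizer_iff.1
    (H52.checkedD4.monomial_le_normalizer (inv_mem hn)) _).1 (H52.checkedD4.torus_mem_diag c)
  rw [inv_inv, H52.checkedD4.diagonalSubgroup_eq] at h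
  obtain ⟨c', hc'⟩ := h
  rw [← hc']
  exact torus_mem_level c'

theorem lv_level (f : K ≃+* K) (p : Kˣ × GL (Fin 2) K) : lv f p ∈ H52.levelGroup lev K := by
  obtain ⟨c, A⟩ := p
  rw [lv_apply, D4Torus.gl2_apply]
  convert mul_mem (mul_mem (torus_conj_level (K := K) (tc f c 1)) (j_conj_level (D4Torus.slPart A)))
    (torus_conj_level (K := K) (D4Torus.nuC (Matrix.GeneralLinearGroup.det A))) using 1
  show _ = _ * ((mE K)⁻¹ * D4Torus.nu K _ * mE K)
  group

/-- The diagonal element `diag(N c, 1)`. -/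
noncomputable def nG (f : K ≃+* K) (c : Kˣ) : GL (Fin 2) K :=
  D4Torus.dGL (c * Units.map f.toMonoidHom c * Units.map f.toMonoidHom (Units.map f.toMonoidHom c))

/-- The torus element `h_a(γ)`. -/
theorem tc_eq (f : K ≃+* K) (γ : Kˣ) :
    H52.torus chevD4 (tc f γ 1) = lv f (γ⁻¹, nG f γ⁻¹) := by
  have himg : ib (ia 18) = 4 ∧ ib (ia 13) = 7 ∧ ib (ia 12) = 8 := by decide +kernel
  have e : H52.torus chevD4 (tc f γ 1) = H52.hElt chevD4 18 (γ : K) *
      (H52.hElt chevD4 13 (f γ) * H52.hElt chevD4 12 (f (f γ))) := by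
    rw [H52.checkedD4.torus_eq_prod]
    have hl : List.finRange chevD4.rank = [⟨0, by decide⟩, ⟨1, by decide⟩, ⟨2, by decide⟩, ⟨3, by decide⟩] := rfl
    rw [hl]
    simp only [List.map_cons, List.map_nil, List.prod_cons, List.prod_nil, mul_one,
      show chevD4.simple 0 = 18 by decide +kernel, show chevD4.simple 1 = 14 by decide +kernel,
      show chevD4.simple 2 = 13 by decide +kernel, show chevD4.simple 3 = 12 by decide +kernel]
    show H52.hElt chevD4 18 (γ : K) * (H52.hElt chevD4 14 ((1 : Kˣ) : K) *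
      (H52.hElt chevD4 13 (f γ) * H52.hElt chevD4 12 (f (f γ)))) = _
    rw [H52.checkedD4.hElt_eq_torus (r := 14) (by decide), show (fun i : Fin chevD4.rank =>
      (1 : Kˣ) ^ H52.crt chevD4 14 i.val) = 1 from funext fun i => one_zpow _, map_one, one_mul]
  set γ1 := Units.map f.toMonoidHom γ
  set γ2 := Units.map f.toMonoidHom γ1
  have c18 := (mv_mE (K := K) (r := 18) (by norm_num)).2 γ
  have c13 := (mv_mE (K := K) (r := 13) (by norm_num)).2 γ1
  have c12 := (mv_mE (K := K) (r := 12) (by norm_num)).2 γ2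
  rw [himg.1] at c18
  rw [himg.2.1] at c13
  rw [himg.2.2] at c12
  have key : mE K * H52.torus chevD4 (tc f γ 1) * (mE K)⁻¹ =
      H52.torus chevD4 (tc f γ⁻¹ 1) * gl2 K (nG f γ⁻¹) := by
    rw [e, show ∀ a b d g : GL chevD4.Idx K, g * (a * (b * d)) * g⁻¹ = (g * a * g⁻¹) * ((g * b * g⁻¹) * (g * d * g⁻¹))
      from fun a b d g => by group, nG, D4Torus.gl2_dGL]
    change (mE K * H52.hElt chevD4 18 (γ : K) * (mE K)⁻¹) * ((mE K * H52.hElt chevD4 13 (γ1 : K) * (mE K)⁻¹) *
      (mE K * H52.hElt chevD4 12 (γ2 : K) * (mE K)⁻¹)) = _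
    rw [c18, c13, c12, H52.checkedD4.hElt_eq_torus (by decide), H52.checkedD4.hElt_eq_torus (by decide),
      H52.checkedD4.hElt_eq_torus (by decide)]
    show _ = H52.torus chevD4 _ * H52.torus chevD4 (D4Torus.nuC _)
    rw [← map_mul, ← map_mul, ← map_mul]
    congr 1
    funext i
    fin_cases i <;> simp [tc, D4Torus.nuC, γ1, γ2, map_inv,
      show H52.crt chevD4 4 0 = -1 by decide +kernel, show H52.crt chevD4 4 1 = -1 by decide +kernel,
      show H52.crt chevD4 4 2 = 0 by decide +kernel, show H52.crt chevD4 4 3 = 0 by decide +kernel,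
      show H52.crt chevD4 7 0 = 0 by decide +kernel, show H52.crt chevD4 7 1 = -1 by decide +kernel,
      show H52.crt chevD4 7 2 = -1 by decide +kernel, show H52.crt chevD4 7 3 = 0 by decide +kernel,
      show H52.crt chevD4 8 0 = 0 by decide +kernel, show H52.crt chevD4 8 1 = -1 by decide +kernel,
      show H52.crt chevD4 8 2 = 0 by decide +kernel, show H52.crt chevD4 8 3 = -1 by decide +kernel] <;>
      (apply Units.ext; simp only [Units.val_mul, Units.val_inv_eq_inv_val]; ring)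
  rw [lv_apply, ← key]
  group

variable {q : ℕ} {f : K ≃+* K} (hf : Frob q f)
include hf

theorem mE_mem : mE K ∈ twistedD4 K q := mul_mem (D4Min.nb_mem hf) (D4Min.na_mem hf)

theorem w0_mem : w0 K ∈ twistedD4 K q := mul_mem (mE_mem hf) (mul_mem (mE_mem hf) (mE_mem hf))

theorem lv_mem {c : Kˣ} {A : GL (Fin 2) K} (hA : ∀ i j, f (A.1 i j) = A.1 i j) :
    lv f (c, A) ∈ twistedD4 K q := by
  rw [lv_apply]
  exact mul_mem (mul_mem (inv_mem (mE_mem hf))
    (mul_mem (D4Min.torus_mem hf c 1 (map_one f)) (D4Torus.gl2_mem hf hA))) (mE_mem hf)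

end H35.D4Cover
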