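import Cfsg.Agent.H35.D4Cover.State

/-!
³D₄(q), q ≥ 3: every nontrivial element is a product of two conjugates of the element.
-/

set_option autoImplicit false
set_option linter.unusedSectionVars false
set_option linter.unusedSimpArgs false

open Cfsg.Lie
open scoped MatrixGroups

namespace H35.D4Cover

open D4Min (Frob tc nb na Nm Tr raw Fx)

variable {K : Type*} [Field K] [Fintype K] {q : ℕ} {f : K ≃+* K} (hf : Frob q f) (hq : IsPrimePow q)
  (hK : Fintype.card K = q ^ 3)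

include hf

theorem psi_ne (c : Kˣ) (A : GL (Fin 2) K) : psi f c A ≠ 0 := by
  have h : (c : K) ≠ 0 := c.ne_zero
  exact div_ne_zero (mul_ne_zero (mul_ne_zero h ((map_ne_zero f).2 h)) ((map_ne_zero f).2 ((map_ne_zero f).2 h)))
    (mul_ne_zero h ((Matrix.isUnit_iff_isUnit_det A.1).1 A.isUnit).ne_zero)

/-- A move to a prescribed class of the Levi quotient. -/
theorem toTarget {g : GL chevD4.Idx K} {a B W S E : K} {c : Kˣ} {A : GL (Fin 2) K}
    (h : St f q g a B W S E c A) (ha : a ≠ 0) {c0 γ : Kˣ} {D0 : K} (hD0 : f D0 = D0) (hD00 : D0 ≠ 0)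
    (hγ : psi f c A / γ = Nm f c0 / ((c0 : K) * D0)) :
    ∃ (e : K) (B' W' S' E' : K) (M : GL (Fin 2) K), e = (γ : K) * c / c0 ∧ e ≠ 0 ∧
      St f q g (a / γ) B' W' S' E' c0 M ∧ M.1.det = D0 ∧
      M.1 = !![Nm f γ * (A.1 0 0 - mvK f a B W S γ * A.1 1 0) / e,
        Nm f γ * (A.1 0 1 - mvK f a B W S γ * A.1 1 1) / e; A.1 1 0 / e, A.1 1 1 / e] := by
  have h1 := St.move hf h ha γ
  obtain ⟨e, he, -, heq, hM, hd, hent⟩ := normalize hf h1.hA hD0 hD00
    (c := γ * c) (c0 := c0) (by rw [psi_mv hf, hγ])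
  obtain ⟨w, hw, hc⟩ := h1.hw
  rw [heq] at hc
  refine ⟨e, _, _, _, _, _, by rw [he, Units.val_mul], e.ne_zero, ⟨h1.hS, h1.hE, hM, w, hw, hc⟩, hd, ?_⟩
  ext i j
  rw [hent, mvMat_val]
  fin_cases i <;> fin_cases j <;> simp

include hq hK

/-- A conjugate whose Levi part is not upper triangular. -/
theorem start_low {r : K} (hr : f r = r) (hr0 : r ≠ 0) (hr1 : r ≠ 1) {g : GL chevD4.Idx K}
    (hg : g ∈ twistedD4 K q) (hg1 : g ≠ 1) :
    ∃ a B W S E c A, a ≠ 0 ∧ St f q g a B W S E c A ∧ A.1 1 0 ≠ 0 := by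
  obtain ⟨a, B, W, S, E, ha, hS, hE, l, hl, w, hw, hc⟩ := start hf hq hK hg hg1
  obtain ⟨c, A, hA, rfl⟩ := mem_LL hf hq hK hl
  have h0 : St f q g a B W S E c A := ⟨hS, hE, hA, w, hw, hc⟩
  by_cases h10 : A.1 1 0 = 0
  swap
  · exact ⟨a, B, W, S, E, c, A, ha, h0, h10⟩
  -- upper triangular, nonscalar
  have upper : ∀ {a B W S E : K} {c : Kˣ} {A : GL (Fin 2) K}, a ≠ 0 → St f q g a B W S E c A → A.1 1 0 = 0 →
      ¬ (A.1 0 0 = A.1 1 1 ∧ A.1 0 1 = 0) →
      ∃ a B W S E c A, a ≠ 0 ∧ St f q g a B W S E c A ∧ A.1 1 0 ≠ 0 := by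
    intro a B W S E c A ha h h10 hns
    obtain ⟨σ, hσ, hb, hX⟩ : ∃ σ, f σ = σ ∧ B - a * σ ≠ 0 ∧ A.1 0 1 + σ * (A.1 0 0 - A.1 1 1) ≠ 0 := by
      by_contra hne
      push Not at hne
      have key : ∀ σ σ' : K, f σ = σ → f σ' = σ' → σ ≠ σ' → B - a * σ ≠ 0 → B - a * σ' ≠ 0 → False := by
        intro σ σ' h1 h2 hd b1 b2
        have e1 := hne σ h1 b1
        have e2 := hne σ' h2 b2
        have : (σ - σ') * (A.1 0 0 - A.1 1 1) = 0 := by linear_combination e1 - e2
        have e3 := (mul_eq_zero.1 this).resolve_left (sub_ne_zero.2 hd)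
        exact hns ⟨sub_eq_zero.1 e3, by rw [e3, mul_zero, add_zero] at e1; exact e1⟩
      have inj : ∀ σ σ' : K, σ ≠ σ' → B - a * σ = 0 → B - a * σ' ≠ 0 := fun σ σ' hd e e' =>
        hd (mul_left_cancel₀ ha (by linear_combination e' - e))
      by_cases b0 : B - a * 0 = 0
      · exact key 1 r (map_one f) hr (Ne.symm hr1) (inj 0 1 zero_ne_one b0) (inj 0 r (Ne.symm hr0) b0)
      · by_cases b1 : B - a * 1 = 0
        · exact key 0 r (map_zero f) hr (Ne.symm hr0) b0 (inj 1 r (Ne.symm hr1) b1)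
        · exact key 0 1 (map_zero f) (map_one f) zero_ne_one b0 b1
    have h2 := St.conjNb hf (St.conjX14 hf h hσ)
    refine ⟨_, _, _, _, _, _, _, hb, h2, ?_⟩
    rw [jG_conj, uG_conj, h10]
    simp
    exact fun e => hX (by linear_combination -e)
  by_cases hns : A.1 0 0 = A.1 1 1 ∧ A.1 0 1 = 0
  swap
  · exact upper ha h0 h10 hns
  -- scalar
  obtain ⟨t, ht⟩ := D4Min.exists_Nm hf hq hK hr hr0
  have ht0 : t ≠ 0 := fun e => hr0 (by rw [← ht, e]; simp [Nm])
  set γ := Units.mk0 t ht0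
  have h1 := St.move hf h0 ha γ
  refine upper (div_ne_zero ha γ.ne_zero) h1 (by rw [mvMat_val]; simpa using h10) fun e => ?_
  rw [mvMat_val] at e
  simp [h10, γ, ht] at e
  have h11 : A.1 1 1 ≠ 0 := fun e0 =>
    ((Matrix.isUnit_iff_isUnit_det A.1).1 A.isUnit).ne_zero (by rw [Matrix.det_fin_two, h10, e0]; ring)
  have := e.1
  rw [hns.1] at this
  exact hr1 (mul_right_cancel₀ h11 (by rw [this, one_mul]))

variable (P : Par f)

/-- Reduction to an upper triangular Levi part with a double eigenvalue. -/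
theorem reach {g : GL chevD4.Idx K} (hreg : Par.Reg q P.el) {a B W S E : K} {c : Kˣ} {A : GL (Fin 2) K}
    (ha : a ≠ 0) (h : St f q g a B W S E c A) (h10 : A.1 1 0 ≠ 0) :
    P.Cov q g ∨ ∃ (a B W S E κ : K) (M : GL (Fin 2) K), B ≠ 0 ∧ κ ≠ 0 ∧ f κ = κ ∧
      St f q g a B W S E (P.c * P.c) M ∧ M.1 = !![(P.D : K), κ; 0, (P.D : K)] := by
  have hDK : (P.D : K) ≠ 0 := fun h => P.Dne (Subtype.ext h)
  have hc : (P.c : K) ≠ 0 := P.c.ne_zero
  set t1 := Nm f ((P.c * P.c : Kˣ) : K) / (((P.c * P.c : Kˣ) : K) * (P.D : K) ^ 2) with ht1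
  have ht10 : t1 ≠ 0 := div_ne_zero
    (mul_ne_zero (mul_ne_zero (Units.ne_zero _) ((map_ne_zero f).2 (Units.ne_zero _)))
      ((map_ne_zero f).2 ((map_ne_zero f).2 (Units.ne_zero _))))
    (mul_ne_zero (Units.ne_zero _) (pow_ne_zero 2 hDK))
  set γ := Units.mk0 (psi f c A / t1) (div_ne_zero (psi_ne hf c A) ht10)
  obtain ⟨e, B', W', S', E', M, -, he0, h1, hd, hM⟩ := toTarget hf h ha (c0 := P.c * P.c) (γ := γ)
    (D0 := (P.D : K) ^ 2) (by rw [map_pow, P.D.2]) (pow_ne_zero 2 hDK)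
    (by rw [← ht1, Units.val_mk0, div_div_cancel₀ (psi_ne hf c A)])
  have hM10 : M.1 1 0 ≠ 0 := by rw [hM]; simpa using div_ne_zero h10 he0
  by_cases htr : M.1 0 0 + M.1 1 1 = 2 * (P.D : K)
  swap
  · exact Or.inl (h1.finish hf (Par.covL_one P hf hreg h1.hA hd (Or.inr ⟨fun e => hM10 e.2.1, htr⟩)))
  right
  have hfix := mem_FX.1 h1.hA
  have hσ : f ((M.1 0 0 - P.D) / M.1 1 0) = (M.1 0 0 - P.D) / M.1 1 0 := by
    rw [map_div₀, map_sub, hfix, hfix, P.D.2]
  set σ := (M.1 0 0 - (P.D : K)) / M.1 1 0 with hσd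
  have h2 := St.conjNb hf (St.conjX14 hf h1 hσ)
  refine ⟨_, _, _, _, _, -M.1 1 0, _, neg_ne_zero.2 (div_ne_zero ha γ.ne_zero), neg_ne_zero.2 hM10,
    by rw [map_neg, hfix], h2, ?_⟩
  have e1 : σ * M.1 1 0 = M.1 0 0 - P.D := by rw [hσd, div_mul_cancel₀ _ hM10]
  rw [Matrix.det_fin_two] at hd
  have e2 : M.1 0 1 + σ * (M.1 0 0 - M.1 1 1) - σ ^ 2 * M.1 1 0 = 0 := by
    refine ((mul_eq_zero (a := M.1 1 0)).1 ?_).resolve_left hM10
    linear_combination (M.1 0 0 - M.1 1 1 - σ * M.1 1 0 - M.1 0 0 + P.D) * e1 - hd + (P.D : K) * htr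
  rw [jG_conj, uG_conj]
  ext i j
  fin_cases i <;> fin_cases j <;> simp [e2]
  · linear_combination e1 + htr
  · linear_combination -e1

/-- The case of vanishing leading coordinate. -/
theorem cov_zero (hreg : Par.Reg q P.el) (hν : Nm f (P.c : K) ^ 2 ≠ (P.D : K) ^ 3)
    (hc : f (P.c : K) ≠ P.c) {g : GL chevD4.Idx K} {B W S E κ : K} {M : GL (Fin 2) K} (hB : B ≠ 0)
    (hκ : κ ≠ 0) (hκf : f κ = κ) (h : St f q g 0 B W S E (P.c * P.c) M)
    (hM : M.1 = !![(P.D : K), κ; 0, (P.D : K)]) : P.Cov q g := by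
  have hDK : (P.D : K) ≠ 0 := fun h => P.Dne (Subtype.ext h)
  have hDf : f (P.D : K) = P.D := P.D.2
  by_cases hS : S = 0
  · subst hS
    obtain ⟨t, ht⟩ := quad_surj hf hq hK (B := B) (W := W) (r := κ / (P.D : K))
      (by rw [map_div₀, hκf, hDf]) hB
    obtain ⟨E', h1⟩ := St.shift hf h t
    refine h1.finish hf (Par.covL_one P hf hreg h1.hA ?_ (Or.inl ?_))
    · rw [Units.val_mul, Matrix.det_mul, uG_val, hM, Matrix.det_fin_two_of, Matrix.det_fin_two_of]; ring
    · have hk : loK f t 0 B W 0 = κ / (P.D : K) := by rw [loK, ← ht]; ring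
      rw [Units.val_mul, uG_val, hM, hk]
      ext i j
      fin_cases i <;> fin_cases j <;> simp [Matrix.mul_apply, Fin.sum_univ_two, div_mul_cancel₀ _ hDK]
  · set c := P.c with hcdef
    have hc0 : (c : K) ≠ 0 := c.ne_zero
    have hdet : M.1.det = (P.D : K) ^ 2 := by rw [hM, Matrix.det_fin_two_of]; ring
    set γ := Units.mk0 (psi f (c * c) M) (psi_ne hf _ _)
    have hγ1 : (γ : K) ≠ 1 := by
      intro e
      rw [Units.val_mk0, psi, hdet] at e
      refine (fix_cases hf hc).2 (r := Nm f (c : K) ^ 2 / (P.D : K) ^ 2) ?_ ?_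
      · rw [map_div₀, map_pow, map_pow, Nm_fix hf, hDf]
      · rw [div_eq_one_iff_eq (mul_ne_zero (Units.ne_zero _) (pow_ne_zero 2 hDK))] at e
        rw [eq_div_iff (pow_ne_zero 2 hDK)]
        simp only [Nm, Units.val_mul, map_mul] at e ⊢
        linear_combination -e
    set θ := ((γ : K) - 1) / B / γ with hθ
    have hθ0 : θ ≠ 0 := div_ne_zero (div_ne_zero (sub_ne_zero.2 hγ1) hB) γ.ne_zero
    have hNθ : Nm f θ ≠ 0 :=
      mul_ne_zero (mul_ne_zero hθ0 ((map_ne_zero f).2 hθ0)) ((map_ne_zero f).2 ((map_ne_zero f).2 hθ0))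
    set σ := (E + Tr f (f θ * f (f θ) * W) / Nm f θ) / S with hσd
    have hσ : f σ = σ := by
      rw [hσd, map_div₀, map_add, map_div₀, Tr_fix hf, Nm_fix hf, h.hS, h.hE]
    have h1 := St.conjNb hf (St.conjX14 hf h hσ)
    have hb : B - 0 * σ ≠ 0 := by rwa [zero_mul, sub_zero]
    obtain ⟨e, B', W', S', E', M', he, he0, h2, hd2, hM'⟩ := toTarget hf h1 hb (c0 := 1) (γ := γ) (D0 := 1)
      (map_one f) one_ne_zero (by
        have hpe : psi f (c * c) (jG * (uG (-σ) * M * (uG (-σ))⁻¹) * jG⁻¹) = psi f (c * c) M := by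
          simp only [psi, jG_conj, uG_conj, hM, Matrix.det_fin_two_of]; simp
        rw [hpe, Units.val_mk0, div_self (psi_ne hf _ _)]
        simp [Nm])
    simp only [zero_mul, sub_zero, mul_zero, map_zero] at hM'
    have hk : mvK f B (-0) (W + 0 * σ + f (f B) * f 0 + f B * f (f 0))
        (E - σ * S - σ * Tr f (0 * B) + 2 * (σ * σ * Nm f 0) - Tr f (f B * f (f B) * 0)) γ = 0 := by
      have hs : σ * S = E + Tr f (f θ * f (f θ) * W) / Nm f θ := by rw [hσd, div_mul_cancel₀ _ hS]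
      simp only [mvK, ← hθ, loK, neg_zero, mul_zero, zero_mul, map_zero, add_zero, sub_zero,
        show Tr f (0 : K) = 0 by simp [Tr], show Nm f (0 : K) = 0 by simp [Nm], zero_add]
      field_simp at hs
      linear_combination -hs
    simp only [neg_zero, map_zero, mul_zero, zero_mul, add_zero, sub_zero] at hk hM'
    rw [jG_conj, uG_conj, hM] at hM'
    simp [hk] at hM'
    refine h2.finish hf (Par.covL_zero P hf hreg h2.hA hd2 (Or.inr ⟨?_, ?_⟩))
    · rw [hM']; simp [hκ, he0]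
    · rw [hM'] at hd2 ⊢
      simp only [Matrix.det_fin_two_of, zero_mul, sub_zero, Matrix.of_apply, Matrix.cons_val', Matrix.cons_val_zero,
        Matrix.cons_val_one, Matrix.cons_val_fin_one] at hd2 ⊢
      intro e2
      set p := Nm f (γ : K) * (P.D : K) / e
      have h11 : (P.D : K) / e = 1 := by
        have : ((P.D : K) / e - 1) ^ 2 = 0 := by linear_combination (P.D : K) / e * e2 - hd2
        exact sub_eq_zero.1 (sq_eq_zero_iff.1 this)
      rw [div_eq_one_iff_eq he0] at h11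
      refine hν ?_
      rw [he] at h11
      simp only [γ, Units.val_mk0, psi, hdet, Units.val_one, div_one, Units.val_mul, Nm, map_mul] at h11
      field_simp at h11
      simp only [Nm]
      linear_combination -h11

/-- The exceptional case over the field with three elements. -/
theorem cov_three (hreg : Par.Reg q P.el) (h3 : q = 3) {g : GL chevD4.Idx K} {a B W S E κ : K}
    {M : GL (Fin 2) K} {γ : Kˣ} (ha : a ≠ 0) (hκ : κ ≠ 0)
    (h : St f q g a B W S E (P.c * P.c) M) (hM : M.1 = !![(P.D : K), κ; 0, (P.D : K)])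
    (hγ : (γ : K) = psi f (P.c * P.c) M) (hNγ : Nm f (γ : K) = 1)
    (he : (γ : K) * (P.c * P.c) = 1) (hD : (P.D : K) = -1) (hk : κ = mvK f a B W S γ * (P.D : K)) :
    P.Cov q g := by
  subst h3
  have h3' : CharP K 3 := by
    obtain ⟨n, hp, hn⟩ := FiniteField.card K (ringChar K)
    have : ringChar K ∣ 3 := by
      apply hp.dvd_of_dvd_pow (n := 3)
      rw [← hK, hn]
      exact dvd_pow_self _ n.ne_zero
    exact (ringChar.of_eq ((Nat.prime_dvd_prime_iff_eq hp Nat.prime_three).1 this))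
  have three : (3 : K) = 0 := by exact_mod_cast CharP.cast_eq_zero K 3
  have cube : ∀ z : K, f z = z ^ 3 := hf.eq
  set k0 := mvK f a B W S γ with hk0
  have hk00 : k0 ≠ 0 := fun e => hκ (by rw [hk, e, zero_mul])
  have hk0f : f k0 = k0 := loK_fix hf _ B W (map_zero f) h.hS
  have hk0sq : k0 * k0 = 1 := mul_left_cancel₀ hk00 (by rw [mul_one, ← mul_assoc, ← pow_three', ← cube, hk0f])
  by_contra hbad
  set η := ((γ : K) - 1) / γ with hη
  -- the condition for each shift
  have key : ∀ σ, f σ = σ → B - a * σ ≠ 0 →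
      Tr f (η * (-a) * (f (B - a * σ) * f (f (B - a * σ)))) +
        Tr f (f η * f (f η) * (B - a * σ) * (W + f a * f (f a) * σ +
          f (f (B - a * σ)) * f a + f (B - a * σ) * f (f a))) +
        Nm f η * (E - σ * S - σ * Tr f (f a * f (f a) * B) + 2 * (σ * σ * Nm f a) -
          Tr f (f (B - a * σ) * f (f (B - a * σ)) * a)) = -k0 * Nm f (B - a * σ) := by
    intro σ hσ hb
    have h1 := St.conjNb hf (St.conjX14 hf h hσ)
    obtain ⟨e, B', W', S', E', M', he', he0, h2, hd2, hM'⟩ := toTarget hf h1 hb (c0 := 1) (γ := γ) (D0 := 1)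
      (map_one f) one_ne_zero (by
        have hpe : psi f (P.c * P.c) (jG * (uG (-σ) * M * (uG (-σ))⁻¹) * jG⁻¹) = psi f (P.c * P.c) M := by
          simp only [psi, jG_conj, uG_conj, hM, Matrix.det_fin_two_of]; simp
        rw [hpe, hγ, div_self (psi_ne hf _ _)]
        simp [Nm])
    rw [Units.val_one, div_one, Units.val_mul, he] at he'
    subst he'
    set k' := mvK f (B - a * σ) (-a) (W + f a * f (f a) * σ + f (f (B - a * σ)) * f a + f (B - a * σ) * f (f a))
      (E - σ * S - σ * Tr f (f a * f (f a) * B) + 2 * (σ * σ * Nm f a) -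
          Tr f (f (B - a * σ) * f (f (B - a * σ)) * a)) γ with hk'
    rw [jG_conj, uG_conj, hM, hNγ] at hM'
    simp at hM'
    have hk'f : f k' = k' := loK_fix hf _ _ _ (map_zero f) h1.hS
    have hprod : k' * κ = 1 := by
      by_contra hne
      refine hbad (h2.finish hf (Par.covL_zero P hf hreg h2.hA hd2 (Or.inr ⟨?_, ?_⟩)))
      · rw [hM']; simp [hκ]
      · rw [hM']
        intro e2
        simp [hD] at e2
        exact hne (by linear_combination e2 + three)
    have hk'v : k' = -k0 := by linear_combination -k0 * hprod + k0 * k' * (hk.trans (by rw [hD])) - k' * hk0sq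
    have hNb : Nm f (B - a * σ) ≠ 0 :=
      mul_ne_zero (mul_ne_zero hb ((map_ne_zero f).2 hb)) ((map_ne_zero f).2 ((map_ne_zero f).2 hb))
    rw [← hk'v, hk']
    set b := B - a * σ
    have h1b : f b ≠ 0 := (map_ne_zero f).2 hb
    have h2b : f (f b) ≠ 0 := (map_ne_zero f).2 h1b
    have hθ : ((γ : K) - 1) / b / γ = η / b := by rw [hη, div_right_comm]
    simp only [mvK, hθ, loK, Tr, Nm, map_div₀, map_mul, map_neg, map_add, hf.three]
    field_simp
    ring
  -- the linear dependence on the shift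
  have hh : Tr f (η * f η) - Nm f η = Tr f η := by
    have hg0 : (γ : K) ≠ 0 := γ.ne_zero
    have hg1 : f (γ : K) ≠ 0 := (map_ne_zero f).2 hg0
    have hg2 : f (f (γ : K)) ≠ 0 := (map_ne_zero f).2 hg1
    simp only [hη, Tr, Nm, map_div₀, map_sub, map_one, map_mul, hf.three] at hNγ ⊢
    field_simp
    linear_combination -hNγ
  have hNa : Nm f a ≠ 0 :=
    mul_ne_zero (mul_ne_zero ha ((map_ne_zero f).2 ha)) ((map_ne_zero f).2 ((map_ne_zero f).2 ha))
  have hk0e : Nm f a * k0 = Tr f (η * B * (f a * f (f a))) + Tr f (f η * f (f η) * W * a) + Nm f η * S := by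
    have h1a : f a ≠ 0 := (map_ne_zero f).2 ha
    have h2a : f (f a) ≠ 0 := (map_ne_zero f).2 h1a
    have hθ : ((γ : K) - 1) / a / γ = η / a := by rw [hη, div_right_comm]
    simp only [hk0, mvK, hθ, loK, Tr, Nm, map_div₀, map_mul, hf.three]
    field_simp
    ring
  set u := B / a with hu
  have hB : B = a * u := by rw [hu]; field_simp
  set C := -(Tr f (η * (-a) * (f B * f (f B))) + Tr f (f η * f (f η) * B * (W + f (f B) * f a + f B * f (f a))) +
    Nm f η * (E - Tr f (f B * f (f B) * a))) / (k0 * Nm f a)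
  have hshift : ∀ σ, f σ = σ → u - σ ≠ 0 → Nm f (u - σ) = C + σ := by
    intro σ hσ hne
    have hk1 := key σ hσ (by rw [hB, ← mul_sub]; exact mul_ne_zero ha hne)
    have hN : Nm f (B - a * σ) = Nm f a * Nm f (u - σ) := by
      rw [hB, ← mul_sub]; simp only [Nm, map_mul]; ring
    rw [hN] at hk1
    have e : k0 * Nm f a * (C + σ) = k0 * Nm f a * σ - (Tr f (η * (-a) * (f B * f (f B))) +
        Tr f (f η * f (f η) * B * (W + f (f B) * f a + f B * f (f a))) +
        Nm f η * (E - Tr f (f B * f (f B) * a))) := by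
      simp only [C]; field_simp; ring
    refine mul_left_cancel₀ (mul_ne_zero hk00 hNa) ?_
    rw [e]
    simp only [Tr, Nm, map_add, map_sub, map_neg, map_mul, map_ofNat, hσ, hf.three] at hh hk0e hk1 ⊢
    clear_value η k0
    linear_combination hk1 - σ * hk0e - σ ^ 2 * (a * f a * f (f a)) * hh +
      σ * (B * (f a * f (f a)) + f B * (f (f a) * a) + f (f B) * (a * f a)) * hh
  by_cases huf : f u = u
  · have hu3 : u * u * u = u := by rw [← pow_three', ← cube]; exact huf
    have hs : ∀ σ, f σ = σ → u - σ ≠ 0 → u + σ = C := by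
      intro σ hσ hne
      have h1 := hshift σ hσ hne
      have hs3 : σ * σ * σ = σ := by rw [← pow_three', ← cube]; exact hσ
      simp only [Nm, map_sub, huf, hσ] at h1
      linear_combination h1 + σ * three + hs3 - hu3 + (u * u * σ - u * σ * σ) * three
    have h1ne : (1 : K) ≠ -1 := fun e => one_ne_zero (show (1 : K) = 0 by linear_combination three - e)
    by_cases u0 : u = 0
    · have e1 := hs 1 (map_one f) (by rw [u0, zero_sub]; exact neg_ne_zero.2 one_ne_zero)
      have e2 := hs (-1) (by simp) (by rw [u0, zero_sub, neg_neg]; exact one_ne_zero)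
      exact h1ne (by linear_combination e1 - e2)
    · have e1 := hs 0 (map_zero f) (by rwa [sub_zero])
      by_cases u1 : u = 1
      · have e2 := hs (-1) (by simp) (by rw [u1, sub_ne_zero]; exact h1ne)
        exact one_ne_zero (show (1 : K) = 0 by linear_combination e1 - e2)
      · have e2 := hs 1 (map_one f) (sub_ne_zero.2 u1)
        exact one_ne_zero (show (1 : K) = 0 by linear_combination e2 - e1)
  · have hne : ∀ σ, f σ = σ → u - σ ≠ 0 := fun σ hσ e => huf (by rw [sub_eq_zero.1 e, hσ])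
    have e0 := hshift 0 (map_zero f) (hne 0 (map_zero f))
    have e1 := hshift 1 (map_one f) (hne 1 (map_one f))
    have e2 := hshift (-1) (by simp) (hne (-1) (by simp))
    simp only [sub_zero, add_zero, Nm, map_sub, map_neg, map_one, map_zero] at e0 e1 e2
    have eT : Tr f u = 0 := by
      simp only [Tr]
      linear_combination 2 * e1 + 2 * e2 - 4 * e0 - (u + f u + f (f u)) * three
    have eQ : u * f u + f u * f (f u) + f (f u) * u = 1 := by
      linear_combination e1 - e2 + 1 * three + (u * f u + f u * f (f u) + f (f u) * u) * three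
    have e3 : f u = Nm f u - u := by
      rw [cube u]
      simp only [Tr, Nm] at eT ⊢
      linear_combination u * u * eT - u * eQ
    have e4 : f (f u) = Nm f u - f u := by rw [e3, map_sub, Nm_fix hf, e3]
    have e5 : f (f u) = u := by rw [e4, e3]; ring
    have e6 := congrArg f e5
    rw [hf.three] at e6
    exact huf e6.symm

/-- The covering statement for `q ≥ 3`. -/
theorem cov_all (hreg : Par.Reg q P.el) (hc : f (P.c : K) ≠ P.c)
    (hν : Nm f (P.c : K) ^ 2 ≠ (P.D : K) ^ 3) (hν' : Nm f (P.c : K) ^ 2 ≠ -(P.D : K) ^ 3 ∨ q = 3)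
    {r : K} (hr : f r = r) (hr0 : r ≠ 0) (hr1 : r ≠ 1) {g : GL chevD4.Idx K} (hg : g ∈ twistedD4 K q)
    (hg1 : g ≠ 1) : P.Cov q g := by
  have hDK : (P.D : K) ≠ 0 := fun h => P.Dne (Subtype.ext h)
  obtain ⟨a0, B0, W0, S0, E0, c', A, ha0, h0, h10⟩ := start_low hf hq hK hr hr0 hr1 hg hg1
  rcases reach hf hq hK P hreg ha0 h0 h10 with hgood | ⟨a, B, W, S, E, κ, M, hB, hκ, hκf, h, hM⟩
  · exact hgood
  by_cases ha : a = 0
  · subst ha; exact cov_zero hf hq hK P hreg hν hc hB hκ hκf h hM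
  have hdet : M.1.det = (P.D : K) ^ 2 := by rw [hM, Matrix.det_fin_two_of]; ring
  have hc0 : (P.c : K) ≠ 0 := P.c.ne_zero
  have hN0 : Nm f (P.c : K) ≠ 0 :=
    mul_ne_zero (mul_ne_zero hc0 ((map_ne_zero f).2 hc0)) ((map_ne_zero f).2 ((map_ne_zero f).2 hc0))
  set γ := Units.mk0 (psi f (P.c * P.c) M) (psi_ne hf _ _) with hγd
  obtain ⟨e, B', W', S', E', M', he, he0, h2, hd2, hM'⟩ := toTarget hf h ha (c0 := 1) (γ := γ) (D0 := 1)
    (map_one f) one_ne_zero (by rw [hγd, Units.val_mk0, div_self (psi_ne hf _ _)]; simp [Nm])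
  have hev : e = Nm f (P.c : K) ^ 2 / (P.D : K) ^ 2 := by
    rw [he, hγd, Units.val_mk0, psi, hdet, Units.val_one, div_one]
    simp only [Nm, Units.val_mul, map_mul]
    field_simp
  rw [hM] at hM'
  simp at hM'
  set k := mvK f a B W S γ with hk
  have hr1' : (P.D : K) / e ≠ 1 := by
    rw [ne_eq, div_eq_one_iff_eq he0, hev, eq_div_iff (pow_ne_zero 2 hDK)]
    intro h'; exact hν (by linear_combination -h')
  by_cases hsc : M'.1 0 1 = 0 ∧ M'.1 1 0 = 0 ∧ M'.1 0 0 = M'.1 1 1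
  swap
  · refine h2.finish hf (Par.covL_zero P hf hreg h2.hA hd2 (Or.inr ⟨hsc, ?_⟩))
    rw [hM'] at hd2 ⊢
    simp [Matrix.det_fin_two_of] at hd2 ⊢
    intro e2
    have : ((P.D : K) / e - 1) ^ 2 = 0 := by linear_combination (P.D : K) / e * e2 - hd2
    exact hr1' (sub_eq_zero.1 (sq_eq_zero_iff.1 this))
  obtain ⟨s1, -, s3⟩ := hsc
  rw [hM'] at hd2 s1 s3
  simp [Matrix.det_fin_two_of] at hd2 s1 s3
  rw [s3] at hd2
  have hm1 : (P.D : K) / e = -1 := by
    rcases mul_self_eq_one_iff.1 hd2 with h' | h'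
    · exact absurd h' hr1'
    · exact h'
  have hneg : Nm f (P.c : K) ^ 2 = -(P.D : K) ^ 3 := by
    rw [div_eq_iff he0, hev] at hm1
    field_simp at hm1
    linear_combination hm1
  have hq3 := hν'.resolve_left (fun h' => h' hneg)
  have hNγ : Nm f (γ : K) = 1 := by
    rw [div_eq_iff he0] at hm1
    rw [hm1] at s3
    field_simp at s3
    linear_combination -s3
  have hsq : ∀ z : K, f z = z → z ≠ 0 → z ^ 2 = 1 := fun z hz hz0 => mul_left_cancel₀ hz0 (by
    rw [mul_one, ← pow_succ', show (2 + 1 : ℕ) = q by rw [hq3], ← hf.eq]; exact hz)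
  have hD1 : (P.D : K) = -1 := by
    have e2 := hsq _ (Nm_fix hf (P.c : K)) hN0
    have e3 := hsq _ P.D.2 hDK
    linear_combination hneg - e2 - (P.D : K) * e3
  have he1 : e = 1 := by
    rw [div_eq_iff he0, hD1] at hm1
    linear_combination hm1
  refine cov_three hf hq hK P hreg hq3 ha hκ h hM rfl hNγ ?_ hD1 ?_
  · rw [he, Units.val_one, div_one, Units.val_mul] at he1; exact he1
  · rcases s1 with s1 | s1
    · rcases s1 with s1 | s1
      · rw [hNγ] at s1; exact absurd s1 one_ne_zero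
      · linear_combination s1
    · exact absurd s1 he0

end H35.D4Cover
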