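import Cfsg.Agent.H35.D4Cover.Cell
import Cfsg.Agent.H52.RankOne

/-!
³D₄(q): how conjugation changes the coordinates in the big cell.
-/

set_option autoImplicit false
set_option linter.unusedSectionVars false

open Cfsg.Lie
open scoped MatrixGroups

namespace H35.D4Cover

open D4Min (Frob tc nb na Nm Tr raw Fx)

variable {K : Type*} [Field K]

local notation "x" => H52.rt chevD4

/-- Matrices over the fixed field. -/
def FX (f : K ≃+* K) : Subgroup (GL (Fin 2) K) :=
  MonoidHom.eqLocus (Matrix.GeneralLinearGroup.map (n := Fin 2) f.toRingHom) (MonoidHom.id _)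

theorem mem_FX {f : K ≃+* K} {A : GL (Fin 2) K} : A ∈ FX f ↔ ∀ i j, f (A.1 i j) = A.1 i j :=
  ⟨fun h i j => congrArg (fun M : GL (Fin 2) K => M.1 i j) h, fun h => Units.ext (Matrix.ext h)⟩

/-- The character of the Levi subgroup. -/
noncomputable def psi (f : K ≃+* K) (c : Kˣ) (A : GL (Fin 2) K) : K :=
  Nm f c / ((c : K) * A.1.det)

/-- Conjugacy in the twisted group. -/
def CT (K : Type*) [Field K] (q : ℕ) (g h : GL chevD4.Idx K) : Prop :=
  ∃ z ∈ twistedD4 K q, z * g * z⁻¹ = h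

theorem CT.trans {q : ℕ} {a b c : GL chevD4.Idx K} (h1 : CT K q a b) (h2 : CT K q b c) : CT K q a c := by
  obtain ⟨z, hz, rfl⟩ := h1
  obtain ⟨y, hy, rfl⟩ := h2
  exact ⟨y * z, mul_mem hy hz, by group⟩

theorem uG_val (t : K) : (uG t).1 = !![1, t; 0, 1] := rfl

theorem lG_val (t : K) : (lG t).1 = !![1, 0; t, 1] := rfl

variable [Fintype K] {q : ℕ} {f : K ≃+* K} (hf : Frob q f)
include hf

theorem lv_LL {c : Kˣ} {A : GL (Fin 2) K} (hA : A ∈ FX f) : lv f (c, A) ∈ LL K q :=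
  Subgroup.mem_inf.2 ⟨lv_mem hf (mem_FX.1 hA), lv_level f _⟩

theorem uG_FX {t : K} (ht : f t = t) : uG t ∈ FX f := mem_FX.2 fun i j => by
  fin_cases i <;> fin_cases j <;> simp [uG_val, ht]

theorem lG_FX {t : K} (ht : f t = t) : lG t ∈ FX f := mem_FX.2 fun i j => by
  fin_cases i <;> fin_cases j <;> simp [lG_val, ht]

theorem nG_FX (c : Kˣ) : nG f c ∈ FX f := mem_FX.2 (nG_fix hf c)

theorem sGL_FX {c : Kˣ} (h : f (c : K) = c) : D4Torus.sGL c ∈ FX f := mem_FX.2 fun i j => by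
  fin_cases i <;> fin_cases j <;> simp [D4Torus.sGL, h]

theorem x14_LL {t : K} (ht : f t = t) : x 14 t ∈ LL K q := by
  rw [x14_eq f]; exact lv_LL hf (uG_FX hf (by rw [map_neg, ht]))

theorem x9_LL {t : K} (ht : f t = t) : x 9 t ∈ LL K q := by
  rw [x9_eq f]; exact lv_LL hf (lG_FX hf (by rw [map_neg, ht]))

omit hf in
theorem nb_eq : nb K = x 14 1 * x 9 (-1) * x 14 1 := by
  rw [nb, H52.Checked.nElt_eq, show chevD4.neg 14 = 9 by decide +kernel, inv_one]

theorem nb_LL : nb K ∈ LL K q := by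
  rw [nb_eq]
  exact mul_mem (mul_mem (x14_LL hf (map_one f)) (x9_LL hf (by rw [map_neg, map_one]))) (x14_LL hf (map_one f))

theorem tB_UM (t : K) : tB f t ∈ UM K q := by
  refine Subgroup.mem_inf.2 ⟨tB_mem hf t, ?_⟩
  exact mul_mem (mul_mem (x_mem_uniN (by norm_num) (by decide +kernel) _)
    (x_mem_uniN (by norm_num) (by decide +kernel) _)) (x_mem_uniN (by norm_num) (by decide +kernel) _)

/-- `h_a(c)` as a product. -/
theorem tc_prod (c : Kˣ) :
    H52.torus chevD4 (tc f c 1) = H52.hElt chevD4 18 (c : K) *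
      (H52.hElt chevD4 13 (f c) * H52.hElt chevD4 12 (f (f c))) := by
  rw [H52.checkedD4.torus_eq_prod]
  have hl : List.finRange chevD4.rank = [⟨0, by decide⟩, ⟨1, by decide⟩, ⟨2, by decide⟩, ⟨3, by decide⟩] := rfl
  rw [hl]
  simp only [List.map_cons, List.map_nil, List.prod_cons, List.prod_nil, mul_one,
    show chevD4.simple 0 = 18 by decide +kernel, show chevD4.simple 1 = 14 by decide +kernel,
    show chevD4.simple 2 = 13 by decide +kernel, show chevD4.simple 3 = 12 by decide +kernel]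
  show H52.hElt chevD4 18 (c : K) * (H52.hElt chevD4 14 ((1 : Kˣ) : K) *
    (H52.hElt chevD4 13 (f c) * H52.hElt chevD4 12 (f (f c)))) = _
  rw [H52.checkedD4.hElt_eq_torus (r := 14) (by decide), show (fun i : Fin chevD4.rank =>
    (1 : Kˣ) ^ H52.crt chevD4 14 i.val) = 1 from funext fun i => one_zpow _, map_one, one_mul]

omit hf in
/-- The rank one identity. -/
theorem rank_one {r : ℕ} (hr : r < 24) (a t : K) (h : 1 + t * a ≠ 0) :
    x (chevD4.neg r) t * x r a =
      x r (a / (1 + t * a)) * H52.hElt chevD4 r ((1 + t * a)⁻¹) * x (chevD4.neg r) (t / (1 + t * a)) := by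
  obtain ⟨φ, -, hφ⟩ := (H52.checkedD4.rankOneRel (F := K) hr).exists_hom
  have hu : ∀ s, φ (D4Torus.uS s) = x r s := fun s => (hφ _ s).1 rfl
  have hl : ∀ s, φ (D4Torus.lS s) = x (chevD4.neg r) s := fun s => (hφ _ s).2 rfl
  set g := 1 + t * a with hg
  let c : Kˣ := Units.mk0 g⁻¹ (inv_ne_zero h)
  have hd : φ ⟨!![(c : K), 0; 0, (c : K)⁻¹], by simp [Matrix.det_fin_two, mul_inv_cancel₀ c.ne_zero]⟩ =
      H52.hElt chevD4 r g⁻¹ := by
    have e : D4Torus.wS c * D4Torus.wS (-1) =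
        ⟨!![(c : K), 0; 0, (c : K)⁻¹], by simp [Matrix.det_fin_two, mul_inv_cancel₀ c.ne_zero]⟩ := by
      apply Subtype.ext
      show !![0, (c : K); -(c : K)⁻¹, 0] * !![0, ((-1 : Kˣ) : K); -((-1 : Kˣ) : K)⁻¹, 0] = _
      ext i j; fin_cases i <;> fin_cases j <;> simp
    rw [← e, map_mul, D4Torus.wS_eq, D4Torus.wS_eq, map_mul, map_mul, map_mul, map_mul, hu, hl, hu, hl,
      H52.Checked.hElt_eq, H52.Checked.nElt_eq, H52.Checked.nElt_eq]
    simp [c]
  rw [← hu, ← hu, ← hl, ← hl, ← hd]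
  refine ((map_mul φ _ _).symm.trans (Eq.trans (congrArg φ ?_) (map_mul φ _ _))).trans
    (congrArg (· * φ (D4Torus.lS (t / g))) (map_mul φ _ _))
  apply Subtype.ext
  show !![1, 0; t, 1] * !![1, a; 0, 1] = !![1, a / g; 0, 1] * !![(c : K), 0; 0, (c : K)⁻¹] * !![1, 0; t / g, 1]
  ext i j
  fin_cases i <;> fin_cases j <;> simp [c] <;> field_simp
  all_goals (rw [hg]; ring)

theorem rank_triple (a t : K) (γ : Kˣ) (h : 1 + t * a = (γ : K)) :
    tB f t * tA f a = tA f (a / γ) * H52.torus chevD4 (tc f γ⁻¹ 1) * tB f (t / γ) := by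
  have h1 : 1 + f t * f a = f γ := by rw [← h, map_add, map_one, map_mul]
  have h2 : 1 + f (f t) * f (f a) = f (f γ) := by rw [← h1, map_add, map_one, map_mul]
  have hne : (γ : K) ≠ 0 := γ.ne_zero
  have e0 := rank_one (K := K) (r := 18) (by norm_num) a t (by rw [h]; exact hne)
  have e1 := rank_one (K := K) (r := 13) (by norm_num) (f a) (f t) (by rw [h1]; exact (map_ne_zero f).2 hne)
  have e2 := rank_one (K := K) (r := 12) (by norm_num) (f (f a)) (f (f t))
    (by rw [h2]; exact (map_ne_zero f).2 ((map_ne_zero f).2 hne))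
  rw [show chevD4.neg 18 = 5 by decide +kernel, h] at e0
  rw [show chevD4.neg 13 = 10 by decide +kernel, h1] at e1
  rw [show chevD4.neg 12 = 11 by decide +kernel, h2] at e2
  have hh : ∀ {r : ℕ} (c : K), r ∈ [18, 13, 12] → H52.hElt chevD4 r c =
      x r c * x (chevD4.neg r) (-c⁻¹) * x r c * (x r (-1) * x (chevD4.neg r) (-(-1)⁻¹) * x r (-1)) := by
    intro r c _
    rw [H52.Checked.hElt_eq, H52.Checked.nElt_eq, H52.Checked.nElt_eq]
  have six : ∀ {a b : ℕ}, a ∈ [18, 13, 12, 5, 10, 11] → b ∈ [18, 13, 12, 5, 10, 11] → b ≠ chevD4.neg a →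
      ∀ y z : K, Commute (x a y) (x b z) := fun ha hb hn y z => H53.D4T.rt_comm ha hb hn y z
  set H18 := Subgroup.closure ({g | ∃ s, g = x 18 s ∨ g = x 5 s} : Set (GL chevD4.Idx K))
  set H13 := Subgroup.closure ({g | ∃ s, g = x 13 s ∨ g = x 10 s} : Set (GL chevD4.Idx K))
  set H12 := Subgroup.closure ({g | ∃ s, g = x 12 s ∨ g = x 11 s} : Set (GL chevD4.Idx K))
  have hc : ∀ {P Q : Set (GL chevD4.Idx K)}, (∀ y ∈ P, ∀ z ∈ Q, Commute y z) →
      ∀ y ∈ Subgroup.closure P, ∀ z ∈ Subgroup.closure Q, Commute y z := by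
    intro P Q hPQ y hy z hz
    have h1 : ∀ y ∈ P, Commute y z := fun y hy => by
      induction hz using Subgroup.closure_induction with
      | mem z hz => exact hPQ y hy z hz
      | one => exact Commute.one_right _
      | mul _ _ _ _ a b => exact a.mul_right b
      | inv _ _ a => exact a.inv_right
    induction hy using Subgroup.closure_induction with
    | mem y hy => exact h1 y hy
    | one => exact Commute.one_left _
    | mul _ _ _ _ a b => exact a.mul_left b
    | inv _ _ a => exact a.inv_left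
  have c1 : ∀ y ∈ H13, ∀ z ∈ H18, Commute y z := hc (by
    rintro _ ⟨s, rfl | rfl⟩ _ ⟨u, rfl | rfl⟩ <;> exact six (by decide) (by decide) (by decide +kernel) _ _)
  have c2 : ∀ y ∈ H12, ∀ z ∈ H18, Commute y z := hc (by
    rintro _ ⟨s, rfl | rfl⟩ _ ⟨u, rfl | rfl⟩ <;> exact six (by decide) (by decide) (by decide +kernel) _ _)
  have c3 : ∀ y ∈ H12, ∀ z ∈ H13, Commute y z := hc (by
    rintro _ ⟨s, rfl | rfl⟩ _ ⟨u, rfl | rfl⟩ <;> exact six (by decide) (by decide) (by decide +kernel) _ _)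
  have m18 : ∀ s, x 18 s ∈ H18 := fun s => Subgroup.subset_closure ⟨s, Or.inl rfl⟩
  have m5 : ∀ s, x 5 s ∈ H18 := fun s => Subgroup.subset_closure ⟨s, Or.inr rfl⟩
  have m13 : ∀ s, x 13 s ∈ H13 := fun s => Subgroup.subset_closure ⟨s, Or.inl rfl⟩
  have m10 : ∀ s, x 10 s ∈ H13 := fun s => Subgroup.subset_closure ⟨s, Or.inr rfl⟩
  have m12 : ∀ s, x 12 s ∈ H12 := fun s => Subgroup.subset_closure ⟨s, Or.inl rfl⟩
  have m11 : ∀ s, x 11 s ∈ H12 := fun s => Subgroup.subset_closure ⟨s, Or.inr rfl⟩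
  have n18 : ∀ c : K, H52.hElt chevD4 18 c ∈ H18 := fun c => by
    rw [hh c (by decide), show chevD4.neg 18 = 5 by decide +kernel]
    exact mul_mem (mul_mem (mul_mem (m18 _) (m5 _)) (m18 _)) (mul_mem (mul_mem (m18 _) (m5 _)) (m18 _))
  have n13 : ∀ c : K, H52.hElt chevD4 13 c ∈ H13 := fun c => by
    rw [hh c (by decide), show chevD4.neg 13 = 10 by decide +kernel]
    exact mul_mem (mul_mem (mul_mem (m13 _) (m10 _)) (m13 _)) (mul_mem (mul_mem (m13 _) (m10 _)) (m13 _))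
  -- the product of three commuting triples
  have three : ∀ {p1 p2 p3 r1 r2 r3 : GL chevD4.Idx K}, p2 ∈ H13 → p3 ∈ H12 → r1 ∈ H18 → r2 ∈ H13 →
      (p1 * p2 * p3) * (r1 * r2 * r3) = (p1 * r1) * (p2 * r2) * (p3 * r3) := by
    intro p1 p2 p3 r1 r2 r3 h2 h3 g1 g2
    calc (p1 * p2 * p3) * (r1 * r2 * r3) = p1 * (p2 * (p3 * r1)) * (r2 * r3) := by group
      _ = p1 * ((p2 * r1) * (p3 * r2)) * r3 := by rw [(c2 _ h3 _ g1).eq]; group
      _ = _ := by rw [(c1 _ h2 _ g1).eq, (c3 _ h3 _ g2).eq]; group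
  rw [show tB f t = x 5 t * x 10 (f t) * x 11 (f (f t)) from rfl,
    show tA f a = x 18 a * x 13 (f a) * x 12 (f (f a)) from rfl,
    three (m10 _) (m11 _) (m18 _) (m13 _), e0, e1, e2, tc_prod hf, ← mul_assoc (H52.hElt chevD4 18 _),
    show tA f (a / γ) = x 18 (a / γ) * x 13 (f (a / γ)) * x 12 (f (f (a / γ))) from rfl,
    three (m13 _) (m12 _) (n18 _) (n13 _),
    show tB f (t / γ) = x 5 (t / γ) * x 10 (f (t / γ)) * x 11 (f (f (t / γ))) from rfl]
  rw [three (p2 := x 13 (f (a / γ)) * _) (p3 := x 12 (f (f (a / γ))) * _)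
    (mul_mem (m13 _) (n13 _)) (mul_mem (m12 _) ?_) (m5 _) (m10 _)]
  · simp only [map_div₀, Units.val_inv_eq_inv_val, map_inv₀]
  · rw [hh _ (by decide), show chevD4.neg 12 = 11 by decide +kernel]
    exact mul_mem (mul_mem (mul_mem (m12 _) (m11 _)) (m12 _)) (mul_mem (mul_mem (m12 _) (m11 _)) (m12 _))

/-- Conjugation by `h_a(c)`. -/
theorem torus_tvec (c : Kˣ) (B W S E : K) :
    H52.torus chevD4 (tc f c 1) * raw (tvec f 0 B W S E) * (H52.torus chevD4 (tc f c 1))⁻¹ =
      raw (tvec f 0 ((c : K) ^ 2 / Nm f c * B) (Nm f c / (c : K) ^ 2 * W) (Nm f c * S) E) := by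
  have w : ∀ {r : ℕ} {a b a2 a3 : ℤ}, chevD4.cartan 0 r = a → chevD4.cartan 1 r = b → chevD4.cartan 2 r = a2 →
      chevD4.cartan 3 r = a3 →
      D4Min.wt (tc f c 1) r = (c : K) ^ a * ((1 : Kˣ) : K) ^ b * f c ^ a2 * f (f c) ^ a3 :=
    fun h0 h1 h2 h3 => D4Min.wt_eq c 1 h0 h1 h2 h3
  rw [D4Min.torus_raw,
    w (r := 14) (a := -1) (b := 2) (a2 := -1) (a3 := -1) (by decide +kernel) (by decide +kernel) (by decide +kernel) (by decide +kernel),
    w (r := 19) (a := 1) (b := 1) (a2 := -1) (a3 := -1) (by decide +kernel) (by decide +kernel) (by decide +kernel) (by decide +kernel),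
    w (r := 16) (a := -1) (b := 1) (a2 := 1) (a3 := -1) (by decide +kernel) (by decide +kernel) (by decide +kernel) (by decide +kernel),
    w (r := 15) (a := -1) (b := 1) (a2 := -1) (a3 := 1) (by decide +kernel) (by decide +kernel) (by decide +kernel) (by decide +kernel),
    w (r := 17) (a := -1) (b := 0) (a2 := 1) (a3 := 1) (by decide +kernel) (by decide +kernel) (by decide +kernel) (by decide +kernel),
    w (r := 20) (a := 1) (b := 0) (a2 := -1) (a3 := 1) (by decide +kernel) (by decide +kernel) (by decide +kernel) (by decide +kernel),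
    w (r := 21) (a := 1) (b := 0) (a2 := 1) (a3 := -1) (by decide +kernel) (by decide +kernel) (by decide +kernel) (by decide +kernel),
    w (r := 22) (a := 1) (b := -1) (a2 := 1) (a3 := 1) (by decide +kernel) (by decide +kernel) (by decide +kernel) (by decide +kernel),
    w (r := 23) (a := 0) (b := 1) (a2 := 0) (a3 := 0) (by decide +kernel) (by decide +kernel) (by decide +kernel) (by decide +kernel)]
  have hc : (c : K) ≠ 0 := c.ne_zero
  have hc1 : f (c : K) ≠ 0 := (map_ne_zero f).2 hc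
  have hc2 : f (f (c : K)) ≠ 0 := (map_ne_zero f).2 hc1
  congr 1
  ext <;> simp [tvec, Nm, hf.three, zpow_neg] <;>
    first | ring1 | (field_simp; first | done | ring1 | exact Or.inl trivial)

theorem nb_tvec (B W S E : K) :
    nb K * raw (tvec f 0 B W S E) * (nb K)⁻¹ = up f B 0 W E (-S) := by
  rw [up, show raw (tvec f 0 B W S E) = x 14 (0 : K) * x 19 (-B) * x 16 (f B) * x 15 (f (f B)) * x 17 W *
    x 20 (-f W) * x 21 (-f (f W)) * x 22 (-S) * x 23 E from rfl, D4Min.conj_prod9,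
    D4Min.nb_conj (r := 14) (s := 9) (-1) (by norm_num) (by decide +kernel),
    D4Min.nb_conj (r := 19) (s := 18) (-1) (by norm_num) (by decide +kernel),
    D4Min.nb_conj (r := 16) (s := 13) 1 (by norm_num) (by decide +kernel),
    D4Min.nb_conj (r := 15) (s := 12) 1 (by norm_num) (by decide +kernel),
    D4Min.nb_conj (r := 17) (s := 17) 1 (by norm_num) (by decide +kernel),
    D4Min.nb_conj (r := 20) (s := 20) 1 (by norm_num) (by decide +kernel),
    D4Min.nb_conj (r := 21) (s := 21) 1 (by norm_num) (by decide +kernel),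
    D4Min.nb_conj (r := 22) (s := 23) 1 (by norm_num) (by decide +kernel),
    D4Min.nb_conj (r := 23) (s := 22) (-1) (by norm_num) (by decide +kernel)]
  simp only [tA, raw, tvec, Int.cast_neg, Int.cast_one, mul_zero, neg_mul, one_mul, neg_neg,
    neg_zero, map_zero, D4Min.x_zero, mul_one, mul_assoc]
  rw [D4Min.x_comm (r := 22) (s := 23) (by decide +kernel)]

theorem up_x14 (a : K) {σ : K} (hσ : f σ = σ) (B W S E : K) :
    x 14 σ * up f a B W S E * (x 14 σ)⁻¹ =
      up f a (B - a * σ) (W + f a * f (f a) * σ) (S - Nm f a * σ)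
        (E - σ * S - σ * Tr f (f a * f (f a) * B) + 2 * (σ * σ * Nm f a)) := by
  have h := cA_tvec hf (-a) hσ (0 : K) 0 0 0
  rw [← x14_tvec, ← tA_inv, inv_inv] at h
  have e : x 14 σ * up f a B W S E * (x 14 σ)⁻¹ =
      tA f a * (((tA f a)⁻¹ * x 14 σ * tA f a) * raw (tvec f 0 B W S E) * (x 14 σ)⁻¹) := by
    simp only [up]; group
  rw [h, x14_tvec (f := f) σ, tvec_inv, tvec_mul, tvec_mul] at e
  rw [x14_tvec (f := f) σ, tvec_inv, e]
  simp only [up]
  congr 2
  ext <;> simp [tvec, Tr, Nm, hf.three, hσ] <;> ring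

theorem up0_x14 (σ : K) (B W S E : K) :
    x 14 σ * up f 0 B W S E * (x 14 σ)⁻¹ = up f 0 B W S (E - S * σ) := by
  simp only [up, tA_zero, one_mul]
  rw [x14_tvec (f := f) σ, tvec_inv, tvec_mul, tvec_mul]
  congr 1
  ext <;> simp [tvec, Tr] <;> ring

theorem tA_nb (a : K) : nb K * tA f a * (nb K)⁻¹ = raw (tvec f 0 (-a) 0 0 0) := by
  rw [tA, show ∀ p r s : GL chevD4.Idx K, nb K * (p * r * s) * (nb K)⁻¹ =
      (nb K * p * (nb K)⁻¹) * (nb K * r * (nb K)⁻¹) * (nb K * s * (nb K)⁻¹) from fun p r s => by group,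
    D4Min.nb_conj (r := 18) (s := 19) 1 (by norm_num) (by decide +kernel),
    D4Min.nb_conj (r := 13) (s := 16) (-1) (by norm_num) (by decide +kernel),
    D4Min.nb_conj (r := 12) (s := 15) (-1) (by norm_num) (by decide +kernel)]
  simp [raw, tvec, D4Min.x_zero]

theorem up_nb (a B W S E : K) :
    nb K * up f a B W S E * (nb K)⁻¹ =
      up f B (-a) (W + f (f B) * f a + f B * f (f a)) (E - Tr f (f B * f (f B) * a))
        (-S + Tr f (f (f B) * a * f a)) := by
  have h := cA_tvec hf (-B) (k := 0) (map_zero f) (-a) 0 0 0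
  rw [← tA_inv, inv_inv] at h
  have e : nb K * up f a B W S E * (nb K)⁻¹ =
      tA f B * (((tA f B)⁻¹ * raw (tvec f 0 (-a) 0 0 0) * tA f B) * raw (tvec f 0 0 W E (-S))) := by
    rw [show nb K * up f a B W S E * (nb K)⁻¹ =
      (nb K * tA f a * (nb K)⁻¹) * (nb K * raw (tvec f 0 B W S E) * (nb K)⁻¹) by simp only [up]; group,
      tA_nb hf, nb_tvec hf, up]
    group
  rw [h, tvec_mul] at e
  rw [e]
  simp only [up]
  congr 2
  ext <;> simp [tvec, Tr, Nm, hf.three] <;> ring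

/-- The basic move. -/
theorem move (a B W E : K) {S : K} (hS : f S = S) (t : K) (γ : Kˣ) (h : 1 + t * a = (γ : K))
    {l w : GL chevD4.Idx K} (hl : l ∈ LL K q) (hw : w ∈ UM K q) :
    ∃ w' ∈ UM K q, CT K q (up f a B W S E * l * w)
      (up f (a / γ) ((γ⁻¹ : K) ^ 2 / Nm f (γ⁻¹ : K) * loB f (t / γ) B W S)
        (Nm f (γ⁻¹ : K) / (γ⁻¹ : K) ^ 2 * (W + t / γ * S)) (Nm f (γ⁻¹ : K) * S)
        (loE f (t / γ) 0 B W S E - S * loK f (t / γ) 0 B W S) *
      (lv f (γ, nG f γ) * x 14 (loK f (t / γ) 0 B W S) * l) * w') := by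
  refine ⟨(l⁻¹ * tB f (t / γ) * l) * w * (tB f t)⁻¹, ?_, tB f t, tB_mem hf t, ?_⟩
  · refine mul_mem (mul_mem ?_ hw) (inv_mem (tB_UM hf t))
    simpa using UM_conj (inv_mem hl) (tB_UM hf (t / γ))
  · have e1 := rank_triple hf a t γ h
    have e2 := lo_tvec hf (t / γ) (k := 0) hS B W E
    rw [tvec_k (loK f (t / γ) 0 B W S)] at e2
    have e3 := torus_tvec hf γ⁻¹ (loB f (t / γ) B W S) (W + t / γ * S) S
      (loE f (t / γ) 0 B W S E - S * loK f (t / γ) 0 B W S)
    rw [Units.val_inv_eq_inv_val] at e3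
    have e4 := tc_eq f γ⁻¹
    rw [inv_inv] at e4
    calc tB f t * (up f a B W S E * l * w) * (tB f t)⁻¹
        = (tB f t * tA f a) * (tB f (t / γ))⁻¹ *
          (tB f (t / γ) * raw (tvec f 0 B W S E) * (tB f (t / γ))⁻¹) * tB f (t / γ) * l * w * (tB f t)⁻¹ := by
          simp only [up]; group
      _ = _ := by
          rw [e1, e2, up, ← e3, ← e4]; group

end H35.D4Cover
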