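import Cfsg.Agent.H35.D4Cover.Elem
import Mathlib.FieldTheory.Finite.Basic
import Mathlib.RingTheory.AdjoinRoot

/-!
³D₄(q): the element is semisimple and centralises no element of the two radicals; choice of the
parameters.
-/

set_option autoImplicit false
set_option linter.unusedSectionVars false

open Cfsg.Lie
open scoped MatrixGroups

namespace H35.D4Cover

open D4Min (Frob tc nb na Nm Tr raw Fx)

variable {K : Type*} [Field K] [Fintype K] {q : ℕ} {f : K ≃+* K} (hf : Frob q f) (hq : IsPrimePow q)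
  (hK : Fintype.card K = q ^ 3)

local notation "x" => H52.rt chevD4

omit [Fintype K] in
theorem mvH_w0 {r : ℕ} (hr : r < 24) : MvH (w0 K) r (23 - r) := by
  have h1 := (w0_table r hr).1
  have h2 := (w0_table _ h1).1
  have := ((mv_mE (K := K) hr).2.comp (mv_mE h1).2).comp (mv_mE h2).2
  rwa [(w0_table r hr).2.1] at this

omit [Fintype K] in
theorem w0_torus (c : Fin chevD4.rank → Kˣ) :
    w0 K * H52.torus chevD4 c * (w0 K)⁻¹ = H52.torus chevD4 c⁻¹ := by
  have hh : ∀ i : Fin chevD4.rank, w0 K * H52.hElt chevD4 (chevD4.simple i.val) (c i : K) * (w0 K)⁻¹ =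
      H52.hElt chevD4 (chevD4.simple i.val) (((c i)⁻¹ : Kˣ) : K) := by
    intro i
    have tab : ∀ i : Fin chevD4.rank, chevD4.simple i.val < 24 ∧ ∀ k : Fin chevD4.rank,
        H52.crt chevD4 (23 - chevD4.simple i.val) k.val = -H52.crt chevD4 (chevD4.simple i.val) k.val := by
      decide +kernel
    obtain ⟨h1, h2⟩ := tab i
    rw [mvH_w0 h1, H52.checkedD4.hElt_eq_torus (show 23 - chevD4.simple i.val < chevD4.nroots by
      show _ < 24; omega), H52.checkedD4.hElt_eq_torus h1]
    congr 1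
    funext k
    rw [h2 k, inv_zpow, zpow_neg]
  rw [H52.checkedD4.torus_eq_prod, H52.checkedD4.torus_eq_prod c⁻¹, D4Min.conj_list, List.map_map]
  congr 1
  exact List.map_congr_left fun i _ => hh i

include hf

set_option maxHeartbeats 800000 in
/-- The effect of a torus element on the radical. -/
theorem torus_up (γ d : Kˣ) (hd : f (d : K) = d) (a B W S E : K) :
    H52.torus chevD4 (tc f γ d) * up f a B W S E * (H52.torus chevD4 (tc f γ d))⁻¹ =
      up f ((γ : K) ^ 2 / d * a) ((γ : K) ^ 2 * d / Nm f γ * B) (Nm f γ / (γ : K) ^ 2 * W)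
        (Nm f γ / d * S) ((d : K) * E) := by
  set T := H52.torus chevD4 (tc f γ d)
  rw [show T * up f a B W S E * T⁻¹ = (T * x 18 a * T⁻¹) * (T * x 13 (f a) * T⁻¹) * (T * x 12 (f (f a)) * T⁻¹) *
      (T * raw (tvec f 0 B W S E) * T⁻¹) by simp only [up, tA]; group,
    D4Min.torus_x _ (by norm_num), D4Min.torus_x _ (by norm_num), D4Min.torus_x _ (by norm_num),
    D4Min.torus_raw]
  have w : ∀ {r : ℕ} {a b a2 a3 : ℤ}, chevD4.cartan 0 r = a → chevD4.cartan 1 r = b → chevD4.cartan 2 r = a2 →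
      chevD4.cartan 3 r = a3 →
      D4Min.wt (tc f γ d) r = (γ : K) ^ a * (d : K) ^ b * f γ ^ a2 * f (f γ) ^ a3 :=
    fun h0 h1 h2 h3 => D4Min.wt_eq γ d h0 h1 h2 h3
  rw [w (r := 18) (a := 2) (b := -1) (a2 := 0) (a3 := 0) (by decide +kernel) (by decide +kernel) (by decide +kernel) (by decide +kernel),
    w (r := 13) (a := 0) (b := -1) (a2 := 2) (a3 := 0) (by decide +kernel) (by decide +kernel) (by decide +kernel) (by decide +kernel),
    w (r := 12) (a := 0) (b := -1) (a2 := 0) (a3 := 2) (by decide +kernel) (by decide +kernel) (by decide +kernel) (by decide +kernel),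
    w (r := 14) (a := -1) (b := 2) (a2 := -1) (a3 := -1) (by decide +kernel) (by decide +kernel) (by decide +kernel) (by decide +kernel),
    w (r := 19) (a := 1) (b := 1) (a2 := -1) (a3 := -1) (by decide +kernel) (by decide +kernel) (by decide +kernel) (by decide +kernel),
    w (r := 16) (a := -1) (b := 1) (a2 := 1) (a3 := -1) (by decide +kernel) (by decide +kernel) (by decide +kernel) (by decide +kernel),
    w (r := 15) (a := -1) (b := 1) (a2 := -1) (a3 := 1) (by decide +kernel) (by decide +kernel) (by decide +kernel) (by decide +kernel),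
    w (r := 17) (a := -1) (b := 0) (a2 := 1) (a3 := 1) (by decide +kernel) (by decide +kernel) (by decide +kernel) (by decide +kernel),
    w (r := 20) (a := 1) (b := 0) (a2 := -1) (a3 := 1) (by decide +kernel) (by decide +kernel) (by decide +kernel) (by decide +kernel),
    w (r := 21) (a := 1) (b := 0) (a2 := 1) (a3 := -1) (by decide +kernel) (by decide +kernel) (by decide +kernel) (by decide +kernel),
    w (r := 22) (a := 1) (b := -1) (a2 := 1) (a3 := 1) (by decide +kernel) (by decide +kernel) (by decide +kernel) (by decide +kernel),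
    w (r := 23) (a := 0) (b := 1) (a2 := 0) (a3 := 0) (by decide +kernel) (by decide +kernel) (by decide +kernel) (by decide +kernel)]
  have hc : (γ : K) ≠ 0 := γ.ne_zero
  have hc1 : f (γ : K) ≠ 0 := (map_ne_zero f).2 hc
  have hc2 : f (f (γ : K)) ≠ 0 := (map_ne_zero f).2 hc1
  have hdne : (d : K) ≠ 0 := d.ne_zero
  refine congrArg₂ (· * ·) ?_ (congrArg raw ?_)
  · show _ = tA f _
    simp only [tA, map_mul, map_pow, hd, zpow_neg, zpow_ofNat, pow_zero, pow_one, zpow_zero, zpow_one, mul_one,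
      one_mul, div_eq_mul_inv, map_inv₀]
    ring_nf
  · ext <;> simp [tvec, Nm, hf.three, hd, zpow_neg] <;>
      first | ring1 | (field_simp; first | done | ring1 | exact Or.inl trivial)

theorem torus_fix (γ d : Kˣ) (hd : f (d : K) = d) (h18 : (γ : K) ^ 2 ≠ d)
    (h19 : (γ : K) ^ 2 * d ≠ Nm f γ) (h17 : Nm f γ ≠ (γ : K) ^ 2) (h22 : Nm f γ ≠ d) (h23 : (d : K) ≠ 1)
    {a B W S E : K}
    (h : up f a B W S E * H52.torus chevD4 (tc f γ d) = H52.torus chevD4 (tc f γ d) * up f a B W S E) :
    up f a B W S E = 1 := by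
  have h' := torus_up hf γ d hd a B W S E
  rw [← h, mul_inv_cancel_right] at h'
  obtain ⟨ha, hB, hW, hS, hE⟩ := up_inj hf h'
  have hc : (γ : K) ≠ 0 := γ.ne_zero
  have hdne : (d : K) ≠ 0 := d.ne_zero
  have hN : Nm f (γ : K) ≠ 0 :=
    mul_ne_zero (mul_ne_zero hc ((map_ne_zero f).2 hc)) ((map_ne_zero f).2 ((map_ne_zero f).2 hc))
  have z : ∀ {w v : K}, w ≠ 1 → v = w * v → v = 0 := fun hw e => by
    by_contra hv
    exact hw (mul_right_cancel₀ hv (by rw [one_mul]; exact e.symm))
  rw [z (by rw [ne_eq, div_eq_one_iff_eq hdne]; exact h18) ha,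
    z (by rw [ne_eq, div_eq_one_iff_eq hN]; exact h19) hB,
    z (by rw [ne_eq, div_eq_one_iff_eq (pow_ne_zero 2 hc)]; exact h17) hW,
    z (by rw [ne_eq, div_eq_one_iff_eq hdne]; exact h22) hS, z h23 hE]
  simp [up, tA_zero, raw, tvec, D4Min.x_zero]

theorem lv_scalar {e : Kˣ} (he : f (e : K) = e) : lv f (e, D4Torus.sGL e) = 1 := by
  have h : Units.map f.toMonoidHom e = e := Units.ext he
  rw [lv_apply, D4Torus.gl2_sGL, ← map_mul,
    show tc f e 1 * D4Torus.outC e⁻¹ e⁻¹ e⁻¹ = 1 from ?_, map_one]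
  · group
  · funext i
    have h2 : Units.map f.toMonoidHom (Units.map f.toMonoidHom e) = e := by rw [h, h]
    fin_cases i <;> simp [tc, D4Torus.outC] <;> (apply Units.ext; simp [he])

/-- Central elements of the Levi subgroup as torus elements. -/
theorem lv_central (e : Kˣ) :
    lv f (e, 1) = H52.torus chevD4 (tc f
      (e * Units.map f.toMonoidHom e * Units.map f.toMonoidHom (Units.map f.toMonoidHom e) * e⁻¹)
      (e * Units.map f.toMonoidHom e * Units.map f.toMonoidHom (Units.map f.toMonoidHom e))) := by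
  set d := e * Units.map f.toMonoidHom e * Units.map f.toMonoidHom (Units.map f.toMonoidHom e) with hdd
  set γ := d * e⁻¹ with hγ
  have hd : Units.map f.toMonoidHom d = d := Units.ext (by simp [hdd, hf.three]; ring)
  have hsplit : H52.torus chevD4 (tc f γ d) = H52.torus chevD4 (tc f γ 1) * H52.hElt chevD4 14 (d : K) := by
    rw [H52.checkedD4.hElt_eq_torus (by decide), ← map_mul]
    congr 1
    funext i
    fin_cases i <;> simp [tc, show H52.crt chevD4 14 0 = 0 by decide +kernel,
      show H52.crt chevD4 14 1 = 1 by decide +kernel, show H52.crt chevD4 14 2 = 0 by decide +kernel,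
      show H52.crt chevD4 14 3 = 0 by decide +kernel]
  have h14 : H52.hElt chevD4 14 (d : K) = lv f (d, D4Torus.dGL (d * d)) := by
    have h := (mv_mE (K := K) (r := 14) (by norm_num)).2 d
    rw [show ib (ia 14) = 23 by decide +kernel, H52.checkedD4.hElt_eq_torus (r := 23) (by decide)] at h
    rw [lv_apply, D4Torus.gl2_dGL]
    show _ = (mE K)⁻¹ * (H52.torus chevD4 _ * H52.torus chevD4 (D4Torus.nuC (d * d))) * mE K
    rw [← map_mul, show tc f d 1 * D4Torus.nuC (d * d) = (fun i : Fin chevD4.rank => d ^ H52.crt chevD4 23 i.val) from ?_,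
      ← h]
    · group
    · funext i
      have hd' : f (d : K) = d := congrArg Units.val hd
      fin_cases i <;> simp [tc, D4Torus.nuC, sq, show H52.crt chevD4 23 0 = 1 by decide +kernel,
        show H52.crt chevD4 23 1 = 2 by decide +kernel, show H52.crt chevD4 23 2 = 1 by decide +kernel,
        show H52.crt chevD4 23 3 = 1 by decide +kernel] <;>
        (apply Units.ext; simp [hd'])
  rw [hsplit, tc_eq, h14, ← map_mul]
  congr 1
  refine Prod.ext ?_ ?_
  · show e = γ⁻¹ * d
    rw [hγ, mul_inv_rev, inv_inv, inv_mul_cancel_right]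
  · show (1 : GL (Fin 2) K) = nG f γ⁻¹ * D4Torus.dGL (d * d)
    apply Units.ext
    have hNe : f (e : K) ≠ 0 := (map_ne_zero f).2 e.ne_zero
    have hN2 : f (f (e : K)) ≠ 0 := (map_ne_zero f).2 hNe
    have he : (e : K) ≠ 0 := e.ne_zero
    rw [Units.val_one, Units.val_mul]
    ext i j
    fin_cases i <;> fin_cases j <;>
      simp [nG, D4Torus.dGL, hγ, hdd, hf.three, Matrix.mul_apply, Fin.sum_univ_two] <;> field_simp

include hq hK

omit hq hK in
theorem fix_cases {e : K} (he : f e ≠ e) : e ^ 2 ≠ 1 ∧ ∀ {r : K}, f r = r → e ^ 2 ≠ r := by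
  have key : ∀ {r : K}, f r = r → e ^ 2 ≠ r := by
    intro r hr h
    have h1 : f e ^ 2 = e ^ 2 := by rw [← map_pow, h, hr]
    rcases sq_eq_sq_iff_eq_or_eq_neg.1 h1 with h2 | h2
    · exact he h2
    · have h3 : f (f (f e)) = -e := by rw [h2, map_neg, map_neg, h2, map_neg, h2]; ring
      rw [hf.three] at h3
      exact he (h2.trans h3.symm)
  exact ⟨key (map_one f), key⟩

/-- Central elements fix no nontrivial element of the radical. -/
theorem central_fix {e : Kˣ} (he : f (e : K) ≠ e) (hN : Nm f (e : K) ≠ 1) {u : GL chevD4.Idx K}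
    (hu : u ∈ UP K q) (h : u * lv f (e, 1) = lv f (e, 1) * u ∨ u * (lv f (e, 1))⁻¹ = (lv f (e, 1))⁻¹ * u) :
    u = 1 := by
  obtain ⟨a, B, W, S, E, -, -, rfl⟩ := mem_UP hf hq hK hu
  have h1 : up f a B W S E * lv f (e, 1) = lv f (e, 1) * up f a B W S E := by
    rcases h with h | h
    · exact h
    · calc up f a B W S E * lv f (e, 1) = lv f (e, 1) * ((lv f (e, 1))⁻¹ * up f a B W S E) * lv f (e, 1) := by group
        _ = lv f (e, 1) * (up f a B W S E * (lv f (e, 1))⁻¹) * lv f (e, 1) := by rw [h]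
        _ = _ := by group
  rw [lv_central hf] at h1
  obtain ⟨g1, g2⟩ := fix_cases hf he
  have he0 : (e : K) ≠ 0 := e.ne_zero
  have hNe : Nm f (e : K) ≠ 0 :=
    mul_ne_zero (mul_ne_zero he0 ((map_ne_zero f).2 he0)) ((map_ne_zero f).2 ((map_ne_zero f).2 he0))
  set d := e * Units.map f.toMonoidHom e * Units.map f.toMonoidHom (Units.map f.toMonoidHom e)
  have hd : (d : K) = Nm f (e : K) := rfl
  have hdf : f (Nm f (e : K)) = Nm f (e : K) := Nm_fix hf _
  have hγ : ((d * e⁻¹ : Kˣ) : K) = Nm f (e : K) / e := by rw [Units.val_mul, hd, Units.val_inv_eq_inv_val, div_eq_mul_inv]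
  have hNγ : Nm f (Nm f (e : K) / e) = Nm f (e : K) ^ 2 := by
    have : ∀ n : K, f n = n → Nm f (n / e) = n ^ 3 / Nm f (e : K) := fun n hn => by
      simp only [Nm, map_div₀, hn]; field_simp
    rw [this _ hdf]; field_simp
  refine torus_fix hf _ _ (by rw [hd, hdf]) ?_ ?_ ?_ ?_ ?_ h1
  · rw [hγ, hd, div_pow]
    intro h
    field_simp at h
    exact g2 hdf h.symm
  · rw [hγ, hd, hNγ, div_pow]
    intro h
    field_simp at h
    exact g2 hdf (by first | exact h.symm | linear_combination -h)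
  · rw [hγ, hNγ, div_pow]
    intro h
    field_simp at h
    exact g1 (by first | exact h | linear_combination h)
  · rw [hγ, hNγ, hd]
    intro h
    exact hN (mul_left_cancel₀ hNe (by linear_combination h))
  · rw [hd]; exact hN

/-- An element with a central power of the right kind centralises nothing in the radicals. -/
theorem reg_of_power {y : GL chevD4.Idx K} {n : ℕ} {e : Kˣ} (hy : y ^ n = lv f (e, 1))
    (he : f (e : K) ≠ e) (hN : Nm f (e : K) ≠ 1) : Par.Reg q y := by
  refine ⟨fun u hu h => central_fix hf hq hK he hN hu (Or.inl ?_), fun w hw h => ?_⟩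
  · rw [← hy]; exact ((show Commute u y from h).pow_right n).eq
  · have h1 := central_fix hf hq hK he hN (w0_conj_UM hf hq hK hw) (Or.inr ?_)
    · rwa [conj_eq_one_iff] at h1
    · have hc : Commute w (lv f (e, 1)) := hy ▸ (show Commute w y from h).pow_right n
      have hz : (lv f (e, 1))⁻¹ = w0 K * lv f (e, 1) * (w0 K)⁻¹ := by
        rw [lv_central hf, ← map_inv, w0_torus]
      rw [hz]
      calc w0 K * w * (w0 K)⁻¹ * (w0 K * lv f (e, 1) * (w0 K)⁻¹) = w0 K * (w * lv f (e, 1)) * (w0 K)⁻¹ := by group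
        _ = w0 K * (lv f (e, 1) * w) * (w0 K)⁻¹ := by rw [hc.eq]
        _ = _ := by group

namespace Par

variable (P : Par f)

theorem A_pow : P.A ^ (q + 1) = D4Torus.sGL (Matrix.GeneralLinearGroup.det P.A) := by
  classical
  let p : Polynomial (fixF f) := Polynomial.X ^ 2 + (Polynomial.C (-P.τ) * Polynomial.X + Polynomial.C P.D)
  have hp2 : p.natDegree = 2 := by
    apply Polynomial.natDegree_eq_of_degree_eq_some
    rw [Polynomial.degree_add_eq_left_of_degree_lt, Polynomial.degree_X_pow]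
    rw [Polynomial.degree_X_pow]
    exact lt_of_le_of_lt (Polynomial.degree_linear_le) (by norm_num)
  have hm : p.Monic := Polynomial.monic_X_pow_add
    (lt_of_le_of_lt (Polynomial.degree_linear_le) (by norm_num))
  have hev : ∀ r, p.eval r = r * r - P.τ * r + P.D := fun r => by
    simp only [p, Polynomial.eval_add, Polynomial.eval_pow, Polynomial.eval_X, Polynomial.eval_mul, Polynomial.eval_C]
    ring
  have hirr : Irreducible p := by
    rw [hm.irreducible_iff_roots_eq_zero_of_degree_le_three (by omega) (by omega)]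
    refine Multiset.eq_zero_of_forall_notMem fun r hr => ?_
    rw [Polynomial.mem_roots hm.ne_zero, Polynomial.IsRoot, hev] at hr
    exact P.irr r hr
  haveI := Fact.mk hirr
  haveI : Fintype (fixF f) := Fintype.ofFinite _
  have hcard : Fintype.card (fixF f) = q := by
    rw [← Nat.card_eq_fintype_card, ← D4Min.card_Fx hf hq hK]
    exact Nat.card_congr (Equiv.subtypeEquivRight fun t => Iff.rfl)
  have hpf : ∀ {L : Type _} [CommRing L] (g : fixF f →+* L) (z : L),
      p.eval₂ g z = z * z - g P.τ * z + g P.D := fun g z => by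
    simp only [p, map_neg, Polynomial.eval₂_add, Polynomial.eval₂_pow, Polynomial.eval₂_X, Polynomial.eval₂_mul,
      Polynomial.eval₂_C, Polynomial.eval₂_neg]
    ring
  let α := AdjoinRoot.root p
  have hroot : α * α - AdjoinRoot.of p P.τ * α + AdjoinRoot.of p P.D = 0 := by
    rw [← hpf]; exact AdjoinRoot.eval₂_root p
  set β := α ^ q
  have hβ : β * β - AdjoinRoot.of p P.τ * β + AdjoinRoot.of p P.D = 0 := by
    have h := FiniteField.expand_card p
    have h2 := congrArg (Polynomial.aeval α) h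
    rw [Polynomial.expand_aeval, map_pow, hcard, AdjoinRoot.aeval_eq, AdjoinRoot.mk_self,
      zero_pow hq.pos.ne'] at h2
    rw [← hpf]
    exact h2
  have hne : β ≠ α := by
    intro e
    let S : Finset (AdjoinRoot p) := insert α (Finset.univ.image (AdjoinRoot.of p))
    have hα : α ∉ Finset.univ.image (AdjoinRoot.of p) := by
      rw [Finset.mem_image]
      rintro ⟨r, -, hr⟩
      have h1 : AdjoinRoot.of p (r * r - P.τ * r + P.D) = 0 := by
        rw [map_add, map_sub, map_mul, map_mul, hr]; exact hroot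
      rw [map_eq_zero] at h1
      exact P.irr r h1
    have hS : ∀ z ∈ S, z ^ q = z := by
      intro z hz
      rw [Finset.mem_insert, Finset.mem_image] at hz
      rcases hz with rfl | ⟨r, -, rfl⟩
      · exact e
      · rw [← map_pow, ← hcard, FiniteField.pow_card]
    have hq1 := hq.one_lt
    have hle := Polynomial.card_le_degree_of_subset_roots (p := Polynomial.X ^ q - Polynomial.X) (Z := S)
      (fun z hz => by
        rw [Polynomial.mem_roots (FiniteField.X_pow_card_sub_X_ne_zero _ hq1)]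
        simp [hS z hz])
    rw [FiniteField.X_pow_card_sub_X_natDegree_eq _ hq1, Finset.card_insert_of_notMem hα,
      Finset.card_image_of_injective _ (AdjoinRoot.of p).injective, Finset.card_univ, hcard] at hle
    omega
  have hsum : β = AdjoinRoot.of p P.τ - α := by
    have : (β - α) * (β - (AdjoinRoot.of p P.τ - α)) = 0 := by linear_combination hβ - hroot
    exact sub_eq_zero.1 ((mul_eq_zero.1 this).resolve_left (sub_ne_zero.2 hne))
  have hpow : AdjoinRoot.mk p (Polynomial.X ^ (q + 1) - Polynomial.C P.D) = 0 := by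
    rw [map_sub, map_pow, AdjoinRoot.mk_X, AdjoinRoot.mk_C]
    show α ^ (q + 1) - AdjoinRoot.of p P.D = 0
    rw [pow_succ, show α ^ q = β from rfl, hsum]
    linear_combination -hroot
  obtain ⟨g, hg⟩ := AdjoinRoot.mk_eq_zero.1 hpow
  let M : Matrix (Fin 2) (Fin 2) (fixF f) := P.A0.1
  have hMp : Polynomial.aeval M p = 0 := by
    simp only [p, map_add, map_pow, map_mul, Polynomial.aeval_X, Polynomial.aeval_C, map_neg]
    show M ^ 2 + _ = 0
    rw [show M = !![0, -P.D; 1, P.τ] from rfl, sq, Matrix.algebraMap_eq_diagonal, Matrix.algebraMap_eq_diagonal]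
    ext i j
    fin_cases i <;> fin_cases j <;> simp [Matrix.mul_apply, Fin.sum_univ_two] <;> ring
  have h3 := congrArg (Polynomial.aeval M) hg
  rw [map_mul, hMp, zero_mul, map_sub, map_pow, Polynomial.aeval_X, Polynomial.aeval_C, sub_eq_zero] at h3
  show P.A ^ (q + 1) = _
  rw [A, ← map_pow]
  apply Units.ext
  show (((P.A0 ^ (q + 1)) : GL (Fin 2) (fixF f)).1.map (fixF f).subtype) = _
  rw [Units.val_pow_eq_pow_val, h3]
  have hd : ((Matrix.GeneralLinearGroup.det (emb2 f P.A0) : Kˣ) : K) = P.D := P.A_det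
  simp only [D4Torus.sGL, hd]
  ext i j
  fin_cases i <;> fin_cases j <;> simp [Matrix.algebraMap_eq_diagonal]

theorem det_fix : f ((Matrix.GeneralLinearGroup.det P.A : Kˣ) : K) = (Matrix.GeneralLinearGroup.det P.A : Kˣ) := by
  show f P.A.1.det = P.A.1.det
  rw [P.A_det]; exact P.D.2

theorem el_pow : P.el ^ (q + 1) =
    lv f (P.c ^ (q + 1) * (Matrix.GeneralLinearGroup.det P.A)⁻¹, 1) := by
  set d := Matrix.GeneralLinearGroup.det P.A
  have h1 := lv_scalar hf (det_fix hf hq hK P)
  calc P.el ^ (q + 1) = lv f (P.c ^ (q + 1), D4Torus.sGL d) := by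
        rw [el, ← map_pow, Prod.pow_mk, A_pow hf hq hK P]
    _ = lv f (P.c ^ (q + 1) * d⁻¹, 1) * lv f (d, D4Torus.sGL d) := by
        rw [← map_mul]
        congr 1
        exact Prod.ext (inv_mul_cancel_right _ _).symm (one_mul _).symm
    _ = _ := by rw [h1, mul_one]

theorem el_order {p : ℕ} [Fact p.Prime] [CharP K p] : ¬ p ∣ orderOf P.el := by
  intro hdvd
  have hq3 : q ^ 3 - 1 = Fintype.card K - 1 := by rw [hK]
  have h1 : P.el ^ ((q + 1) * (q ^ 3 - 1)) = 1 := by
    classical
    rw [pow_mul, el_pow hf hq hK P, ← map_pow, Prod.pow_mk, one_pow, hq3, ← Fintype.card_units,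
      pow_card_eq_one]
    exact map_one (lv f)
  have h2 := dvd_trans hdvd (orderOf_dvd_of_pow_eq_one h1)
  have hpq : p ∣ q := by
    obtain ⟨n, hp, hn⟩ := FiniteField.card K p
    have : p ∣ q ^ 3 := by rw [← hK, hn]; exact dvd_pow_self _ n.ne_zero
    exact hp.dvd_of_dvd_pow this
  have hp := Fact.out (p := p.Prime)
  rcases hp.dvd_mul.1 h2 with h | h
  · exact hp.one_lt.ne' (Nat.dvd_one.1 ((Nat.dvd_add_right hpq).1 h))
  · have h3 : p ∣ q ^ 3 := dvd_trans hpq (dvd_pow_self q (by norm_num))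
    have h4 : p ∣ q ^ 3 - (q ^ 3 - 1) := Nat.dvd_sub h3 h
    rw [Nat.sub_sub_self (Nat.one_le_pow _ _ hq.pos)] at h4
    exact hp.one_lt.ne' (Nat.dvd_one.1 h4)

omit hq hK in
theorem c_pow (hc : f (P.c : K) ≠ P.c) :
    f ((P.c ^ (q + 1) * (Matrix.GeneralLinearGroup.det P.A)⁻¹ : Kˣ) : K) ≠
      ((P.c ^ (q + 1) * (Matrix.GeneralLinearGroup.det P.A)⁻¹ : Kˣ) : K) := by
  intro h
  have hD : f P.A.1.det = P.A.1.det := by rw [P.A_det]; exact P.D.2
  rw [Units.val_mul, Units.val_pow_eq_pow_val, Units.val_inv_eq_inv_val, map_mul, map_inv₀] at h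
  change f ((P.c : K) ^ (q + 1)) * (f P.A.1.det)⁻¹ = (P.c : K) ^ (q + 1) * (P.A.1.det)⁻¹ at h
  rw [hD] at h
  have hd0 : (P.A.1.det)⁻¹ ≠ 0 := inv_ne_zero ((Matrix.isUnit_iff_isUnit_det P.A.1).1 P.A.isUnit).ne_zero
  have h1 := mul_right_cancel₀ hd0 h
  have e : (P.c : K) ^ (q + 1) = f (P.c : K) * P.c := by rw [pow_succ, ← hf.eq]
  rw [e, map_mul] at h1
  have h2 : f (f (P.c : K)) = P.c :=
    mul_right_cancel₀ ((map_ne_zero f).2 P.c.ne_zero) (h1.trans (mul_comm _ _))
  have h3 := congrArg f h2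
  rw [hf.three] at h3
  exact hc h3.symm

omit hq hK in
theorem Nm_pow : Nm f ((P.c ^ (q + 1) * (Matrix.GeneralLinearGroup.det P.A)⁻¹ : Kˣ) : K) =
    Nm f (P.c : K) ^ 2 / (P.D : K) ^ 3 := by
  have hd : ((Matrix.GeneralLinearGroup.det P.A : Kˣ) : K) = P.D := P.A_det
  have hDf : f (P.D : K) = P.D := P.D.2
  have e : (P.c : K) ^ (q + 1) = f (P.c : K) * P.c := by rw [pow_succ, ← hf.eq]
  rw [Units.val_mul, Units.val_pow_eq_pow_val, Units.val_inv_eq_inv_val, hd, e]
  simp only [Nm, map_mul, map_inv₀, hDf, hf.three]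
  have hD0 : (P.D : K) ≠ 0 := fun h => P.Dne (Subtype.ext h)
  field_simp

theorem reg_of (hc : f (P.c : K) ≠ P.c) (hN : Nm f (P.c : K) ^ 2 ≠ (P.D : K) ^ 3) : Reg q P.el := by
  refine reg_of_power hf hq hK (el_pow hf hq hK P) (c_pow hf P hc) ?_
  rw [Nm_pow hf P]
  have hD0 : (P.D : K) ≠ 0 := fun h => P.Dne (Subtype.ext h)
  rw [ne_eq, div_eq_one_iff_eq (pow_ne_zero 3 hD0)]
  exact hN

end Par

omit hq hK in
theorem exists_c {ν : K} (hν : f ν = ν) (hν0 : ν ≠ 0) (hne : ∃ s : K, f s ≠ s)
    (hex : ∃ t : K, Nm f t = ν) : ∃ c : Kˣ, f (c : K) ≠ c ∧ Nm f (c : K) = ν := by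
  obtain ⟨t, ht⟩ := hex
  have ht0 : t ≠ 0 := fun e => hν0 (by rw [← ht, e]; simp [Nm])
  by_cases hft : f t = t
  · obtain ⟨s, hs⟩ := hne
    have hN : ∀ s : K, s ≠ 0 → Nm f (t * (f s / s)) = ν := by
      intro s h0
      have h1 : f s ≠ 0 := (map_ne_zero f).2 h0
      have h2 : f (f s) ≠ 0 := (map_ne_zero f).2 h1
      rw [← ht]
      simp only [Nm, map_mul, map_div₀, hf.three]
      field_simp
    have hs0 : s ≠ 0 := fun e => hs (by rw [e, map_zero])
    have hs1 : s + 1 ≠ 0 := fun e => hs (by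
      rw [eq_neg_of_add_eq_zero_left e, map_neg, map_one])
    by_cases h1 : f (t * (f s / s)) = t * (f s / s)
    · refine ⟨Units.mk0 (t * (f (s + 1) / (s + 1)))
        (mul_ne_zero ht0 (div_ne_zero ((map_ne_zero f).2 hs1) hs1)), ?_, hN _ hs1⟩
      intro h2
      simp only [Units.val_mk0, map_mul, hft] at h1 h2
      have r1 := mul_left_cancel₀ ht0 h1
      have r2 := mul_left_cancel₀ ht0 h2
      set r := f s / s with hr
      set r' := f (s + 1) / (s + 1) with hr'
      have e1 : f s = r * s := by rw [hr]; field_simp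
      have e2 : f s + 1 = r' * (s + 1) := by
        rw [hr']; field_simp; rw [map_add, map_one]
      by_cases hrr : r = r'
      · rw [← hrr, e1] at e2
        have : r = 1 := by linear_combination -e2
        exact hs (by rw [e1, this, one_mul])
      · have e3 : s = (r' - 1) / (r - r') := by
          rw [eq_div_iff (sub_ne_zero.2 hrr)]; linear_combination e2 - e1
        exact hs (by rw [e3, map_div₀, map_sub, map_sub, map_one, r1, r2])
    · exact ⟨Units.mk0 (t * (f s / s)) (mul_ne_zero ht0 (div_ne_zero ((map_ne_zero f).2 hs0) hs0)), h1, hN _ hs0⟩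
  · exact ⟨Units.mk0 t ht0, hft, ht⟩

end H35.D4Cover
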