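import Cfsg.Agent.H35.D4Cover.Move
import Cfsg.Agent.H52.TwistSimple

/-!
³D₄(q): a nontrivial element has a conjugate in the big cell with nonzero leading coordinate.
-/

set_option autoImplicit false
set_option linter.unusedSectionVars false

open Cfsg.Lie
open scoped MatrixGroups

namespace H35.D4Cover

open D4Min (Frob tc nb na Nm Tr raw Fx)

variable {K : Type*} [Field K] [Fintype K] {q : ℕ} {f : K ≃+* K} (hf : Frob q f) (hq : IsPrimePow q)
  (hK : Fintype.card K = q ^ 3)

local notation "x" => H52.rt chevD4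

include hf hq hK

theorem lPar_form (p : LPar f) : ∃ c A, A ∈ FX f ∧ lPar (f := f) p = lv f (c, A) :=
  ⟨_, _, mul_mem (nG_FX hf p.1) (mem_FX.2 (lMat_fix hf p.2)), rfl⟩

theorem mem_LL {l : GL chevD4.Idx K} (hl : l ∈ LL K q) : ∃ c A, A ∈ FX f ∧ l = lv f (c, A) := by
  obtain ⟨⟨p, l1, p2⟩, ⟨p', l1', p2'⟩, h⟩ := cell_meet hf hq hK ⟨l, LL_tw hl⟩ 1 1 1
  have h' := congrArg Subtype.val h
  simp only [Subgroup.coe_mul, Subgroup.coe_one, one_mul, mul_one, cellMap] at h'
  obtain ⟨-, h2, -⟩ := cell_inj (UP_conj hl (upF_UP hf hq hK p)) (upF_UP hf hq hK p')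
    (mul_mem hl (lPar_LL hf l1)) (lPar_LL hf l1') (w0_up_UM hf hq hK p2) (w0_up_UM hf hq hK p2')
    (by rw [← h']; group)
  obtain ⟨c, A, hA, e⟩ := lPar_form hf hq hK l1
  obtain ⟨c', A', hA', e'⟩ := lPar_form hf hq hK l1'
  refine ⟨c' * c⁻¹, A' * A⁻¹, mul_mem hA' (inv_mem hA), ?_⟩
  rw [eq_mul_inv_of_mul_eq h2, e, e', ← map_inv, ← map_mul]
  rfl

theorem w0_conj_LL {l : GL chevD4.Idx K} (hl : l ∈ LL K q) : w0 K * l * (w0 K)⁻¹ ∈ LL K q := by
  refine Subgroup.mem_inf.2 ⟨mul_mem (mul_mem (w0_mem hf) (LL_tw hl)) (inv_mem (w0_mem hf)), ?_⟩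
  obtain ⟨c, A, -, rfl⟩ := mem_LL hf hq hK hl
  have hn : w0 K ∈ chevD4.monomialSubgroup K := by
    have hm : mE K ∈ chevD4.monomialSubgroup K :=
      mul_mem (H52.checkedD4.nElt_mem (by decide)) (mul_mem (mul_mem (H52.checkedD4.nElt_mem (by decide))
        (H52.checkedD4.nElt_mem (by decide))) (H52.checkedD4.nElt_mem (by decide)))
    exact mul_mem hm (mul_mem hm hm)
  have ht : ∀ c : Fin chevD4.rank → Kˣ, w0 K * H52.torus chevD4 c * (w0 K)⁻¹ ∈ H52.levelGroup lev K := by
    intro c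
    have h := (Subgroup.mem_normalizer_iff.1 (H52.checkedD4.monomial_le_normalizer hn) _).1
      (H52.checkedD4.torus_mem_diag c)
    rw [H52.checkedD4.diagonalSubgroup_eq] at h
    obtain ⟨c', hc'⟩ := h
    rw [← hc']
    exact torus_mem_level c'
  have hcomm : w0 K * (mE K)⁻¹ = (mE K)⁻¹ * w0 K := by rw [w0]; group
  have hr : ∀ r ∈ [14, 9], ∀ t : K, w0 K * x r t * (w0 K)⁻¹ ∈ H52.levelGroup lev K := by
    intro r hr t
    have hd : r < 24 ∧ deg (23 - r) = 0 := by
      revert r; decide +kernel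
    obtain ⟨e, -, he⟩ := mv_w0 (K := K) hd.1
    rw [he]
    exact x_mem_level (by omega) hd.2 _
  have hj : ∀ S : Matrix.SpecialLinearGroup (Fin 2) K,
      w0 K * ((mE K)⁻¹ * D4Torus.j K S * mE K) * (w0 K)⁻¹ ∈ H52.levelGroup lev K := by
    intro S
    have hu : ∀ t, w0 K * ((mE K)⁻¹ * D4Torus.j K (D4Torus.uS t) * mE K) * (w0 K)⁻¹ ∈ H52.levelGroup lev K :=
      fun t => by
      rw [D4Torus.j_u, show x 23 t = x 23 (-(-t)) by rw [neg_neg], ← mE_x14]
      convert hr 14 (by simp) (-t) using 1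
      group
    have hlS : ∀ t, w0 K * ((mE K)⁻¹ * D4Torus.j K (D4Torus.lS t) * mE K) * (w0 K)⁻¹ ∈ H52.levelGroup lev K :=
      fun t => by
      rw [D4Torus.j_l, show x 0 t = x 0 (-(-t)) by rw [neg_neg], ← mE_x9]
      convert hr 9 (by simp) (-t) using 1
      group
    obtain ⟨a, b, d, h | h⟩ := D4Torus.sl2_decomp' S
    · rw [h, map_mul, map_mul]
      convert mul_mem (mul_mem (hu a) (hlS b)) (hu d) using 1
      group
    · rw [eq_mul_inv_of_mul_eq h, map_mul, map_inv, map_mul, map_mul]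
      convert mul_mem (mul_mem (mul_mem (hu a) (hlS b)) (hu d)) (inv_mem (hlS 1)) using 1
      group
  have hmt : ∀ c : Fin chevD4.rank → Kˣ,
      w0 K * ((mE K)⁻¹ * H52.torus chevD4 c * mE K) * (w0 K)⁻¹ ∈ H52.levelGroup lev K := by
    intro c
    have hm : mE K ∈ chevD4.monomialSubgroup K :=
      mul_mem (H52.checkedD4.nElt_mem (by decide)) (mul_mem (mul_mem (H52.checkedD4.nElt_mem (by decide))
        (H52.checkedD4.nElt_mem (by decide))) (H52.checkedD4.nElt_mem (by decide)))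
    have h := (Subgroup.mem_normalizer_iff.1 (H52.checkedD4.monomial_le_normalizer (inv_mem hm)) _).1
      (H52.checkedD4.torus_mem_diag c)
    rw [inv_inv, H52.checkedD4.diagonalSubgroup_eq] at h
    obtain ⟨c', hc'⟩ := h
    rw [← hc']
    exact ht c'
  rw [lv_apply, D4Torus.gl2_apply]
  convert mul_mem (mul_mem (hmt (tc f c 1)) (hj (D4Torus.slPart A)))
    (hmt (D4Torus.nuC (Matrix.GeneralLinearGroup.det A))) using 1
  show _ = _ * (w0 K * ((mE K)⁻¹ * D4Torus.nu K _ * mE K) * (w0 K)⁻¹)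
  group

theorem w0_conj_UM {w : GL chevD4.Idx K} (hw : w ∈ UM K q) : w0 K * w * (w0 K)⁻¹ ∈ UP K q := by
  have h := mem_UM hf hq hK hw
  set u := (w0 K)⁻¹ * w * w0 K with hu
  obtain ⟨a, B, W, S, E, -, -, he⟩ := mem_UP hf hq hK h
  rw [show w0 K * w * (w0 K)⁻¹ = (w0 K * w0 K) * u * (w0 K * w0 K)⁻¹ by rw [hu]; group]
  refine Subgroup.mem_inf.2 ⟨mul_mem (mul_mem (mul_mem (w0_mem hf) (w0_mem hf)) (UP_tw h))
    (inv_mem (mul_mem (w0_mem hf) (w0_mem hf))), ?_⟩
  have hr : ∀ r ∈ [18, 13, 12, 19, 16, 15, 17, 20, 21, 22, 23],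
      r < 24 ∧ 23 - (23 - r) = r ∧ ((1 : ℕ) : ℤ) ≤ deg r := by decide +kernel
  rw [he]
  refine up_mem_of (f := f) (H := (H52.uniGroup lev K 1).comap (MulAut.conj (w0 K * w0 K)).toMonoidHom)
    a B W S E fun r h t => ?_
  obtain ⟨e, -, he⟩ := (mv_w0 (K := K) (hr r h).1).comp (mv_w0 (r := 23 - r) (by omega))
  show w0 K * w0 K * x r t * (w0 K * w0 K)⁻¹ ∈ H52.uniGroup lev K 1
  rw [he, (hr r h).2.1]
  exact x_mem_uni (hr r h).1 (hr r h).2.2 _

theorem centre_trivial {g : GL chevD4.Idx K} (hg : g ∈ twistedD4 K q)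
    (hP : ∀ z ∈ UP K q, z * g = g * z) (hM : ∀ z ∈ UM K q, z * g = g * z) : g = 1 := by
  set C := Subgroup.centralizer ({g} : Set (GL chevD4.Idx K))
  have hC : ∀ {z}, z * g = g * z → z ∈ C := fun h => Subgroup.mem_centralizer_singleton_iff.2 h
  have hA : ∀ t, tA f t ∈ C := fun t => hC <| hP _ <| by
    have h := up_UU hf t 0 0 (map_zero f) (map_zero f)
    have e : up f t 0 0 0 0 = tA f t := by simp [up, raw, tvec, D4Min.x_zero]
    rw [e] at h
    exact Subgroup.mem_inf.2 ⟨UU_twisted hf h, UU_uni hf h⟩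
  have hB : ∀ t, tB f t ∈ C := fun t => hC (hM _ (tB_UM hf t))
  have hna : na K ∈ C := by
    have c : ∀ {a b : ℕ}, a ∈ [18, 13, 12, 5, 10, 11] → b ∈ [18, 13, 12, 5, 10, 11] →
        b ≠ chevD4.neg a → ∀ y z : K, Commute (x a y) (x b z) := fun ha hb h y z => H53.D4T.rt_comm ha hb h y z
    have e : na K = tA f 1 * tB f (-1) * tA f 1 := by
      rw [na, H52.Checked.nElt_eq, H52.Checked.nElt_eq, H52.Checked.nElt_eq,
        show chevD4.neg 18 = 5 by decide +kernel, show chevD4.neg 13 = 10 by decide +kernel,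
        show chevD4.neg 12 = 11 by decide +kernel, inv_one]
      simp only [tA, tB, map_one, map_neg]
      rw [H53.mul3_comm (c (by decide) (by decide) (by decide +kernel) _ _) (c (by decide) (by decide) (by decide +kernel) _ _)
          (c (by decide) (by decide) (by decide +kernel) _ _),
        H53.mul3_comm ((c (by decide) (by decide) (by decide +kernel) _ _).mul_left (c (by decide) (by decide) (by decide +kernel) _ _))
          ((c (by decide) (by decide) (by decide +kernel) _ _).mul_left (c (by decide) (by decide) (by decide +kernel) _ _))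
          ((c (by decide) (by decide) (by decide +kernel) _ _).mul_left (c (by decide) (by decide) (by decide +kernel) _ _))]
    rw [e]
    exact mul_mem (mul_mem (hA 1) (hB _)) (hA 1)
  have hsingle : ∀ r ∈ [14, 9], ∀ t : K, f t = t → x r t ∈ C := by
    intro r hr t ht
    simp only [List.mem_cons, List.not_mem_nil, or_false] at hr
    rcases hr with rfl | rfl
    · have h22 : x 22 (-(-t)) ∈ UP K q := by
        have h := up_UU hf 0 0 0 (S := -t) (by rw [map_neg, ht]) (map_zero f)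
        have e : up f 0 0 0 (-t) 0 = x 22 (-(-t)) := by simp [up, tA_zero, raw, tvec, D4Min.x_zero]
        rw [e] at h
        exact Subgroup.mem_inf.2 ⟨UU_twisted hf h, UU_uni hf h⟩
      have e := D4Min.na_conj (K := K) (r := 22) (s := 14) 1 (by norm_num) (by decide +kernel)
        (by decide +kernel) (by decide +kernel) t
      rw [Int.cast_one, one_mul] at e
      rw [← e]
      exact mul_mem (mul_mem hna (hC (hP _ (by rwa [neg_neg] at h22)))) (inv_mem hna)
    · have h1 : x 1 (-t) ∈ UM K q := by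
        refine Subgroup.mem_inf.2 ⟨?_, x_mem_uniN (by norm_num) (by decide +kernel) _⟩
        have h := D4Min.na_conj (K := K) (r := 9) (s := 1) (-1) (by norm_num) (by decide +kernel)
          (by decide +kernel) (by decide +kernel) t
        rw [show ((-1 : ℤ) : K) * t = -t by push_cast; ring] at h
        rw [← h]
        exact mul_mem (mul_mem (D4Min.na_mem hf) (LL_tw (x9_LL hf ht))) (inv_mem (D4Min.na_mem hf))
      have e := D4Min.na_conj (K := K) (r := 9) (s := 1) (-1) (by norm_num) (by decide +kernel)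
        (by decide +kernel) (by decide +kernel) t
      rw [show ((-1 : ℤ) : K) * t = -t by push_cast; ring] at e
      rw [show x 9 t = (na K)⁻¹ * x 1 (-t) * na K by rw [← e]; group]
      exact mul_mem (mul_mem (inv_mem hna) (hC (hM _ h1))) hna
  have hall : twistedD4 K q ≤ C := by
    refine (Subgroup.closure_le _).2 fun z hz => ?_
    rcases H53.D4T.gen_eq hz with ⟨r, hr, t, ht, rfl⟩ | ⟨abc, habc, t, rfl⟩
    · exact hsingle r hr t (by rw [hf.eq]; exact ht)
    · have e2 : t ^ (q ^ 2) = f (f t) := by rw [hf.eq, hf.eq, ← pow_mul, sq]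
      rw [← hf.eq, e2]
      simp only [List.mem_cons, List.not_mem_nil, or_false] at habc
      rcases habc with rfl | rfl
      exacts [hA t, hB t]
  obtain ⟨T, X, hfX⟩ := H52.exists_twistD4 hq hK
  have hs : IsSimpleGroup ↥(twistedD4 K q) ∧ ¬ IsMulCommutative ↥(twistedD4 K q) := by
    rw [← H52.twistD4_grp X hfX hK]
    exact X.simple_grp (H52.diagramConnected_of_mem (by simp)) (by decide) (H52.d4_perfect X hfX hK)
  haveI := hs.1
  have hz : (⟨g, hg⟩ : ↥(twistedD4 K q)) ∈ Subgroup.center ↥(twistedD4 K q) :=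
    Subgroup.mem_center_iff.2 fun y => Subtype.ext (Subgroup.mem_centralizer_singleton_iff.1 (hall y.2))
  rcases (Subgroup.Normal.eq_bot_or_eq_top (H := Subgroup.center ↥(twistedD4 K q)) inferInstance) with h | h
  · rw [h, Subgroup.mem_bot] at hz
    exact congrArg Subtype.val hz
  · exact absurd ⟨⟨fun a b => Subgroup.mem_center_iff.1 (h ▸ Subgroup.mem_top b) a⟩⟩ hs.2

/-- A conjugate with nontrivial unipotent part. -/
theorem start_u {g : GL chevD4.Idx K} (hg : g ∈ twistedD4 K q) (hg1 : g ≠ 1) :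
    ∃ u ∈ UP K q, u ≠ 1 ∧ ∃ l ∈ LL K q, ∃ w ∈ UM K q, CT K q g (u * l * w) := by
  obtain ⟨z, hz, u, hu, l, hl, w, hw, e⟩ := conj_cell hf hq hK ⟨g, hg⟩
  by_cases h : u = 1
  · subst h
    rw [one_mul] at e
    -- a nontrivial right part moves to a left part
    have key : ∀ l ∈ LL K q, ∀ w ∈ UM K q, w ≠ 1 → CT K q g (l * w) →
        ∃ u ∈ UP K q, u ≠ 1 ∧ ∃ l ∈ LL K q, ∃ w ∈ UM K q, CT K q g (u * l * w) := by
      intro l hl w hw hw1 hc
      refine ⟨(w0 K * l * (w0 K)⁻¹) * (w0 K * w * (w0 K)⁻¹) * (w0 K * l * (w0 K)⁻¹)⁻¹,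
        UP_conj (w0_conj_LL hf hq hK hl) (w0_conj_UM hf hq hK hw), ?_, _, w0_conj_LL hf hq hK hl, 1,
        one_mem _, hc.trans ⟨w0 K, w0_mem hf, by group⟩⟩
      intro h1
      apply hw1
      rw [conj_eq_one_iff, conj_eq_one_iff] at h1
      exact h1
    by_cases hw1 : w = 1
    · subst hw1
      rw [mul_one] at e
      by_cases hP : ∀ y ∈ UP K q, y * l = l * y
      · by_cases hM : ∀ y ∈ UM K q, y * l = l * y
        · have := centre_trivial hf hq hK (LL_tw hl) hP hM
          rw [this, conj_eq_one_iff] at e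
          exact absurd e hg1
        · push Not at hM
          obtain ⟨y, hy, hne⟩ := hM
          refine key l hl (l⁻¹ * y * l * y⁻¹) ?_ ?_ (CT.trans ⟨z, hz, e⟩ ⟨y, UM_tw hy, by group⟩)
          · refine mul_mem ?_ (inv_mem hy)
            simpa using UM_conj (inv_mem hl) hy
          · intro h1
            apply hne
            calc y * l = l * (l⁻¹ * y * l * y⁻¹) * y := by group
              _ = l * y := by rw [h1, mul_one]
      · push Not at hP
        obtain ⟨y, hy, hne⟩ := hP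
        refine ⟨y * (l * y⁻¹ * l⁻¹), mul_mem hy (UP_conj hl (inv_mem hy)), ?_, l, hl, 1, one_mem _,
          CT.trans ⟨z, hz, e⟩ ⟨y, UP_tw hy, by group⟩⟩
        intro h1
        apply hne
        calc y * l = (y * (l * y⁻¹ * l⁻¹)) * (l * y) := by group
          _ = l * y := by rw [h1, one_mul]
    · exact key l hl w hw hw1 ⟨z, hz, e⟩
  · exact ⟨u, hu, h, l, hl, w, hw, z, hz, e⟩

omit hq hK in
theorem shift_tB (B W E : K) {S : K} (hS : f S = S) (hE : f E = E) (t : K) {l w : GL chevD4.Idx K}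
    (hl : l ∈ LL K q) (hw : w ∈ UM K q) :
    ∃ l' ∈ LL K q, ∃ w' ∈ UM K q, ∃ E', f E' = E' ∧ CT K q (up f 0 B W S E * l * w)
      (up f 0 (loB f t B W S) (W + t * S) S E' * l' * w') ∧ l' = x 14 (loK f t 0 B W S) * l := by
  have hk := loK_fix hf t B W (map_zero f) hS
  refine ⟨_, mul_mem (x14_LL hf hk) hl, (l⁻¹ * tB f t * l) * w * (tB f t)⁻¹, ?_,
    loE f t 0 B W S E - S * loK f t 0 B W S, ?_, ⟨tB f t, tB_mem hf t, ?_⟩, rfl⟩
  · refine mul_mem (mul_mem ?_ hw) (inv_mem (tB_UM hf t))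
    simpa using UM_conj (inv_mem hl) (tB_UM hf t)
  · simp only [loE, map_sub, map_add, map_mul, map_zero, map_neg, Tr_fix hf, Nm_fix hf, hS, hE, hk]
  · have e2 := lo_tvec hf t (k := 0) hS B W E
    rw [tvec_k (loK f t 0 B W S)] at e2
    calc tB f t * (up f 0 B W S E * l * w) * (tB f t)⁻¹
        = (tB f t * raw (tvec f 0 B W S E) * (tB f t)⁻¹) * tB f t * l * w * (tB f t)⁻¹ := by
          simp only [up, tA_zero, one_mul]; group
      _ = _ := by rw [e2]; simp only [up, tA_zero, one_mul]; group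

omit hq hK in
theorem nb_swap (a B W S E : K) (hS : f S = S) (hE : f E = E) {l w : GL chevD4.Idx K}
    (hl : l ∈ LL K q) (hw : w ∈ UM K q) :
    ∃ W' S' E', f S' = S' ∧ f E' = E' ∧ CT K q (up f a B W S E * l * w)
      (up f B (-a) W' S' E' * (nb K * l * (nb K)⁻¹) * (nb K * w * (nb K)⁻¹)) := by
  refine ⟨W + f (f B) * f a + f B * f (f a), E - Tr f (f B * f (f B) * a),
    -S + Tr f (f (f B) * a * f a), ?_, ?_, nb K, LL_tw (nb_LL hf), ?_⟩
  · simp only [map_sub, Tr_fix hf, hE]
  · simp only [map_add, map_neg, Tr_fix hf, hS]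
  · rw [← up_nb hf]; group

/-- A conjugate in the big cell with nonzero leading coordinate. -/
theorem start {g : GL chevD4.Idx K} (hg : g ∈ twistedD4 K q) (hg1 : g ≠ 1) :
    ∃ a B W S E, a ≠ 0 ∧ f S = S ∧ f E = E ∧ ∃ l ∈ LL K q, ∃ w ∈ UM K q,
      CT K q g (up f a B W S E * l * w) := by
  obtain ⟨u, hu, hu1, l, hl, w, hw, hc⟩ := start_u hf hq hK hg hg1
  obtain ⟨a, B, W, S, E, hS, hE, rfl⟩ := mem_UP hf hq hK hu
  -- from a nonzero second coordinate
  have fromB : ∀ B W S E, B ≠ 0 → f S = S → f E = E → ∀ l ∈ LL K q, ∀ w ∈ UM K q,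
      CT K q g (up f 0 B W S E * l * w) → ∃ a B W S E, a ≠ 0 ∧ f S = S ∧ f E = E ∧ ∃ l ∈ LL K q,
        ∃ w ∈ UM K q, CT K q g (up f a B W S E * l * w) := by
    intro B W S E hB hS hE l hl w hw hc
    obtain ⟨W', S', E', hS', hE', h⟩ := nb_swap hf 0 B W S E hS hE hl hw
    exact ⟨B, -0, W', S', E', hB, hS', hE', _, mul_mem (mul_mem (nb_LL hf) hl) (inv_mem (nb_LL hf)), _,
      UM_conj (nb_LL hf) hw, hc.trans h⟩
  have fromWS : ∀ W S E, ¬ (W = 0 ∧ S = 0) → f S = S → f E = E → ∀ l ∈ LL K q, ∀ w ∈ UM K q,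
      CT K q g (up f 0 0 W S E * l * w) → ∃ a B W S E, a ≠ 0 ∧ f S = S ∧ f E = E ∧ ∃ l ∈ LL K q,
        ∃ w ∈ UM K q, CT K q g (up f a B W S E * l * w) := by
    intro W S E hne hS hE l hl w hw hc
    obtain ⟨t, ht⟩ : ∃ t, loB f t 0 W S ≠ 0 := by
      by_contra h
      push Not at h
      have h1 := h 1
      simp only [loB, map_one, one_mul, zero_add] at h1
      have h1' := congrArg f h1
      simp only [map_add, map_zero, hf.three, hS] at h1'
      have hW : W = f W := by linear_combination h1' - h1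
      have h2W : W + W + S = 0 := by
        rw [← hW, ← hW] at h1
        exact h1
      obtain ⟨t0, ht0⟩ := D4Min.f_ne_id hf hq hK
      by_cases h2 : (2 : K) = 0
      · have hS0 : S = 0 := by linear_combination h2W - W * h2
        have h3 := h (f t0)
        simp only [loB, hS0, mul_zero, add_zero, zero_add, hf.three, ← hW] at h3
        have : (t0 + f (f t0)) * W = 0 := by linear_combination h3
        rcases mul_eq_zero.1 this with e | e
        · have e2 : f (f t0) = t0 := by linear_combination e - t0 * h2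
          have e3 := congrArg f e2
          rw [hf.three] at e3
          exact ht0 e3.symm
        · exact hne ⟨e, hS0⟩
      · have h3 := h (-1)
        simp only [loB, map_neg, map_one, zero_add, ← hW] at h3
        have hS0 : S = 0 := by
          have : (2 : K) * S = 0 := by linear_combination h2W + h3
          exact (mul_eq_zero.1 this).resolve_left h2
        refine hne ⟨?_, hS0⟩
        have : (2 : K) * W = 0 := by linear_combination h2W - hS0
        exact (mul_eq_zero.1 this).resolve_left h2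
    obtain ⟨l', hl', w', hw', E', hE', hc', -⟩ := shift_tB hf 0 W E hS hE t hl hw
    exact fromB _ _ _ _ ht hS hE' l' hl' w' hw' (hc.trans hc')
  by_cases ha : a = 0
  · subst ha
    by_cases hB : B = 0
    · subst hB
      by_cases hWS : W = 0 ∧ S = 0
      · obtain ⟨rfl, rfl⟩ := hWS
        have hE0 : E ≠ 0 := fun e => hu1 (by subst e; simp [up, tA_zero, raw, tvec, D4Min.x_zero])
        have h : nb K * up f 0 0 0 0 E * (nb K)⁻¹ = up f 0 0 0 E (-0) := by
          have := nb_tvec hf (0 : K) 0 0 E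
          simpa [up, tA_zero] using this
        exact fromWS 0 E (-0) (fun e => hE0 e.2) hE (by simp) _
          (mul_mem (mul_mem (nb_LL hf) hl) (inv_mem (nb_LL hf))) _ (UM_conj (nb_LL hf) hw)
          (hc.trans ⟨nb K, LL_tw (nb_LL hf), by rw [← h]; group⟩)
      · exact fromWS W S E hWS hS hE l hl w hw hc
    · exact fromB B W S E hB hS hE l hl w hw hc
  · exact ⟨a, B, W, S, E, ha, hS, hE, l, hl, w, hw, hc⟩

end H35.D4Cover
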