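import Cfsg.Agent.H35.D4Cover.Regular

/-!
³D₄(q): states in the big cell and the operations on them; auxiliary facts on trace forms.
-/

set_option autoImplicit false
set_option linter.unusedSectionVars false

open Cfsg.Lie
open scoped MatrixGroups

namespace H35.D4Cover

open D4Min (Frob tc nb na Nm Tr raw Fx)

variable {K : Type*} [Field K] [Fintype K]

local notation "x" => H52.rt chevD4

/-- A conjugate of `g` in the big cell with given coordinates. -/
structure St (f : K ≃+* K) (q : ℕ) (g : GL chevD4.Idx K) (a B W S E : K) (c : Kˣ) (A : GL (Fin 2) K) : Prop where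
  hS : f S = S
  hE : f E = E
  hA : A ∈ FX f
  hw : ∃ w ∈ UM K q, CT K q g (up f a B W S E * lv f (c, A) * w)

/-- The Weyl element in `GL₂`. -/
noncomputable def jG : GL (Fin 2) K := uG (-1) * lG 1 * uG (-1)

theorem jG_val : (jG : GL (Fin 2) K).1 = !![0, -1; 1, 0] := by
  rw [jG, Units.val_mul, Units.val_mul, uG_val, lG_val]
  ext i j; fin_cases i <;> fin_cases j <;> simp [Matrix.mul_apply, Fin.sum_univ_two]

theorem nb_lv (f : K ≃+* K) : nb K = lv f (1, jG) := by
  rw [nb_eq, x14_eq f, x9_eq f, ← map_mul, ← map_mul, neg_neg]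
  congr 1
  exact Prod.ext (show (1 : Kˣ) * 1 * 1 = 1 by simp) rfl

theorem jG_conj (A : GL (Fin 2) K) :
    (jG * A * jG⁻¹).1 = !![A.1 1 1, -A.1 1 0; -A.1 0 1, A.1 0 0] := by
  have h : (jG⁻¹ : GL (Fin 2) K).1 = !![0, 1; -1, 0] := by
    have hi : (jG : GL (Fin 2) K)⁻¹ =
        Matrix.GeneralLinearGroup.mkOfDetNeZero !![(0 : K), 1; -1, 0] (by simp [Matrix.det_fin_two_of]) := by
      apply inv_eq_of_mul_eq_one_right
      apply Units.ext
      rw [Units.val_mul, jG_val]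
      show _ * !![(0 : K), 1; -1, 0] = 1
      ext i j; fin_cases i <;> fin_cases j <;> simp [Matrix.mul_apply, Fin.sum_univ_two]
    rw [hi]; rfl
  rw [Units.val_mul, Units.val_mul, jG_val, h]
  ext i j; fin_cases i <;> fin_cases j <;>
    simp [Matrix.mul_apply, Fin.sum_univ_two, Matrix.vecMul, dotProduct]

theorem uG_conj (σ : K) (A : GL (Fin 2) K) :
    (uG (-σ) * A * (uG (-σ))⁻¹).1 = !![A.1 0 0 - σ * A.1 1 0,
      A.1 0 1 + σ * (A.1 0 0 - A.1 1 1) - σ ^ 2 * A.1 1 0; A.1 1 0, A.1 1 1 + σ * A.1 1 0] := by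
  have hi : (uG (-σ))⁻¹ = uG σ := by
    apply inv_eq_of_mul_eq_one_right
    apply Units.ext
    rw [Units.val_mul, uG_val, uG_val]
    ext i j; fin_cases i <;> fin_cases j <;> simp [Matrix.mul_apply, Fin.sum_univ_two]
  rw [Units.val_mul, Units.val_mul, hi, uG_val, uG_val]
  ext i j; fin_cases i <;> fin_cases j <;>
    simp [Matrix.mul_apply, Fin.sum_univ_two, Matrix.vecMul, dotProduct] <;> ring

/-- The matrix after a move. -/
noncomputable def mvMat (f : K ≃+* K) (γ : Kˣ) (k : K) (A : GL (Fin 2) K) : GL (Fin 2) K :=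
  nG f γ * uG (-k) * A

theorem mvMat_val (f : K ≃+* K) (γ : Kˣ) (k : K) (A : GL (Fin 2) K) :
    (mvMat f γ k A).1 = !![Nm f γ * (A.1 0 0 - k * A.1 1 0), Nm f γ * (A.1 0 1 - k * A.1 1 1);
      A.1 1 0, A.1 1 1] := by
  rw [mvMat, Units.val_mul, Units.val_mul, uG_val,
    show (nG f γ).1 = !![Nm f γ, 0; 0, 1] from rfl]
  ext i j; fin_cases i <;> fin_cases j <;> simp [Matrix.mul_apply, Fin.sum_univ_two] <;> ring

/-- The coordinate in the Levi subgroup produced by a move. -/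
def mvK (f : K ≃+* K) (a B W S : K) (γ : Kˣ) : K := loK f (((γ : K) - 1) / a / γ) 0 B W S

variable {q : ℕ} {f : K ≃+* K} (hf : Frob q f)
include hf

theorem psi_mul (c c' : Kˣ) (A A' : GL (Fin 2) K) :
    psi f (c * c') (A * A') = psi f c A * psi f c' A' := by
  simp only [psi, Units.val_mul, Matrix.det_mul, Nm, map_mul]
  field_simp

theorem psi_mv (c γ : Kˣ) (k : K) (A : GL (Fin 2) K) :
    psi f (γ * c) (mvMat f γ k A) = psi f c A / γ := by
  have hA : A.1.det ≠ 0 := ((Matrix.isUnit_iff_isUnit_det A.1).1 A.isUnit).ne_zero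
  have hd : (mvMat f γ k A).1.det = Nm f γ * A.1.det := by
    rw [mvMat_val, Matrix.det_fin_two_of, Matrix.det_fin_two]; ring
  have hγ : (γ : K) ≠ 0 := γ.ne_zero
  have hNγ : Nm f (γ : K) ≠ 0 :=
    mul_ne_zero (mul_ne_zero hγ ((map_ne_zero f).2 hγ)) ((map_ne_zero f).2 ((map_ne_zero f).2 hγ))
  rw [psi, psi, hd, show Nm f ((γ * c : Kˣ) : K) = Nm f γ * Nm f c by
    simp only [Nm, Units.val_mul, map_mul]; ring, Units.val_mul]
  field_simp

/-- Normalisation of the central part. -/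
theorem normalize {c c0 : Kˣ} {A : GL (Fin 2) K} (hA : A ∈ FX f) {D0 : K} (hD0 : f D0 = D0) (hD00 : D0 ≠ 0)
    (h : psi f c A = Nm f c0 / ((c0 : K) * D0)) :
    ∃ e : Kˣ, (e : K) = (c : K) / c0 ∧ f (e : K) = e ∧ lv f (c, A) = lv f (c0, D4Torus.sGL e⁻¹ * A) ∧
      D4Torus.sGL e⁻¹ * A ∈ FX f ∧ (D4Torus.sGL e⁻¹ * A).1.det = D0 ∧
      ∀ i j, (D4Torus.sGL e⁻¹ * A).1 i j = A.1 i j / e := by
  set e : Kˣ := c * c0⁻¹ with hedef
  have he : (e : K) = (c : K) / c0 := by rw [hedef, Units.val_mul, Units.val_inv_eq_inv_val, div_eq_mul_inv]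
  have hA0 : A.1.det ≠ 0 := ((Matrix.isUnit_iff_isUnit_det A.1).1 A.isUnit).ne_zero
  have hdf : f A.1.det = A.1.det := by
    rw [Matrix.det_fin_two]; simp only [map_sub, map_mul, mem_FX.1 hA]
  have hc0 : (c0 : K) ≠ 0 := c0.ne_zero
  have hc : (c : K) ≠ 0 := c.ne_zero
  have he0 : (e : K) ≠ 0 := e.ne_zero
  have hN0 : f (c0 : K) ≠ 0 := (map_ne_zero f).2 hc0
  have hN1 : f (f (c0 : K)) ≠ 0 := (map_ne_zero f).2 hN0
  have hee : f (e : K) * f (f (e : K)) = A.1.det / D0 := by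
    rw [he]
    simp only [psi, Nm] at h
    simp only [map_div₀]
    field_simp at h ⊢
    linear_combination h
  have hfe : f (e : K) = e := by
    have h2 := congrArg f hee
    rw [map_mul, hf.three, map_div₀, hdf, hD0, ← hee] at h2
    exact mul_right_cancel₀ ((map_ne_zero f).2 ((map_ne_zero f).2 he0)) (by linear_combination -h2)
  have hei : f ((e⁻¹ : Kˣ) : K) = ((e⁻¹ : Kˣ) : K) := by rw [Units.val_inv_eq_inv_val, map_inv₀, hfe]
  have hent : ∀ i j, (D4Torus.sGL e⁻¹ * A).1 i j = A.1 i j / e := by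
    intro i j
    fin_cases i <;> simp [D4Torus.sGL, Matrix.mul_apply, Fin.sum_univ_two, div_eq_inv_mul]
  refine ⟨e, he, hfe, ?_, mul_mem (sGL_FX hf hei) hA, ?_, hent⟩
  · have h1 : lv f (c, A) = lv f (e, D4Torus.sGL e) * lv f (c0, D4Torus.sGL e⁻¹ * A) := by
      rw [← map_mul]
      congr 1
      refine Prod.ext ?_ ?_
      · show c = e * c0
        rw [hedef, inv_mul_cancel_right]
      · show A = D4Torus.sGL e * (D4Torus.sGL e⁻¹ * A)
        apply Units.ext
        rw [Units.val_mul]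
        ext i j
        rw [Matrix.mul_apply, Fin.sum_univ_two]
        fin_cases i <;> simp [D4Torus.sGL, Matrix.mul_apply, Fin.sum_univ_two]
    rw [h1, lv_scalar hf hfe, one_mul]
  · rw [Matrix.det_fin_two, hent, hent, hent, hent]
    rw [hfe, hfe] at hee
    rw [Matrix.det_fin_two] at hee hA0
    field_simp at hee ⊢
    linear_combination -hee

theorem St.finish {g : GL chevD4.Idx K} {a B W S E : K} {c : Kˣ} {A : GL (Fin 2) K}
    (h : St f q g a B W S E c A) {P : Par f} (hl : P.CovL q (lv f (c, A))) : P.Cov q g := by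
  obtain ⟨w, hw, hc⟩ := h.hw
  refine Par.Cov.conj P hc (P.cov_cell hl ?_ hw)
  have hu := up_UU hf a B W h.hS h.hE
  exact Subgroup.mem_inf.2 ⟨UU_twisted hf hu, UU_uni hf hu⟩

theorem St.conjX14 {g : GL chevD4.Idx K} {a B W S E : K} {c : Kˣ} {A : GL (Fin 2) K}
    (h : St f q g a B W S E c A) {σ : K} (hσ : f σ = σ) :
    St f q g a (B - a * σ) (W + f a * f (f a) * σ) (S - Nm f a * σ)
      (E - σ * S - σ * Tr f (f a * f (f a) * B) + 2 * (σ * σ * Nm f a)) c (uG (-σ) * A * (uG (-σ))⁻¹) := by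
  obtain ⟨w, hw, hc⟩ := h.hw
  have hu : uG (-σ) ∈ FX f := uG_FX hf (by rw [map_neg, hσ])
  refine ⟨?_, ?_, mul_mem (mul_mem hu h.hA) (inv_mem hu), x 14 σ * w * (x 14 σ)⁻¹, UM_conj (x14_LL hf hσ) hw, ?_⟩
  · simp only [map_sub, map_mul, Nm_fix hf, hσ, h.hS]
  · simp only [map_add, map_sub, map_mul, map_ofNat, Tr_fix hf, Nm_fix hf, hσ, h.hS, h.hE]
  · refine hc.trans ⟨x 14 σ, LL_tw (x14_LL hf hσ), ?_⟩
    rw [← up_x14 hf a hσ, show lv f (c, uG (-σ) * A * (uG (-σ))⁻¹) = x 14 σ * lv f (c, A) * (x 14 σ)⁻¹ from ?_]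
    · group
    · rw [x14_eq f, ← map_inv, ← map_mul, ← map_mul]
      congr 1
      exact Prod.ext (show c = 1 * c * 1⁻¹ by simp) rfl

theorem St.conjNb {g : GL chevD4.Idx K} {a B W S E : K} {c : Kˣ} {A : GL (Fin 2) K}
    (h : St f q g a B W S E c A) :
    St f q g B (-a) (W + f (f B) * f a + f B * f (f a)) (E - Tr f (f B * f (f B) * a))
      (-S + Tr f (f (f B) * a * f a)) c (jG * A * jG⁻¹) := by
  obtain ⟨w, hw, hc⟩ := h.hw
  have hj : jG ∈ FX f := mul_mem (mul_mem (uG_FX hf (by simp)) (lG_FX hf (map_one f))) (uG_FX hf (by simp))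
  refine ⟨?_, ?_, mul_mem (mul_mem hj h.hA) (inv_mem hj), nb K * w * (nb K)⁻¹, UM_conj (nb_LL hf) hw, ?_⟩
  · simp only [map_sub, Tr_fix hf, h.hE]
  · simp only [map_add, map_neg, Tr_fix hf, h.hS]
  · refine hc.trans ⟨nb K, LL_tw (nb_LL hf), ?_⟩
    rw [← up_nb hf, show lv f (c, jG * A * jG⁻¹) = nb K * lv f (c, A) * (nb K)⁻¹ from ?_]
    · group
    · rw [nb_lv f, ← map_inv, ← map_mul, ← map_mul]
      congr 1
      exact Prod.ext (show c = 1 * c * 1⁻¹ by simp) rfl

theorem St.move {g : GL chevD4.Idx K} {a B W S E : K} {c : Kˣ} {A : GL (Fin 2) K}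
    (h : St f q g a B W S E c A) (ha : a ≠ 0) (γ : Kˣ) :
    St f q g (a / γ) ((γ⁻¹ : K) ^ 2 / Nm f (γ⁻¹ : K) * loB f (((γ : K) - 1) / a / γ) B W S)
      (Nm f (γ⁻¹ : K) / (γ⁻¹ : K) ^ 2 * (W + ((γ : K) - 1) / a / γ * S)) (Nm f (γ⁻¹ : K) * S)
      (loE f (((γ : K) - 1) / a / γ) 0 B W S E - S * mvK f a B W S γ) (γ * c)
      (mvMat f γ (mvK f a B W S γ) A) := by
  obtain ⟨w, hw, hc⟩ := h.hw
  set t := ((γ : K) - 1) / a with ht
  have hk : f (mvK f a B W S γ) = mvK f a B W S γ := loK_fix hf _ B W (map_zero f) h.hS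
  obtain ⟨w', hw', hc'⟩ := H35.D4Cover.move hf a B W E h.hS t γ (by rw [ht]; field_simp; ring) (lv_LL hf h.hA) hw
  refine ⟨?_, ?_, mul_mem (mul_mem (nG_FX hf γ) (uG_FX hf (by rw [map_neg, hk]))) h.hA, w', hw',
    hc.trans ?_⟩
  · simp only [map_mul, Nm_fix hf, h.hS]
  · simp only [loE, map_sub, map_add, map_mul, map_zero, map_neg, Tr_fix hf, Nm_fix hf, h.hS, h.hE, hk,
      loK_fix hf (t / γ) B W (map_zero f) h.hS]
  · rw [show mvK f a B W S γ = loK f (t / γ) 0 B W S from rfl]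
    convert hc' using 3
    rw [x14_eq f, ← map_mul, ← map_mul]
    congr 1
    exact Prod.ext (show γ * c = γ * 1 * c by simp) rfl

theorem St.shift {g : GL chevD4.Idx K} {B W S E : K} {c : Kˣ} {A : GL (Fin 2) K}
    (h : St f q g 0 B W S E c A) (t : K) :
    ∃ E', St f q g 0 (loB f t B W S) (W + t * S) S E' c (uG (-loK f t 0 B W S) * A) := by
  obtain ⟨w, hw, hc⟩ := h.hw
  have hk : f (loK f t 0 B W S) = loK f t 0 B W S := loK_fix hf t B W (map_zero f) h.hS
  obtain ⟨l', -, w', hw', E', hE', hc', rfl⟩ := shift_tB hf B W E h.hS h.hE t (lv_LL hf h.hA) hw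
  refine ⟨E', h.hS, hE', mul_mem (uG_FX hf (by rw [map_neg, hk])) h.hA, w', hw', hc.trans ?_⟩
  convert hc' using 3
  rw [x14_eq f, ← map_mul]
  congr 1
  exact Prod.ext (one_mul c).symm rfl

variable (hq : IsPrimePow q) (hK : Fintype.card K = q ^ 3)
include hq hK

theorem Tr_surj {r : K} (hr : f r = r) {B : K} (hB : B ≠ 0) : ∃ t, Tr f (t * B) = r := by
  obtain ⟨s, hs⟩ := D4Min.exists_Tr_ne hf hq hK
  refine ⟨r / Tr f s * s / B, ?_⟩
  have h : f (r / Tr f s) = r / Tr f s := by rw [map_div₀, hr, Tr_fix hf]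
  rw [div_mul_cancel₀ _ hB]
  have := D4Min.Tr_mul_fixed hf (a := r / Tr f s) h s
  rw [this, div_mul_cancel₀ _ hs]

theorem quad_surj {B W r : K} (hr : f r = r) (hB : B ≠ 0) :
    ∃ t, Tr f (t * B) + Tr f (f t * f (f t) * W) = r := by
  by_cases hW : W = 0
  · obtain ⟨t, ht⟩ := Tr_surj hf hq hK hr hB
    exact ⟨t, by rw [hW, mul_zero, ht]; simp [Tr]⟩
  obtain ⟨s, hs, hs0⟩ : ∃ s, Tr f (W * s) = 0 ∧ s ≠ 0 := by
    by_contra h
    push Not at h
    have hinj : Function.Injective fun s : K => (⟨Tr f (W * s), D4Min.Tr_mem hf _⟩ : ↥(Fx f)) := by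
      intro s s' e
      have e' : Tr f (W * s) = Tr f (W * s') := congrArg Subtype.val e
      refine sub_eq_zero.1 (h _ ?_)
      have : Tr f (W * (s - s')) = Tr f (W * s) - Tr f (W * s') := by
        simp only [Tr, mul_sub, map_sub]; ring
      rw [this, e', sub_self]
    have hle := Nat.card_le_card_of_injective _ hinj
    rw [D4Min.card_Fx hf hq hK, Nat.card_eq_fintype_card, hK] at hle
    exact absurd hle (not_le.2 (by calc q = q ^ 1 := (pow_one q).symm
                                    _ < q ^ 3 := Nat.pow_lt_pow_right hq.one_lt (by norm_num)))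
  set t1 := s⁻¹ with ht1
  have ht10 : t1 ≠ 0 := inv_ne_zero hs0
  have hf1 : f s ≠ 0 := (map_ne_zero f).2 hs0
  have hf2 : f (f s) ≠ 0 := (map_ne_zero f).2 hf1
  have hiso : Tr f (f t1 * f (f t1) * W) = 0 := by
    have e : f t1 * f (f t1) * W = W * s * (Nm f s)⁻¹ := by
      simp only [ht1, map_inv₀, Nm]; field_simp
    rw [e, mul_comm, D4Min.Tr_mul_fixed hf (a := (Nm f s)⁻¹) (by rw [D4Min.mem_Fx, map_inv₀, Nm_fix hf]), hs,
      mul_zero]
  set G := f (f W) * f t1 + f W * f (f t1) with hG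
  have hG0 : G ≠ 0 := by
    intro h0
    have h1 := congrArg f h0
    have h2 := congrArg f h1
    simp only [hG, map_add, map_mul, map_zero, hf.three] at h1 h2
    have e1 : W * f t1 = -(f W * t1) := by linear_combination h2
    have e2 : W * f (f t1) = -(f (f W) * t1) := by linear_combination h1
    have h2z : (2 : K) * (f (f W) * f W * t1) = 0 := by
      rw [hG] at h0
      linear_combination -W * h0 + f (f W) * e1 + f W * e2
    have hfW : f (f W) * f W * t1 ≠ 0 :=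
      mul_ne_zero (mul_ne_zero ((map_ne_zero f).2 ((map_ne_zero f).2 hW)) ((map_ne_zero f).2 hW)) ht10
    have two : (2 : K) = 0 := (mul_eq_zero.1 h2z).resolve_right hfW
    set X := f t1 * f (f t1) * W with hX
    have hXW : X * W = f W * f (f W) * t1 ^ 2 := by
      rw [hX]; linear_combination (W * f (f t1)) * e1 - (f W * t1) * e2
    have hfX : f X = X := by
      have h3 := congrArg f hXW
      simp only [map_mul, map_pow, hf.three] at h3
      refine mul_right_cancel₀ (mul_ne_zero ((map_ne_zero f).2 hW) hW) ?_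
      linear_combination W * h3 - f W * hXW + (f (f W) * (W * f t1 - f W * t1)) * e1
    have : X = 0 := by
      have h3 : Tr f X = 3 * X := by rw [Tr, hfX, hfX]; ring
      rw [hiso] at h3
      linear_combination -h3 - X * two
    exact mul_ne_zero (mul_ne_zero ((map_ne_zero f).2 ht10) ((map_ne_zero f).2 ((map_ne_zero f).2 ht10))) hW this
  obtain ⟨t0, ht0⟩ := Tr_surj hf hq hK (r := 1 - Tr f (t1 * B))
    (by rw [map_sub, map_one, Tr_fix hf]) hG0
  set d := r - Tr f (t0 * B) - Tr f (f t0 * f (f t0) * W)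
  have hd : f d = d := by simp only [d, map_sub, hr, Tr_fix hf]
  refine ⟨t0 + d * t1, ?_⟩
  have hdd : d = r - Tr f (t0 * B) - Tr f (f t0 * f (f t0) * W) := rfl
  simp only [Tr, hG, map_add, map_mul, hf.three, hd] at hiso ht0 hdd ⊢
  linear_combination d * ht0 + d ^ 2 * hiso + hdd

end H35.D4Cover
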