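import Cfsg.Agent.H35.D4Cover.State

/-!
³D₄(2): a model of the field with eight elements and the finite check on coordinates.
-/

set_option autoImplicit false
set_option linter.unusedSectionVars false

open Cfsg.Lie

namespace H35.D4Cover.Two

open D4Min (Frob Nm Tr)

/-- Coordinates in the basis `1, c, c²` with `c³ = c + 1`. -/
abbrev M8 : Type := Bool × Bool × Bool

/-- Addition. -/
def ad (u v : M8) : M8 := (u.1 ^^ v.1, u.2.1 ^^ v.2.1, u.2.2 ^^ v.2.2)

/-- Multiplication. -/
def mu (u v : M8) : M8 :=
  ((u.1 && v.1) ^^ ((u.2.1 && v.2.2) ^^ (u.2.2 && v.2.1)),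
   (u.1 && v.2.1) ^^ ((u.2.1 && v.1) ^^ ((u.2.1 && v.2.2) ^^ ((u.2.2 && v.2.1) ^^ (u.2.2 && v.2.2)))),
   (u.1 && v.2.2) ^^ ((u.2.2 && v.1) ^^ ((u.2.1 && v.2.1) ^^ (u.2.2 && v.2.2))))

/-- Zero. -/
def o0 : M8 := (false, false, false)

/-- One. -/
def o1 : M8 := (true, false, false)

/-- The Frobenius map. -/
def sq (u : M8) : M8 := mu u u

/-- The inverse (and zero at zero). -/
def iv (u : M8) : M8 := mu (sq u) (sq (sq u))

/-- The trace. -/
def tr (u : M8) : M8 := ad (ad u (sq u)) (sq (sq u))

/-- The norm. -/
def nm (u : M8) : M8 := mu (mu u (sq u)) (sq (sq u))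

/-- The quadratic form of a move. -/
def loK (t B W S : M8) : M8 :=
  ad (ad (tr (mu t B)) (tr (mu (mu (sq t) (sq (sq t))) W))) (mu (nm t) S)

/-- The first layer after a move. -/
def loB (t B W S : M8) : M8 :=
  ad (ad (ad B (mu (sq (sq t)) (sq W))) (mu (sq t) (sq (sq W)))) (mu (mu (sq t) (sq (sq t))) S)

/-- The central coordinate after a move. -/
def loE (t B W S E : M8) : M8 :=
  ad (ad (ad (ad E (tr (mu B W)))
    (ad (ad (tr (mu (mu (sq (sq t)) W) (sq W))) (mu S (tr (mu (mu (sq t) (sq (sq t))) W))))
      (mu (mu S S) (nm t)))) (mu S (loK t B W S))) (tr (mu (loB t B W S) (ad W (mu t S))))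

/-- The central coordinate after a conjugation. -/
def eS (a B S E : M8) : M8 := ad (ad E S) (tr (mu (mu (sq a) (sq (sq a))) B))

/-- A state with an immediate reduction. -/
def ze (a B S E : M8) : Bool := ((B == o0) && (E == o0)) || ((B == a) && (eS a B S E == o0))

/-- A move with the required effect. -/
def mv (a B W S E g gi : M8) : Bool :=
  (a != o0) &&
    ((loK (mu (mu (ad g o1) (iv a)) gi) B W S == o1) ||
      ze (mu a gi) (mu (mu gi gi) (loB (mu (mu (ad g o1) (iv a)) gi) B W S)) S
        (ad (loE (mu (mu (ad g o1) (iv a)) gi) B W S E) (mu S (loK (mu (mu (ad g o1) (iv a)) gi) B W S))))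

/-- The frame after a conjugation. -/
def fr (a B W S E g gi : M8) : Bool :=
  mv B a (ad (ad W (mu (sq (sq B)) (sq a))) (mu (sq B) (sq (sq a))))
    (ad E (tr (mu (mu (sq B) (sq (sq B))) a))) (ad S (tr (mu (mu (sq (sq B)) a) (sq a)))) g gi

/-- All attempts from a state with leading coordinate one. -/
def go (B W S E g gi : M8) : Bool :=
  mv o1 B W S E g gi || fr o1 B W S E g gi ||
    fr o1 (ad B o1) (ad W o1) (ad S o1) (eS o1 B S E) g gi

/-- The square of the generator. -/
def g2 : M8 := (false, false, true)

/-- The inverse of the square of the generator. -/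
def g5 : M8 := (true, true, true)

set_option maxHeartbeats 4000000 in
theorem check (B W : M8) (s e : Bool) :
    ze o1 B (s, false, false) (e, false, false) = true ∨
      go B W (s, false, false) (e, false, false) g2 g5 = true ∨
      go B W (s, false, false) (e, false, false) g5 g2 = true := by
  revert B W s e
  decide +kernel

theorem inv_check (u : M8) (h : u ≠ o0) : mu u (iv u) = o1 := by
  revert u; decide +kernel

theorem ad_ne (u v : M8) (h : u ≠ v) : ad u v ≠ o0 := by
  revert u v; decide +kernel

variable {K : Type*} [Field K]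

/-- A bit in the field. -/
def bit (b : Bool) : K := if b then 1 else 0

/-- The value of a coordinate triple. -/
def val (c : K) (u : M8) : K := bit u.1 + bit u.2.1 * c + bit u.2.2 * c ^ 2

theorem bit_and (x y : Bool) : (bit (x && y) : K) = bit x * bit y := by
  cases x <;> cases y <;> simp [bit]

variable [CharP K 2]

theorem bit_xor (x y : Bool) : (bit (x ^^ y) : K) = bit x + bit y := by
  cases x <;> cases y <;> simp [bit, CharTwo.add_self_eq_zero]

theorem val_ad (c : K) (u v : M8) : val c (ad u v) = val c u + val c v := by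
  simp only [val, ad, bit_xor]; ring

theorem val_mu {c : K} (hc : c ^ 3 = c + 1) (u v : M8) : val c (mu u v) = val c u * val c v := by
  simp only [val, mu, bit_xor, bit_and]
  linear_combination (-(bit u.2.1 * bit v.2.2 + bit u.2.2 * bit v.2.1) - c * (bit u.2.2 * bit v.2.2) : K) * hc

theorem val_o0 (c : K) : val c o0 = 0 := by simp [val, o0, bit]

theorem val_o1 (c : K) : val c o1 = 1 := by simp [val, o1, bit]

theorem val_bit (c : K) (b : Bool) : val c (b, false, false) = bit b := by simp [val, bit]

end H35.D4Cover.Two
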