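import Cfsg.Agent.H35.D4Cover.Regular
import Cfsg.Agent.H35.D4Cover.TwoModel

/-!
³D₄(2): every nontrivial element is a product of two conjugates of the element.
-/

set_option autoImplicit false
set_option linter.unusedSectionVars false
set_option linter.unusedSimpArgs false

open Cfsg.Lie
open scoped MatrixGroups

namespace H35.D4Cover.Two

open D4Min (Frob tc nb na Nm Tr raw Fx)

variable {K : Type*} [Field K] [Fintype K] [CharP K 2] {f : K ≃+* K} (hf : Frob 2 f)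
  (hK : Fintype.card K = 2 ^ 3)

local notation "x" => H52.rt chevD4

include hf

theorem f_sq (z : K) : f z = z * z := by rw [hf.eq, pow_two]

theorem fix_or {z : K} (h : f z = z) : z = 0 ∨ z = 1 := by
  rw [f_sq hf] at h
  by_cases h0 : z = 0
  · exact Or.inl h0
  · exact Or.inr (mul_left_cancel₀ h0 (by rw [h, mul_one]))

theorem fix_one {z : K} (h : f z = z) (h0 : z ≠ 0) : z = 1 := (fix_or hf h).resolve_left h0

theorem Nm_one {z : K} (h : z ≠ 0) : Nm f z = 1 :=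
  fix_one hf (Nm_fix hf z) (mul_ne_zero (mul_ne_zero h ((map_ne_zero f).2 h)) ((map_ne_zero f).2 ((map_ne_zero f).2 h)))

theorem nG_one (γ : Kˣ) : nG f γ = 1 := by
  apply Units.ext
  have h : (nG f γ).1 = !![Nm f (γ : K), 0; 0, 1] := rfl
  rw [h, Nm_one hf γ.ne_zero, Units.val_one, Matrix.one_fin_two]

theorem det_one {M : GL (Fin 2) K} (hM : M ∈ FX f) : M.1.det = 1 := by
  refine fix_one hf ?_ ((Matrix.isUnit_iff_isUnit_det M.1).1 M.isUnit).ne_zero
  rw [Matrix.det_fin_two, map_sub, map_mul, map_mul]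
  simp only [mem_FX.1 hM]

omit hf

/-- Even matrices. -/
def Ev (M : GL (Fin 2) K) : Prop := M.1 = 1 ∨ M.1 0 0 + M.1 1 1 ≠ 0

include hf

theorem Ev_split {M : GL (Fin 2) K} (h : Ev M) :
    M.1 = !![(1 : K), 0; 0, 1] ∨
      (¬ (M.1 0 1 = 0 ∧ M.1 1 0 = 0 ∧ M.1 0 0 = M.1 1 1) ∧ M.1 0 0 + M.1 1 1 ≠ 2 * (1 : K)) := by
  rcases h with h | h
  · exact Or.inl (by rw [h, Matrix.one_fin_two])
  · refine Or.inr ⟨fun e => h (by rw [e.2.2, CharTwo.add_self_eq_zero]), ?_⟩
    intro e; exact h (by linear_combination e + CharTwo.two_eq_zero (R := K))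

theorem parity {M : GL (Fin 2) K} (hM : M ∈ FX f) (h : ¬ Ev M) : Ev (uG (-1 : K) * M) := by
  simp only [Ev, not_or, not_not] at h
  obtain ⟨h1, h2⟩ := h
  have he : (uG (-1 : K) * M).1 = !![M.1 0 0 + M.1 1 0, M.1 0 1 + M.1 1 1; M.1 1 0, M.1 1 1] := by
    rw [Units.val_mul, uG_val]
    ext i j
    fin_cases i <;> fin_cases j <;> simp [Matrix.mul_apply, Fin.sum_univ_two, CharTwo.neg_eq]
  by_cases h10 : M.1 1 0 = 0
  · left
    have e00 : M.1 0 0 = M.1 1 1 := CharTwo.add_eq_zero.1 h2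
    have hd := det_one hf hM
    rw [Matrix.det_fin_two, h10, mul_zero, sub_zero, e00] at hd
    have e11 : M.1 1 1 = 1 := by
      refine fix_one hf (mem_FX.1 hM 1 1) fun e => ?_
      rw [e, mul_zero] at hd
      exact zero_ne_one hd
    have e01 : M.1 0 1 = 1 := fix_one hf (mem_FX.1 hM 0 1) fun e => h1 (by
      rw [Matrix.eta_fin_two M.1, e00, e11, e, h10, Matrix.one_fin_two])
    rw [he, e00, e11, e01, h10, CharTwo.add_self_eq_zero, add_zero, Matrix.one_fin_two]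
  · right
    rw [he]
    simp
    intro e
    exact h10 (by linear_combination e - h2)

theorem conj_not_Ev {M : GL (Fin 2) K} (h : ¬ Ev M) (σ : K) :
    ¬ Ev (jG * (uG (-σ) * M * (uG (-σ))⁻¹) * jG⁻¹) := by
  simp only [Ev, not_or, not_not] at h ⊢
  refine ⟨fun e => h.1 ?_, ?_⟩
  · have e' : jG * (uG (-σ) * M * (uG (-σ))⁻¹) * jG⁻¹ = 1 := Units.ext e
    rw [conj_eq_one_iff, conj_eq_one_iff] at e'
    rw [e']; rfl
  · rw [jG_conj, uG_conj]
    simp
    linear_combination h.2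

variable (P : Par f) (hD : (P.D : K) = 1) (hreg : Par.Reg 2 P.el)
include hD hreg

theorem covL_neg {M : GL (Fin 2) K} (hM : M ∈ FX f) (h : Ev M) : P.CovL 2 (lv f (P.c⁻¹ * P.c⁻¹, M)) := by
  have hd := det_one hf hM
  have hi : (M⁻¹ : GL (Fin 2) K).1 = !![M.1 1 1, -M.1 0 1; -M.1 1 0, M.1 0 0] := by
    rw [Matrix.coe_units_inv, Matrix.inv_def, hd, Ring.inverse_one, one_smul, Matrix.adjugate_fin_two]
  have hev : Ev M⁻¹ := by
    rcases h with h | h
    · left
      rw [show M = 1 from Units.ext h, inv_one]; rfl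
    · right
      rw [hi]
      simpa [add_comm] using h
  obtain ⟨Q, hQ, R, hR, hQR⟩ := Par.split_one P hf (inv_mem hM)
    (by rw [det_one hf (inv_mem hM), hD, one_pow]) (by rw [hD]; exact Ev_split hf hev)
  obtain ⟨-, -, -, y1, y2, y3⟩ := Par.el_conj P hf hR hreg
  obtain ⟨-, -, -, z1, z2, z3⟩ := Par.el_conj P hf hQ hreg
  refine ⟨_, _, y1, z1, y2, z2, y3, z3, ?_⟩
  rw [← map_mul]
  congr 1
  refine Prod.ext rfl ?_
  show M = R * P.A⁻¹ * R⁻¹ * (Q * P.A⁻¹ * Q⁻¹)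
  rw [← inv_inv M, hQR]
  group

/-- An even Levi part in one of the three classes. -/
theorem cov_ev {g : GL chevD4.Idx K} {a B W S E : K} {c' : Kˣ} {M : GL (Fin 2) K}
    (h : St f 2 g a B W S E c' M) (hc : c' = 1 ∨ c' = P.c * P.c ∨ c' = P.c⁻¹ * P.c⁻¹) (hM : Ev M) :
    P.Cov 2 g := by
  rcases hc with rfl | rfl | rfl
  · refine h.finish hf (Par.covL_zero P hf hreg h.hA (det_one hf h.hA) ?_)
    rcases Ev_split hf hM with e | e
    · exact Or.inl (by rw [e, Matrix.one_fin_two])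
    · exact Or.inr ⟨e.1, by simpa using e.2⟩
  · refine h.finish hf (Par.covL_one P hf hreg h.hA (by rw [det_one hf h.hA, hD, one_pow]) ?_)
    rw [hD]; exact Ev_split hf hM
  · exact h.finish hf (covL_neg hf P hD hreg h.hA hM)

include hK

/-- States with vanishing first and fourth coordinate. -/
theorem zero_good {g : GL chevD4.Idx K} {B W E : K} {c' : Kˣ} {M : GL (Fin 2) K}
    (h : St f 2 g 0 B W 0 E c' M) (hB : B ≠ 0)
    (hc : c' = 1 ∨ c' = P.c * P.c ∨ c' = P.c⁻¹ * P.c⁻¹) : P.Cov 2 g := by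
  have hq : IsPrimePow 2 := Nat.prime_two.isPrimePow
  by_cases hM : Ev M
  · exact cov_ev hf P hD hreg h hc hM
  · obtain ⟨t, ht⟩ := quad_surj hf hq hK (B := B) (W := W) (r := 1) (map_one f) hB
    obtain ⟨E', h1⟩ := St.shift hf h t
    have hk : D4Cover.loK f t 0 B W 0 = 1 := by rw [D4Cover.loK, ← ht]; ring
    rw [hk] at h1
    exact cov_ev hf P hD hreg h1 hc (parity hf h.hA hM)

/-- States reducing to the previous ones. -/
theorem ze_good {g : GL chevD4.Idx K} {a B W S E σ : K} {c' : Kˣ} {M : GL (Fin 2) K}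
    (h : St f 2 g a B W S E c' M) (ha : a ≠ 0) (hσ : f σ = σ)
    (hc : c' = 1 ∨ c' = P.c * P.c ∨ c' = P.c⁻¹ * P.c⁻¹) (hB : B - a * σ = 0)
    (hE : E - σ * S - σ * Tr f (f a * f (f a) * B) + 2 * (σ * σ * Nm f a) = 0) : P.Cov 2 g := by
  have h1 := St.conjNb hf (St.conjX14 hf h hσ)
  rw [hB, hE] at h1
  have e : (0 : K) - Tr f (f 0 * f (f 0) * a) = 0 := by simp [Tr]
  rw [e] at h1
  exact zero_good hf hK P hD hreg h1 (neg_ne_zero.2 ha) hc

variable (hc3 : (P.c : K) ^ 3 = (P.c : K) + 1)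
include hc3

local notation "φ" => val ((Par.c P : Kˣ) : K)

theorem val_sq (u : M8) : φ (sq u) = f (φ u) := by rw [sq, val_mu hc3, f_sq hf]

theorem val_tr (u : M8) : φ (tr u) = Tr f (φ u) := by
  simp only [tr, val_ad, val_sq hf hK P hD hreg hc3, Tr]

theorem val_nm (u : M8) : φ (nm u) = Nm f (φ u) := by
  simp only [nm, val_mu hc3, val_sq hf hK P hD hreg hc3, Nm]

theorem val_iv {u : M8} (h : u ≠ o0) : φ u ≠ 0 ∧ φ (iv u) = (φ u)⁻¹ := by
  have e : φ u * φ (iv u) = 1 := by rw [← val_mu hc3, inv_check u h, val_o1]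
  exact ⟨fun e0 => by rw [e0, zero_mul] at e; exact zero_ne_one e, (inv_eq_of_mul_eq_one_right e).symm⟩

theorem val_surj (z : K) : ∃ u, φ u = z := by
  classical
  have hinj : Function.Injective fun u : M8 => φ u := by
    intro u v h
    by_contra hne
    have h0 : ad u v ≠ o0 := ad_ne u v hne
    refine (val_iv hf hK P hD hreg hc3 h0).1 ?_
    rw [val_ad]
    exact CharTwo.add_eq_zero.2 h
  exact ((Fintype.bijective_iff_injective_and_card _).2 ⟨hinj, by rw [hK]; rfl⟩).2 z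

theorem val_loK (t B W S : M8) : φ (loK t B W S) = D4Cover.loK f (φ t) 0 (φ B) (φ W) (φ S) := by
  simp only [loK, D4Cover.loK, val_ad, val_mu hc3, val_sq hf hK P hD hreg hc3, val_tr hf hK P hD hreg hc3,
    val_nm hf hK P hD hreg hc3, zero_add]

theorem val_loB (t B W S : M8) : φ (loB t B W S) = D4Cover.loB f (φ t) (φ B) (φ W) (φ S) := by
  simp only [loB, D4Cover.loB, val_ad, val_mu hc3, val_sq hf hK P hD hreg hc3]

theorem val_loE (t B W S E : M8) : φ (loE t B W S E) = D4Cover.loE f (φ t) 0 (φ B) (φ W) (φ S) (φ E) := by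
  simp only [loE, D4Cover.loE, val_ad, val_mu hc3, val_sq hf hK P hD hreg hc3, val_tr hf hK P hD hreg hc3,
    val_nm hf hK P hD hreg hc3, val_loK hf hK P hD hreg hc3, val_loB hf hK P hD hreg hc3, CharTwo.sub_eq_add,
    CharTwo.neg_eq, zero_mul, add_zero]

theorem val_eS (a B S E : M8) :
    φ (eS a B S E) = φ E - 1 * φ S - 1 * Tr f (f (φ a) * f (f (φ a)) * φ B) + 2 * (1 * 1 * Nm f (φ a)) := by
  simp only [eS, val_ad, val_mu hc3, val_sq hf hK P hD hreg hc3, val_tr hf hK P hD hreg hc3,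
    CharTwo.sub_eq_add, CharTwo.two_eq_zero, one_mul, zero_mul, add_zero]

theorem ze_sound {a B W S E : M8} {g : GL chevD4.Idx K} {c' : Kˣ} {M : GL (Fin 2) K}
    (h : St f 2 g (φ a) (φ B) (φ W) (φ S) (φ E) c' M) (ha : a ≠ o0)
    (hc : c' = 1 ∨ c' = P.c * P.c ∨ c' = P.c⁻¹ * P.c⁻¹) (hz : ze a B S E = true) : P.Cov 2 g := by
  have ha' := (val_iv hf hK P hD hreg hc3 ha).1
  simp only [ze, Bool.or_eq_true, Bool.and_eq_true, beq_iff_eq] at hz
  rcases hz with ⟨hB, hE⟩ | ⟨hB, hE⟩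
  · refine ze_good hf hK P hD hreg h ha' (σ := 0) (map_zero f) hc ?_ ?_
    · rw [hB, val_o0]; simp
    · rw [hE, val_o0]; simp
  · refine ze_good hf hK P hD hreg h ha' (σ := 1) (map_one f) hc ?_ ?_
    · rw [hB]; simp
    · rw [← val_eS hf hK P hD hreg hc3, hE, val_o0]

theorem mv_sound {a B W S E gm gi : M8} {g : GL chevD4.Idx K} {M : GL (Fin 2) K}
    (h : St f 2 g (φ a) (φ B) (φ W) (φ S) (φ E) 1 M) (hM : ¬ Ev M) {γ : Kˣ} (hg : φ gm = (γ : K))
    (hgi : φ gi = (γ : K)⁻¹) (hc : γ = P.c * P.c ∨ γ = P.c⁻¹ * P.c⁻¹) (hm : mv a B W S E gm gi = true) :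
    P.Cov 2 g := by
  simp only [mv, Bool.and_eq_true, Bool.or_eq_true, beq_iff_eq, bne_iff_ne] at hm
  obtain ⟨ha, hm⟩ := hm
  obtain ⟨ha', hia⟩ := val_iv hf hK P hD hreg hc3 ha
  have hc' : γ * 1 = 1 ∨ γ * 1 = P.c * P.c ∨ γ * 1 = P.c⁻¹ * P.c⁻¹ := by rw [mul_one]; exact Or.inr hc
  have h1 := St.move hf h ha' γ
  have hNi : Nm f ((γ : K)⁻¹) = 1 := Nm_one hf (inv_ne_zero γ.ne_zero)
  set t := mu (mu (ad gm o1) (iv a)) gi
  have ht : φ t = ((γ : K) - 1) / φ a / γ := by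
    simp only [t, val_mu hc3, val_ad, val_o1, hg, hgi, hia, CharTwo.sub_eq_add, div_eq_mul_inv]
  have hk : mvK f (φ a) (φ B) (φ W) (φ S) γ = φ (loK t B W S) := by
    rw [mvK, val_loK hf hK P hD hreg hc3, ht]
  rcases hm with hm | hm
  · refine cov_ev hf P hD hreg h1 hc' ?_
    rw [hk, hm, val_o1, mvMat, nG_one hf, one_mul]
    exact parity hf h.hA hM
  · have ha2 : mu a gi ≠ o0 := by
      intro e
      have e2 := congrArg (val (P.c : K)) e
      rw [val_mu hc3, hgi, val_o0] at e2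
      exact mul_ne_zero ha' (inv_ne_zero γ.ne_zero) e2
    refine ze_sound hf hK P hD hreg hc3 (W := mu (iv (mu gi gi)) (ad W (mu t S)))
      (M := mvMat f γ (mvK f (φ a) (φ B) (φ W) (φ S) γ) M) ?_ ha2 hc' hm
    have hgg : mu gi gi ≠ o0 := by
      intro e
      have e2 := congrArg (val (P.c : K)) e
      rw [val_mu hc3, hgi, val_o0] at e2
      exact mul_ne_zero (inv_ne_zero γ.ne_zero) (inv_ne_zero γ.ne_zero) e2
    convert h1 using 1
    · rw [val_mu hc3, hgi, div_eq_mul_inv]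
    · rw [val_mu hc3, val_mu hc3, hgi, val_loB hf hK P hD hreg hc3, ht, hNi, pow_two, div_one]
    · rw [val_mu hc3, (val_iv hf hK P hD hreg hc3 hgg).2, val_mu hc3, val_ad, val_mu hc3, hgi, ht, hNi, pow_two, one_div]
    · rw [hNi, one_mul]
    · rw [val_ad, val_loE hf hK P hD hreg hc3, ht, val_mu hc3, hk]
      simp only [CharTwo.sub_eq_add]

theorem fr_sound {a B W S E gm gi : M8} {g : GL chevD4.Idx K} {M : GL (Fin 2) K}
    (h : St f 2 g (φ a) (φ B) (φ W) (φ S) (φ E) 1 M) (hM : ¬ Ev M) {γ : Kˣ} (hg : φ gm = (γ : K))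
    (hgi : φ gi = (γ : K)⁻¹) (hc : γ = P.c * P.c ∨ γ = P.c⁻¹ * P.c⁻¹) (hm : fr a B W S E gm gi = true) :
    P.Cov 2 g := by
  have h1 := St.conjNb hf h
  refine mv_sound hf hK P hD hreg hc3 (g := g) (M := jG * M * jG⁻¹) ?_ ?_ hg hgi hc hm
  · convert h1 using 1 <;>
      simp only [val_ad, val_mu hc3, val_sq hf hK P hD hreg hc3, val_tr hf hK P hD hreg hc3, CharTwo.sub_eq_add,
        CharTwo.neg_eq]
  · have := conj_not_Ev hf hM 0
    have e : uG (-(0 : K)) = 1 := by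
      apply Units.ext
      rw [uG_val, neg_zero, Units.val_one, Matrix.one_fin_two]
    rwa [e, one_mul, inv_one, mul_one] at this

theorem go_sound {B W S E gm gi : M8} {g : GL chevD4.Idx K} {M : GL (Fin 2) K}
    (h : St f 2 g 1 (φ B) (φ W) (φ S) (φ E) 1 M) (hM : ¬ Ev M) {γ : Kˣ} (hg : φ gm = (γ : K))
    (hgi : φ gi = (γ : K)⁻¹) (hc : γ = P.c * P.c ∨ γ = P.c⁻¹ * P.c⁻¹) (hm : go B W S E gm gi = true) :
    P.Cov 2 g := by
  simp only [go, Bool.or_eq_true] at hm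
  rw [← val_o1 (P.c : K)] at h
  rcases hm with (hm | hm) | hm
  · exact mv_sound hf hK P hD hreg hc3 h hM hg hgi hc hm
  · exact fr_sound hf hK P hD hreg hc3 h hM hg hgi hc hm
  · have h1 := St.conjX14 hf h (σ := 1) (map_one f)
    refine fr_sound hf hK P hD hreg hc3 (g := g) (M := uG (-1 : K) * M * (uG (-1 : K))⁻¹) ?_ ?_ hg hgi hc hm
    · convert h1 using 1
      · rw [val_ad, val_o1, mul_one, CharTwo.sub_eq_add]
      · rw [val_ad, val_o1, map_one, map_one, mul_one, mul_one]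
      · rw [val_ad, val_o1, Nm_one hf one_ne_zero, one_mul, CharTwo.sub_eq_add]
      · rw [val_eS hf hK P hD hreg hc3]
    · simp only [Ev, not_or, not_not] at hM ⊢
      refine ⟨fun e => hM.1 ?_, ?_⟩
      · have e' : uG (-1 : K) * M * (uG (-1 : K))⁻¹ = 1 := Units.ext e
        rw [conj_eq_one_iff] at e'
        rw [e']; rfl
      · rw [uG_conj]
        simp
        linear_combination hM.2

/-- The covering statement for `q = 2`. -/
theorem cov_all {g : GL chevD4.Idx K} (hg : g ∈ twistedD4 K 2) (hg1 : g ≠ 1) : P.Cov 2 g := by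
  have hq : IsPrimePow 2 := Nat.prime_two.isPrimePow
  obtain ⟨a, B, W, S, E, ha, hS, hE, l, hl, w, hw, hc⟩ := start hf hq hK hg hg1
  obtain ⟨c', A, hA, rfl⟩ := mem_LL hf hq hK hl
  have h1 := St.move hf (⟨hS, hE, hA, w, hw, hc⟩ : St f 2 g a B W S E c' A) ha c'⁻¹
  rw [inv_mul_cancel] at h1
  obtain ⟨a1, B1, W1, S1, E1, M, ha1, h1⟩ : ∃ a1 B1 W1 S1 E1 M, a1 ≠ 0 ∧ St f 2 g a1 B1 W1 S1 E1 1 M :=
    ⟨_, _, _, _, _, _, div_ne_zero ha (Units.ne_zero _), h1⟩
  by_cases hM : Ev M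
  · exact cov_ev hf P hD hreg h1 (Or.inl rfl) hM
  -- scaling
  set u := Units.mk0 a1 ha1
  set γ := (u⁻¹) ^ 4 with hγ
  have h7 : ∀ z : K, z ≠ 0 → z ^ 7 = 1 := by
    intro z hz
    have := FiniteField.pow_card_sub_one_eq_one z hz
    rw [hK] at this
    exact this
  obtain ⟨w1, hw1, hc1⟩ := h1.hw
  set T := H52.torus chevD4 (tc f γ 1) with hT
  have hTl : T = lv f (γ⁻¹, 1) := by rw [hT, tc_eq, nG_one hf]
  have hTL : T ∈ LL K 2 := by rw [hTl]; exact lv_LL hf (one_mem _)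
  have hsc : (γ : K) ^ 2 / 1 * a1 = 1 := by
    have e7 := h7 a1 ha1
    simp only [hγ, u, Units.val_pow_eq_pow_val, Units.val_inv_eq_inv_val, Units.val_mk0, div_one]
    field_simp
    linear_combination -e7
  have h2 : St f 2 g 1 ((γ : K) ^ 2 * ((1 : Kˣ) : K) / Nm f γ * B1) (Nm f γ / (γ : K) ^ 2 * W1)
      (Nm f γ / ((1 : Kˣ) : K) * S1) (((1 : Kˣ) : K) * E1) 1 M := by
    refine ⟨?_, ?_, h1.hA, T * w1 * T⁻¹, UM_conj hTL hw1, hc1.trans ⟨T, LL_tw hTL, ?_⟩⟩
    rotate_left 2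
    · have hu := torus_up hf γ 1 (map_one f)
      have hcomm : T * lv f (1, M) * T⁻¹ = lv f (1, M) := by
        rw [hTl, ← map_inv, ← map_mul, ← map_mul]
        congr 1
        exact Prod.ext (show γ⁻¹ * 1 * γ⁻¹⁻¹ = (1 : Kˣ) by simp) (show (1 : GL (Fin 2) K) * M * 1⁻¹ = M by simp)
      rw [show ∀ p r s : GL chevD4.Idx K, T * (p * r * s) * T⁻¹ = (T * p * T⁻¹) * (T * r * T⁻¹) * (T * s * T⁻¹)
        from fun p r s => by group, hcomm, hT, hu, Units.val_one, hsc]
    · simp only [Units.val_one, map_mul, map_div₀, Nm_fix hf, map_one, h1.hS]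
    · simp only [Units.val_one, one_mul, h1.hE]
  obtain ⟨Bm, hBm⟩ := val_surj hf hK P hD hreg hc3 ((γ : K) ^ 2 * ((1 : Kˣ) : K) / Nm f γ * B1)
  obtain ⟨Wm, hWm⟩ := val_surj hf hK P hD hreg hc3 (Nm f γ / (γ : K) ^ 2 * W1)
  rw [← hBm, ← hWm] at h2
  obtain ⟨s, hs⟩ : ∃ s : Bool, (Nm f γ / ((1 : Kˣ) : K) * S1 : K) = val (P.c : K) (s, false, false) := by
    rcases fix_or hf h2.hS with e | e
    · exact ⟨false, by rw [e, val_bit]; rfl⟩
    · exact ⟨true, by rw [e, val_bit]; rfl⟩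
  rw [hs] at h2
  obtain ⟨e, he⟩ : ∃ e : Bool, (((1 : Kˣ) : K) * E1 : K) = val (P.c : K) (e, false, false) := by
    rcases fix_or hf h2.hE with e | e
    · exact ⟨false, by rw [e, val_bit]; rfl⟩
    · exact ⟨true, by rw [e, val_bit]; rfl⟩
  rw [he] at h2
  have hc7 := h7 _ P.c.ne_zero
  have hg2 : φ g2 = ((P.c * P.c : Kˣ) : K) := by simp [val, g2, bit, pow_two]
  have hg5 : φ g5 = ((P.c⁻¹ * P.c⁻¹ : Kˣ) : K) := by
    simp [val, g5, bit]
    field_simp
    have two : (2 : K) = 0 := CharTwo.two_eq_zero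
    linear_combination ((P.c : K) + 1) * hc3 + ((P.c : K) ^ 2 + (P.c : K)) * two
  rcases check Bm Wm s e with hz | hz | hz
  · refine ze_sound hf hK P hD hreg hc3 (a := o1) (W := Wm) (M := M) ?_ (by decide) (Or.inl rfl) hz
    rwa [val_o1]
  · refine go_sound hf hK P hD hreg hc3 h2 hM hg2 ?_ (Or.inl rfl) hz
    rw [hg5]; simp
  · refine go_sound hf hK P hD hreg hc3 h2 hM hg5 ?_ (Or.inr rfl) hz
    rw [hg2]; simp

omit hD hreg hc3

/-- Conjugation by `w0` of the elements of the Levi subgroup. -/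
theorem w0_x14 (t : K) : w0 K * x 14 t * (w0 K)⁻¹ = x 9 (-t) ∧ w0 K * x 9 t * (w0 K)⁻¹ = x 14 (-t) := by
  have h : ∀ z : GL chevD4.Idx K, w0 K * z * (w0 K)⁻¹ =
      nb K * (na K * (nb K * (na K * (nb K * (na K * z * (na K)⁻¹) * (nb K)⁻¹) * (na K)⁻¹) * (nb K)⁻¹) *
        (na K)⁻¹) * (nb K)⁻¹ := fun z => by simp only [w0, mE]; group
  refine ⟨?_, ?_⟩
  · rw [h, D4Min.na_conj (r := 14) (s := 22) (-1) (by norm_num) (by decide +kernel) (by decide +kernel) (by decide +kernel),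
      D4Min.nb_conj (r := 22) (s := 23) 1 (by norm_num) (by decide +kernel),
      D4Min.na_conj (r := 23) (s := 23) 1 (by norm_num) (by decide +kernel) (by decide +kernel) (by decide +kernel),
      D4Min.nb_conj (r := 23) (s := 22) (-1) (by norm_num) (by decide +kernel),
      D4Min.na_conj (r := 22) (s := 14) 1 (by norm_num) (by decide +kernel) (by decide +kernel) (by decide +kernel),
      D4Min.nb_conj (r := 14) (s := 9) (-1) (by norm_num) (by decide +kernel)]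
    congr 1; push_cast; ring
  · rw [h, D4Min.na_conj (r := 9) (s := 1) (-1) (by norm_num) (by decide +kernel) (by decide +kernel) (by decide +kernel),
      D4Min.nb_conj (r := 1) (s := 0) 1 (by norm_num) (by decide +kernel),
      D4Min.na_conj (r := 0) (s := 0) 1 (by norm_num) (by decide +kernel) (by decide +kernel) (by decide +kernel),
      D4Min.nb_conj (r := 0) (s := 1) (-1) (by norm_num) (by decide +kernel),
      D4Min.na_conj (r := 1) (s := 9) 1 (by norm_num) (by decide +kernel) (by decide +kernel) (by decide +kernel),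
      D4Min.nb_conj (r := 9) (s := 14) (-1) (by norm_num) (by decide +kernel)]
    congr 1; push_cast; ring

/-- The element is regular. -/
theorem reg (hτ : (P.τ : K) = 1) (hD : (P.D : K) = 1) (hc : f (P.c : K) ≠ P.c) : Par.Reg 2 P.el := by
  have hq : IsPrimePow 2 := Nat.prime_two.isPrimePow
  have two : (2 : K) = 0 := CharTwo.two_eq_zero
  have hA : P.A.1 = !![0, -1; 1, 1] := by rw [Par.A_val P hf, hD, hτ]
  have hA3 : P.A ^ 3 = 1 := by
    apply Units.ext
    rw [pow_three, Units.val_mul, Units.val_mul, hA, Units.val_one]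
    ext i j
    fin_cases i <;> fin_cases j <;> simp [Matrix.mul_apply, Fin.sum_univ_two, CharTwo.neg_eq, CharTwo.add_self_eq_zero]
  have hc7 : P.c ^ 7 = 1 := by
    apply Units.ext
    have := FiniteField.pow_card_sub_one_eq_one (P.c : K) P.c.ne_zero
    rw [hK] at this
    simpa using this
  set γ := (P.c ^ 3)⁻¹ with hγ
  set T := H52.torus chevD4 (tc f γ 1) with hT
  have he3 : P.el ^ 3 = T := by
    rw [hT, tc_eq, nG_one hf, hγ, inv_inv, Par.el, ← map_pow, Prod.pow_mk, hA3]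
  have he7 : P.el ^ 7 = x 14 1 * x 9 1 := by
    have hA7 : P.A ^ 7 = P.A := by
      rw [show (7 : ℕ) = 3 * 2 + 1 by norm_num, pow_succ, pow_mul, hA3, one_pow, one_mul]
    have e : nb K * x 14 (1 : K) = x 14 1 * x 9 1 := by
      rw [nb_eq, show (x 14 (1 : K) * x 9 (-1) * x 14 1) * x 14 1 = x 14 1 * x 9 (-1) * (x 14 1 * x 14 1) by group,
        D4Min.x_mul, CharTwo.add_self_eq_zero, D4Min.x_zero, mul_one, CharTwo.neg_eq]
    rw [← e, Par.el, ← map_pow, Prod.pow_mk, hc7, hA7, nb_lv f, x14_eq f, ← map_mul]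
    congr 1
    refine Prod.ext (one_mul 1).symm ?_
    show P.A = jG * uG (-1 : K)
    apply Units.ext
    rw [Units.val_mul, jG_val, uG_val, hA]
    ext i j
    fin_cases i <;> fin_cases j <;> simp [Matrix.mul_apply, Fin.sum_univ_two, CharTwo.neg_eq]
  have hγ2 : (γ : K) ^ 2 ≠ 1 := by
    intro e
    have e1 : ((γ : K) - 1) ^ 2 = 0 := by linear_combination e - ((γ : K) - 1) * two
    have e2 : γ = 1 := Units.ext (sub_eq_zero.1 (sq_eq_zero_iff.1 e1))
    rw [hγ, inv_eq_one] at e2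
    apply hc
    have e3 : P.c = 1 := by
      calc P.c = (P.c ^ 7) * (((P.c ^ 3) ^ 2)⁻¹) := by group
        _ = 1 := by rw [hc7, e2]; simp
    rw [e3]; simp
  -- elements of the radical fixed by both
  have key : ∀ u ∈ UP K 2, Commute u T → Commute u (x 14 1 * x 9 1) → u = 1 := by
    intro u hu h1 h2
    obtain ⟨a, B, W, S, E, hS, hE, rfl⟩ := mem_UP hf hq hK hu
    have e1 := torus_up hf γ 1 (map_one f) a B W S E
    rw [← hT, h1.symm.eq, mul_inv_cancel_right] at e1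
    obtain ⟨ea, eB, eW, -, -⟩ := up_inj hf e1
    rw [Nm_one hf γ.ne_zero] at eB eW
    simp only [Units.val_one, div_one, mul_one] at ea eB eW
    have z : ∀ {v : K}, v = (γ : K) ^ 2 * v → v = 0 := fun e => by
      by_contra hv
      exact hγ2 (mul_right_cancel₀ hv (by rw [one_mul]; exact e.symm))
    have hg0 : (γ : K) ^ 2 ≠ 0 := pow_ne_zero 2 γ.ne_zero
    have ha0 := z ea
    have hB0 := z eB
    have hW0 : W = 0 := z (by rw [one_div] at eW; field_simp at eW; linear_combination -eW)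
    subst ha0 hB0 hW0
    have e2 : nb K * (x 14 1 * up f 0 0 0 S E * (x 14 1)⁻¹) * (nb K)⁻¹ = up f 0 0 0 S E := by
      have e : nb K * x 14 (1 : K) = x 14 1 * x 9 1 := by
        rw [nb_eq, show (x 14 (1 : K) * x 9 (-1) * x 14 1) * x 14 1 = x 14 1 * x 9 (-1) * (x 14 1 * x 14 1) by group,
          D4Min.x_mul, CharTwo.add_self_eq_zero, D4Min.x_zero, mul_one, CharTwo.neg_eq]
      rw [← e] at h2
      rw [show nb K * (x 14 1 * up f 0 0 0 S E * (x 14 1)⁻¹) * (nb K)⁻¹ =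
        nb K * x 14 1 * up f 0 0 0 S E * (nb K * x 14 1)⁻¹ by group, h2.symm.eq, mul_inv_cancel_right]
    rw [up0_x14 hf, up_nb hf] at e2
    obtain ⟨-, -, -, eS, eE⟩ := up_inj hf e2
    simp [Tr] at eS eE
    have hS0 : S = 0 := by linear_combination -eS - eE - S * two
    subst hS0
    have hE0 : E = 0 := by linear_combination eS
    subst hE0
    simp [up, tA_zero, raw, tvec, D4Min.x_zero]
  refine ⟨fun u hu e => ?_, fun w hw e => ?_⟩
  · have he : Commute u P.el := e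
    exact key u hu (he3 ▸ he.pow_right 3) (he7 ▸ he.pow_right 7)
  · have he : Commute w P.el := e
    have hu := w0_conj_UM hf hq hK hw
    have hc' : ∀ y, Commute w y → Commute (w0 K * w * (w0 K)⁻¹) (w0 K * y * (w0 K)⁻¹) := fun y hy =>
      hy.map (MulAut.conj (w0 K)).toMonoidHom
    have c1 := hc' _ (he3 ▸ he.pow_right 3)
    have c2 := hc' _ (he7 ▸ he.pow_right 7)
    rw [hT, w0_torus, map_inv, Commute.inv_right_iff, ← hT] at c1
    rw [show w0 K * (x 14 (1 : K) * x 9 1) * (w0 K)⁻¹ =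
      (w0 K * x 14 1 * (w0 K)⁻¹) * (w0 K * x 9 1 * (w0 K)⁻¹) by group, (w0_x14 hf hK 1).1, (w0_x14 hf hK 1).2,
      CharTwo.neg_eq] at c2
    set u := w0 K * w * (w0 K)⁻¹
    have hx : x 14 (1 : K) ∈ LL K 2 := x14_LL hf (map_one f)
    have h2 := hc'' c2
    have := key _ (UP_conj hx hu) ?_ h2
    · rw [conj_eq_one_iff, conj_eq_one_iff] at this
      exact this
    · obtain ⟨-, hTc⟩ : True ∧ Commute (x 14 (1 : K)) T := ⟨trivial, by
        rw [hT, tc_eq, nG_one hf, x14_eq f]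
        exact (show Commute (((1 : Kˣ), uG (-1 : K))) (γ⁻¹, (1 : GL (Fin 2) K)) from
          Prod.ext (by simp) (by simp)).map (lv f)⟩
      exact (hTc.mul_left c1).mul_left hTc.inv_left
where
  hc'' {u : GL chevD4.Idx K} (c2 : Commute u (x 9 (1 : K) * x 14 1)) :
      Commute (x 14 1 * u * (x 14 1)⁻¹) (x 14 1 * x 9 1) := by
    have h := c2.map (MulAut.conj (x 14 (1 : K))).toMonoidHom
    simp only [MulEquiv.coe_toMonoidHom, MulAut.conj_apply] at h
    rwa [show x 14 (1 : K) * (x 9 1 * x 14 1) * (x 14 1)⁻¹ = x 14 1 * x 9 1 by group] at h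

end H35.D4Cover.Two
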